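import Cfsg.Agent.Lib.Perm.Trans.UnitDecomp.Base
import Cfsg.Agent.Lib.Perm.Trans.UnitMax

/-!
# Spreading transvection centres over a decomposition
-/

set_option autoImplicit false
set_option linter.all false

namespace CfsgLib.Perm.Trans.Unit.Dec

open scoped Matrix
open Matrix Cfsg.Geo CfsgLib.Perm.Asch CfsgLib.Perm.Trans CfsgLib.Perm.Trans.Unit

variable {ι : Type} [Fintype ι] [DecidableEq ι] {F : Type*} [Field F] [Fintype F]
variable {σ : F ≃+* F} {f : (ι → F) → (ι → F) → F} (hf : IsUnitaryForm σ f)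
variable {t k : ℕ} {D : Fin t → Submodule F (ι → F)} (hD : IsNondegenerateMDecomposition f k D)

/-- every isotropic vector of the two members is a centre, if it has two anisotropic components -/
def PairGood (M : Subgroup (GL ι F)) (i j : Fin t) : Prop :=
  ∀ a ∈ D i, ∀ b ∈ D j, f a a ≠ 0 → f b b = -f a a → a + b ∈ centres hf M

include hf hD

/-- a vector with a given product against an isotropic vector, and a given norm -/
theorem exists_value_norm {a : Fin t} {p : ι → F} (hp : p ∈ D a) (hp0 : p ≠ 0) (hpp : f p p = 0) {s b : F}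
    (hb : σ b = b) (hb0 : b ≠ 0) (hs : s ≠ 0 ∨ 3 ≤ k) : ∃ z ∈ D a, f z z = b ∧ f z p = s := by
  obtain ⟨y, hy, hpy⟩ := (hD.nondegenerate a p hp hp0).2
  obtain ⟨h, hh, hhh, hph, hhp⟩ := exists_partner hf hp hpp hy hpy
  by_cases hs0 : s = 0
  · have h3 : 3 ≤ Module.finrank F (D a) := by
      rw [hD.decomp.finrank_eq a]
      exact hs.resolve_left (not_not.2 hs0)
    obtain ⟨w, hw, hwp, -, hww⟩ := exists_third hf (hD.nondegenerate a) h3 hp hh hpp hhh hph
    obtain ⟨c, hc⟩ := exists_norm hf (d := b / f w w) (by rw [map_div₀, hb, ← hf.herm])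
    refine ⟨c • w, (D a).smul_mem c hw, ?_, ?_⟩
    · rw [hf.smul_left, herm_smul_right hf, ← mul_assoc, hc, div_mul_cancel₀ _ hww]
    · rw [hf.smul_left, hwp, mul_zero, hs0]
  · obtain ⟨τ, hτ⟩ := exists_trace hf hb
    have hσs : σ s ≠ 0 := by simpa using hs0
    refine ⟨(τ / σ s) • p + s • h, (D a).add_mem ((D a).smul_mem _ hp) ((D a).smul_mem _ hh), ?_, ?_⟩
    · simp only [hf.add_left, herm_add_right hf, hf.smul_left, herm_smul_right hf, hpp, hhh, hph, hhp, map_div₀,
        hf.involutive]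
      field_simp
      linear_combination (σ s * s) * hτ
    · rw [hf.add_left, hf.smul_left, hf.smul_left, hpp, hhp, mul_zero, zero_add, mul_one]

/-- a vector with product one and a given norm -/
theorem exists_ratio (hk : 2 ≤ k) {i : Fin t} {x : ι → F} (hx : x ∈ D i) (hx0 : x ≠ 0) {b : F} (hb : σ b = b) :
    ∃ a ∈ D i, f x a = 1 ∧ f a a = b := by
  by_cases hxx : f x x = 0
  · obtain ⟨y, hy, hxy⟩ := (hD.nondegenerate i x hx hx0).2
    obtain ⟨h, hh, hhh, hxh, hhx⟩ := exists_partner hf hx hxx hy hxy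
    obtain ⟨τ, hτ⟩ := exists_trace hf hb
    refine ⟨h + τ • x, (D i).add_mem hh ((D i).smul_mem _ hx), ?_, ?_⟩
    · rw [herm_add_right hf, hxh, herm_smul_right hf, hxx, mul_zero, add_zero]
    · simp only [hf.add_left, herm_add_right hf, hf.smul_left, herm_smul_right hf, hxx, hhh, hxh, hhx]
      linear_combination hτ
  · obtain ⟨hnd, hfr⟩ := sub_perp hf (hD.nondegenerate i) (isNondegenerateOn_singleton hf hxx)
      ((Submodule.span_singleton_le_iff_mem _ _).2 hx)
    rw [hD.decomp.finrank_eq i, finrank_span_singleton hx0] at hfr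
    obtain ⟨q, hq, hqq⟩ := exists_anisotropic hf hnd (fun h => by rw [h, finrank_bot] at hfr; omega)
    have hqx : f q x = 0 := hq.2 x (Submodule.mem_span_singleton_self x)
    have hxq := herm_swap_zero hf hqx
    obtain ⟨c, hc⟩ := exists_norm hf (d := (b - (f x x)⁻¹) / f q q) (by
      rw [map_div₀, map_sub, hb, map_inv₀, ← hf.herm, ← hf.herm])
    refine ⟨(f x x)⁻¹ • x + c • q, (D i).add_mem ((D i).smul_mem _ hx) ((D i).smul_mem _ hq.1), ?_, ?_⟩
    · rw [herm_add_right hf, herm_smul_right hf, herm_smul_right hf, hxq, mul_zero, add_zero, map_inv₀, ← hf.herm,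
        inv_mul_cancel₀ hxx]
    · simp only [hf.add_left, herm_add_right hf, hf.smul_left, herm_smul_right hf, hxq, hqx, map_inv₀, ← hf.herm x x]
      rw [eq_div_iff hqq] at hc
      field_simp at hc ⊢
      linear_combination hc

variable {M : Subgroup (GL ι F)} (hM : M ≤ isoU f) (hH : decompositionStabilizer D ⊓ (isoU f ⊓ specialLinear ι F) ≤ M)
include hM hH

/-- a centre with two non-zero components gives a good pair -/
theorem pairGood_of_centre (hk : 2 ≤ k) {x : ι → F} (hx : x ∈ centres hf M) {i j : Fin t} (hij : i ≠ j)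
    (hi : comp hf hD i x ≠ 0) (hj : comp hf hD j x ≠ 0) : PairGood hf (D := D) M i j := by
  intro a₁ ha₁ b₁ hb₁ hne hsum
  obtain ⟨u, hu, huσ, hu1, -⟩ := exists_circ_ne hf
  have hu' : (u : F) * σ u = 1 := hu
  obtain ⟨N, hN⟩ : ∃ N, N = ((u : F) - 1) * (σ (u : F) - 1) := ⟨_, rfl⟩
  have hN0 : N ≠ 0 := hN ▸ mul_ne_zero (sub_ne_zero.2 hu1)
    (sub_ne_zero.2 fun h => hu1 (by rw [h, mul_one] at hu'; exact hu'))
  obtain ⟨r, hr⟩ : ∃ r, r = f a₁ a₁ / N := ⟨_, rfl⟩
  have hσN : σ N = N := by rw [hN, map_mul, map_sub, map_sub, map_one, hf.involutive, mul_comm]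
  have hσr : σ r = r := by rw [hr, map_div₀, hσN, ← hf.herm]
  have hr0 : r ≠ 0 := hr ▸ div_ne_zero hne hN0
  obtain ⟨a, ha, hxa, haa⟩ := exists_ratio hf hD hk (comp_mem hf hD i x) hi (b := r⁻¹)
    (by rw [map_inv₀, hσr])
  obtain ⟨b, hb, hxb, hbb⟩ := exists_ratio hf hD hk (comp_mem hf hD j x) hj (b := -r⁻¹)
    (by rw [map_neg, map_inv₀, hσr])
  rw [← form_single hf hD ha] at hxa
  rw [← form_single hf hD hb] at hxb
  have hax : f a x = 1 := by rw [hf.herm, hxa, map_one]
  have hbx : f b x = 1 := by rw [hf.herm, hxb, map_one]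
  have hab := hD.orthogonal i j hij a ha b hb
  have hba := herm_swap_zero hf hab
  obtain ⟨g₁, hg₁, hd₁, hg₁x⟩ := exists_qref hf (d := a) (by rw [haa]; exact inv_ne_zero hr0) (ζ := (u : F)) hu'
  obtain ⟨g₂, hg₂, hd₂, hg₂x⟩ := exists_qref hf (d := b) (by rw [hbb]; exact neg_ne_zero.2 (inv_ne_zero hr0))
    (ζ := σ (u : F)) (by rw [hf.involutive, mul_comm]; exact hu')
  have hg : g₁ * g₂ ∈ M := mem_of_keeps hf hD hH ((isoU f).mul_mem hg₁ hg₂)
    ((keeps_of_qref hf hD ha hg₁x).mul (keeps_of_qref hf hD hb hg₂x))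
    (by rw [Units.val_mul, det_mul, hd₁, hd₂, hu'])
  obtain ⟨d, hd⟩ : ∃ d, d = (((u : F) - 1) * r) • a + ((σ (u : F) - 1) * -r) • b := ⟨_, rfl⟩
  have hgx : ((g₁ * g₂ : GL ι F) : Matrix ι ι F) *ᵥ x = x + d := by
    rw [gl_mul_mulVec, hg₂x, hg₁x, hf.add_left, hf.smul_left, hba, mul_zero, add_zero, hxa, hxb, haa, hbb, hd,
      mul_one, mul_one, div_inv_eq_mul, div_neg, div_inv_eq_mul, mul_neg]
    abel
  have hdd : f d d = 0 := by
    rw [hd]
    simp only [hf.add_left, herm_add_right hf, hf.smul_left, herm_smul_right hf, hab, hba, haa, hbb, map_mul,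
      map_sub, map_neg, map_one, hσr, hf.involutive]
    field_simp
    ring
  have hdC : d ∈ centres hf M := by
    have hline := centres_line hf hM (centres_conj hf hM hg hx) hx (r := -1) (by
      rw [hgx, hf.add_left, hx.1, zero_add, hd, hf.add_left, hf.smul_left, hf.smul_left, hax, hbx, mul_one, mul_one]
      intro h
      have : r * ((u : F) - σ (u : F)) = 0 := by linear_combination h
      rcases mul_eq_zero.1 this with h' | h'
      · exact hr0 h'
      · exact huσ (sub_eq_zero.1 h')) (by rw [hgx, neg_one_smul, add_neg_cancel_comm]; exact hdd)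
    rwa [hgx, neg_one_smul, add_neg_cancel_comm] at hline
  obtain ⟨da, hda⟩ : ∃ da, da = (((u : F) - 1) * r) • a := ⟨_, rfl⟩
  obtain ⟨db, hdb⟩ : ∃ db, db = ((σ (u : F) - 1) * -r) • b := ⟨_, rfl⟩
  rw [hd, ← hda, ← hdb] at hdC
  have hdaD : da ∈ D i := hda ▸ (D i).smul_mem _ ha
  have hdbD : db ∈ D j := hdb ▸ (D j).smul_mem _ hb
  have hdaa : f da da = f a₁ a₁ := by
    rw [hda, hf.smul_left, herm_smul_right hf, haa, map_mul, map_sub, map_one, hσr]
    field_simp
    rw [hr, hN]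
    field_simp [hN ▸ hN0]
    exact div_self (sub_ne_zero.2 fun h => hu1 (by rw [h, mul_one] at hu'; exact hu'))
  have hdbb : f db db = f b₁ b₁ := by
    rw [hsum, ← hdaa, hda, hdb, hf.smul_left, herm_smul_right hf, hf.smul_left, herm_smul_right hf, haa, hbb,
      map_mul, map_mul, map_sub, map_sub, map_neg, map_one, hσr, hf.involutive]
    ring
  have hbb0 : f db db ≠ 0 := by rw [hdbb, hsum]; exact neg_ne_zero.2 hne
  have hperp : ∀ (c : Fin t) (w : ι → F), w ∈ D c → f w w ≠ 0 → ∃ p ∈ D c, f p p ≠ 0 ∧ f w p = 0 := by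
    intro c w hw hww
    obtain ⟨hnd, hfr⟩ := sub_perp hf (hD.nondegenerate c) (isNondegenerateOn_singleton hf hww)
      ((Submodule.span_singleton_le_iff_mem _ _).2 hw)
    rw [hD.decomp.finrank_eq c, finrank_span_singleton (fun h => hww (by rw [h, herm_zero_left hf]))] at hfr
    obtain ⟨p, hp, hpp⟩ := exists_anisotropic hf hnd (fun h => by rw [h, finrank_bot] at hfr; omega)
    exact ⟨p, hp.1, hpp, herm_swap_zero hf (hp.2 w (Submodule.mem_span_singleton_self w))⟩
  obtain ⟨p, hp, hpp, hpd⟩ := hperp j db hdbD hbb0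
  obtain ⟨g, hgM, -, hga, hgfix⟩ :=
    exists_member_move hf hD hH hij.symm hp hpp hdaD ha₁ hdaa (by rw [hdaa]; exact hne)
  have h1 := centres_conj hf hM hgM hdC
  rw [mulVec_add, hga, hgfix db (comp_other hf hD hij.symm hdbD) hpd] at h1
  obtain ⟨p', hp', hpp', hpd'⟩ := hperp i a₁ ha₁ hne
  obtain ⟨g', hg'M, -, hgb, hg'fix⟩ := exists_member_move hf hD hH hij hp' hpp' hdbD hb₁ hdbb hbb0
  have h2 := centres_conj hf hM hg'M h1
  rwa [mulVec_add, hg'fix a₁ (comp_other hf hD hij ha₁) hpd', hgb] at h2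

omit hH in
theorem comp_preimage {g : GL ι F} {π : Equiv.Perm (Fin t)}
    (h : ∀ i, ∀ x ∈ D i, (g : Matrix ι ι F) *ᵥ x ∈ D (π i)) (i : Fin t) (x : ι → F) :
    (g : Matrix ι ι F) *ᵥ comp hf hD i (((g⁻¹ : GL ι F) : Matrix ι ι F) *ᵥ x) = comp hf hD (π i) x := by
  rw [← comp_maps hf hD h, gl_mulVec_inv]

/-- one good pair gives all -/
theorem pairGood_all {i j : Fin t} (hij : i ≠ j) (h : PairGood hf (D := D) M i j) :
    ∀ a b, a ≠ b → PairGood hf (D := D) M a b := by
  intro a b hab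
  obtain ⟨π, hπi, hπj⟩ : ∃ π : Equiv.Perm (Fin t), π i = a ∧ π j = b := by
    refine ⟨Equiv.swap (Equiv.swap i a j) b * Equiv.swap i a, ?_, ?_⟩
    · rw [Equiv.Perm.mul_apply, Equiv.swap_apply_left, Equiv.swap_apply_of_ne_of_ne ?_ hab]
      intro e
      exact hij ((Equiv.swap i a).injective (by rw [Equiv.swap_apply_left]; exact e))
    · rw [Equiv.Perm.mul_apply, Equiv.swap_apply_left]
  obtain ⟨g, hg, hgD⟩ := exists_perm hf hD hH π
  intro x hx y hy hxx hyy
  obtain ⟨x', hx'def⟩ : ∃ x', x' = ((g⁻¹ : GL ι F) : Matrix ι ι F) *ᵥ x := ⟨_, rfl⟩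
  obtain ⟨y', hy'def⟩ : ∃ y', y' = ((g⁻¹ : GL ι F) : Matrix ι ι F) *ᵥ y := ⟨_, rfl⟩
  have hin : ∀ (i' a' : Fin t), π i' = a' → ∀ z ∈ D a', ((g⁻¹ : GL ι F) : Matrix ι ι F) *ᵥ z ∈ D i' := by
    intro i' a' e z hz
    have h1 := map_eq_of_maps hD (hgD i')
    rw [e] at h1
    obtain ⟨w, hw, hwz⟩ := (h1.ge hz : z ∈ (D i').map _)
    rw [Matrix.toLin'_apply] at hwz
    rw [← hwz, gl_inv_mulVec]
    exact hw
  have hinv : g⁻¹ ∈ isoU f := (isoU f).inv_mem (hM hg)
  have h1 := h x' (hx'def ▸ hin i a hπi x hx) y' (hy'def ▸ hin j b hπj y hy)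
    (by rw [hx'def, mem_isoU.1 hinv]; exact hxx) (by rw [hx'def, hy'def, mem_isoU.1 hinv, mem_isoU.1 hinv, hyy])
  have h2 := centres_conj hf hM hg h1
  rwa [mulVec_add, hx'def, hy'def, gl_mulVec_inv, gl_mulVec_inv] at h2

/-- every isotropic vector of two members is a centre -/
theorem pair_full (hex : k ≠ 2 ∨ 4 < Fintype.card F) (hall : ∀ a b, a ≠ b → PairGood hf (D := D) M a b)
    {a l : Fin t} (hal : a ≠ l) :
    ∀ u ∈ part hf hD {a, l}, f u u = 0 → u ∈ centres hf M := by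
  intro u hu huu
  obtain ⟨p, hp⟩ : ∃ p, p = comp hf hD a u := ⟨_, rfl⟩
  obtain ⟨x, hx⟩ : ∃ x, x = comp hf hD l u := ⟨_, rfl⟩
  have hpD : p ∈ D a := hp ▸ comp_mem hf hD a u
  have hxD : x ∈ D l := hx ▸ comp_mem hf hD l u
  have hu' : u = p + x := ext_comp hf hD fun i => by
    rw [comp_add]
    rcases eq_or_ne i a with rfl | hia
    · rw [comp_self hf hD hpD, comp_other hf hD hal.symm hxD, add_zero, hp]
    rcases eq_or_ne i l with rfl | hil
    · rw [comp_self hf hD hxD, comp_other hf hD hia.symm hpD, zero_add, hx]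
    rw [comp_other hf hD hia.symm hpD, comp_other hf hD hil.symm hxD, add_zero]
    exact hu i (by simp [hia, hil])
  have hpx := hD.orthogonal a l hal p hpD x hxD
  have hxp := herm_swap_zero hf hpx
  have hNx : f x x = -f p p := by
    rw [hu', hf.add_left, herm_add_right hf, herm_add_right hf, hpx, hxp] at huu
    linear_combination huu
  rw [hu']
  by_cases hpp : f p p = 0
  swap
  · exact hall a l hal p hpD x hxD hpp hNx
  rw [hpp, neg_zero] at hNx
  by_cases hp0 : p = 0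
  · rw [hp0, zero_add]
    exact member_centre hf hD hH hxD hNx
  by_cases hx0 : x = 0
  · rw [hx0, add_zero]
    exact member_centre hf hD hH hpD hpp
  have hk2 : 2 ≤ k := by
    by_contra hk
    have h1 : Module.finrank F (D a) ≤ 1 := by rw [hD.decomp.finrank_eq a]; omega
    obtain ⟨y, hy, hpy⟩ := (hD.nondegenerate a p hpD hp0).2
    obtain ⟨c, rfl⟩ : ∃ c : F, c • p = y := by
      obtain ⟨c, hc⟩ := exists_smul_eq_of_finrank_eq_one (K := F) (V := D a)
        (by have := hD.decomp.pos; rw [hD.decomp.finrank_eq a]; omega) (x := ⟨p, hpD⟩)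
        (fun h0 => hp0 (congrArg Subtype.val h0)) ⟨y, hy⟩
      exact ⟨c, congrArg Subtype.val hc⟩
    rw [herm_smul_right hf, hpp, mul_zero] at hpy
    exact hpy rfl
  obtain ⟨δ, hδ, hδσ, hs⟩ : ∃ δ : F, δ ≠ 0 ∧ σ δ = -δ ∧ (1 + δ ≠ 0 ∨ 3 ≤ k) := by
    obtain ⟨δ, hδ, hδσ⟩ := exists_trace_zero hf
    by_cases h0 : 1 + δ = 0
    swap
    · exact ⟨δ, hδ, hδσ, Or.inl h0⟩
    rcases hex with hk | h4
    · exact ⟨δ, hδ, hδσ, Or.inr (by omega)⟩
    obtain ⟨q, hq, hFq, hS, -⟩ := exists_sizes hf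
    obtain ⟨r, hr0, hr1⟩ : ∃ r : {x : F // σ x = x}, (r : F) ≠ 0 ∧ (r : F) ≠ 1 := by
      classical
      by_contra hcon
      push Not at hcon
      have : Nat.card {x : F // σ x = x} ≤ 2 := by
        rw [Nat.card_eq_fintype_card, ← Finset.card_univ]
        refine le_trans (Finset.card_le_card (t := {⟨0, map_zero σ⟩, ⟨1, map_one σ⟩}) fun r _ => ?_)
          Finset.card_le_two
        by_cases h : (r : F) = 0
        · simp [show r = ⟨0, map_zero σ⟩ from Subtype.ext h]
        · simp [show r = ⟨1, map_one σ⟩ from Subtype.ext (hcon r h)]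
      rw [hS] at this
      rw [hFq, show q = 2 by omega] at h4
      omega
    refine ⟨(r : F) * δ, mul_ne_zero hr0 hδ, by rw [map_mul, r.2, hδσ, mul_neg], Or.inl fun h => hr1 ?_⟩
    have : ((r : F) - 1) * δ = 0 := by linear_combination h - h0
    exact sub_eq_zero.1 ((mul_eq_zero.1 this).resolve_right hδ)
  obtain ⟨p₁, hp₁, hp₁p₁, hp₁p⟩ := exists_value_norm hf hD hpD hp0 hpp (map_one σ) one_ne_zero hs
  obtain ⟨x₁, hx₁, hx₁x₁, hx₁x⟩ := exists_value_norm hf hD hxD hx0 hNx (s := (-1 : F)) (b := (-1 : F))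
    (by rw [map_neg, map_one]) (neg_ne_zero.2 one_ne_zero) (Or.inl (neg_ne_zero.2 one_ne_zero))
  have h1 := hall a l hal p₁ hp₁ x₁ hx₁ (by rw [hp₁p₁]; exact one_ne_zero) (by rw [hp₁p₁, hx₁x₁])
  have hp₂ : f (p - p₁) (p - p₁) = -1 := by
    rw [herm_sub_left hf, herm_sub_right hf, herm_sub_right hf, hpp, hp₁p₁, hp₁p, hf.herm p p₁, hp₁p, map_add,
      map_one, hδσ]
    ring
  have hx₂ : f (x - x₁) (x - x₁) = 1 := by
    rw [herm_sub_left hf, herm_sub_right hf, herm_sub_right hf, hNx, hx₁x₁, hx₁x, hf.herm x x₁, hx₁x, map_neg,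
      map_one]
    ring
  have h2 := hall a l hal (p - p₁) ((D a).sub_mem hpD hp₁) (x - x₁) ((D l).sub_mem hxD hx₁)
    (by rw [hp₂]; exact neg_ne_zero.2 one_ne_zero) (by rw [hp₂, hx₂, neg_neg])
  have hsum : p₁ + x₁ + (1 : F) • ((p - p₁) + (x - x₁)) = p + x := by module
  have h3 := centres_line hf hM h1 h2 (r := 1) (by
    rw [hf.add_left, herm_add_right hf, herm_add_right hf, herm_sub_right hf, herm_sub_right hf, herm_sub_right hf,
      herm_sub_right hf, hp₁p, hp₁p₁, hx₁x, hx₁x₁, hD.orthogonal a l hal p₁ hp₁ x hxD,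
      hD.orthogonal a l hal p₁ hp₁ x₁ hx₁, hD.orthogonal l a hal.symm x₁ hx₁ p hpD,
      hD.orthogonal l a hal.symm x₁ hx₁ p₁ hp₁]
    simpa using hδ) (by rw [hsum, hf.add_left, herm_add_right hf, herm_add_right hf, hpx, hxp, hpp, hNx]; simp)
  rwa [hsum] at h3

omit hH in
/-- one more member -/
theorem part_step {s : Finset (Fin t)} {l : Fin t} (hl : l ∉ s) (hs : 2 ≤ s.card)
    (hgood : k * s.card ≠ 3 ∨ 4 < Fintype.card F) (hPs : ∀ u ∈ part hf hD s, f u u = 0 → u ∈ centres hf M)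
    {a : Fin t} (ha : a ∈ s) (hPal : ∀ u ∈ part hf hD {a, l}, f u u = 0 → u ∈ centres hf M) :
    ∀ u ∈ part hf hD (insert l s), f u u = 0 → u ∈ centres hf M := by
  intro u hu huu
  obtain ⟨x, hx⟩ : ∃ x, x = comp hf hD l u := ⟨_, rfl⟩
  obtain ⟨p, hp⟩ : ∃ p, p = u - x := ⟨_, rfl⟩
  have hxD : x ∈ D l := hx ▸ comp_mem hf hD l u
  have hal : a ≠ l := fun e => hl (e ▸ ha)
  have hpP : p ∈ part hf hD s := fun i hi => by
    rw [hp, comp_sub, hx]
    rcases eq_or_ne i l with rfl | hil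
    · rw [comp_self hf hD (comp_mem hf hD i u), sub_self]
    · rw [comp_other hf hD hil.symm (comp_mem hf hD l u), sub_zero]
      exact hu i (by simp [hil, hi])
  have hxperp : x ∈ perp hf (part hf hD s) :=
    mem_perp_part hf hD fun i hi => comp_other hf hD (show l ≠ i from fun e => hl (e ▸ hi)) hxD
  have hxp : f x p = 0 := hxperp p hpP
  have hu' : u = p + x := by rw [hp, sub_add_cancel]
  have hNx : f x x = -f p p := by
    rw [hu', hf.add_left, herm_add_right hf, herm_add_right hf, hxp, herm_swap_zero hf hxp] at huu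
    linear_combination huu
  have hTv : HasTv hf M (part hf hD s) := fun z hz hzz c hc => (hPs z hz hzz).2 c hc
  have hnd := part_nondegenerate hf hD s
  have hfr := finrank_part hf hD s
  have hmove : ∀ p', p' ∈ D a → f p' p' = f p p → (∃ g ∈ M, (g : Matrix ι ι F) *ᵥ p' = p ∧
      (g : Matrix ι ι F) *ᵥ x = x) → u ∈ centres hf M := by
    rintro p' hp' hN ⟨g, hg, hgp, hgx⟩
    have h1 := hPal (p' + x) (fun i hi => by
      simp only [Finset.mem_insert, Finset.mem_singleton, not_or] at hi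
      rw [comp_add, comp_other hf hD (Ne.symm hi.1) hp', comp_other hf hD (Ne.symm hi.2) hxD, add_zero]) (by
      rw [hf.add_left, herm_add_right hf, herm_add_right hf, hN, hNx,
        hD.orthogonal a l hal p' hp' x hxD, hD.orthogonal l a hal.symm x hxD p' hp']
      ring)
    have h2 := centres_conj hf hM hg h1
    rwa [mulVec_add, hgp, hgx, ← hu'] at h2
  have h2s : 2 ≤ k * s.card := le_trans hs (Nat.le_mul_of_pos_left _ hD.decomp.pos)
  by_cases hpp : f p p = 0
  swap
  · obtain ⟨e, he, hee⟩ := exists_unit_vec hf hD a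
    obtain ⟨c, hc⟩ := exists_norm hf (d := f p p) (by rw [← hf.herm])
    have hN : f (c • e) (c • e) = f p p := by rw [hf.smul_left, herm_smul_right hf, hee, mul_one, hc]
    obtain ⟨g, hg, hgp⟩ := fixU_norm_move hf hnd (by rw [hfr]; exact h2s)
      (member_le_part hf hD ha ((D a).smul_mem c he)) hpP hN (by rw [hN]; exact hpp)
    refine hmove _ ((D a).smul_mem c he) hN ⟨g, mem_of_fix hf hnd hTv ?_ hg, hgp, hg.2 x hxperp⟩
    rwa [hfr]
  by_cases hp0 : p = 0
  · rw [hu', hp0, zero_add]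
    exact hPal x (fun i hi => by
      simp only [Finset.mem_insert, Finset.mem_singleton, not_or] at hi
      exact comp_other hf hD (Ne.symm hi.2) hxD) (by rw [hNx, hpp, neg_zero])
  by_cases hx0 : x = 0
  · rw [hu', hx0, add_zero]
    exact hPs p hpP hpp
  have hk : 2 ≤ k := by
    by_contra hk
    obtain ⟨y, hy, hxy⟩ := (hD.nondegenerate l x hxD hx0).2
    obtain ⟨c, hc⟩ := exists_smul_eq_of_finrank_eq_one (K := F) (V := D l)
      (by have := hD.decomp.pos; rw [hD.decomp.finrank_eq l]; omega) (x := ⟨x, hxD⟩)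
      (fun h0 => hx0 (congrArg Subtype.val h0)) ⟨y, hy⟩
    have hc' : c • x = y := congrArg Subtype.val hc
    rw [← hc', herm_smul_right hf, hNx, hpp, neg_zero, mul_zero] at hxy
    exact hxy rfl
  obtain ⟨e, he, he0, hee⟩ := exists_isotropic hf (W := D a) (by rw [hD.decomp.finrank_eq a]; omega)
  obtain ⟨g, hg, hge⟩ := move_iso_vec hf hTv hnd
    (by rw [hfr]; exact le_trans (by omega : 3 ≤ 2 * 2) (Nat.mul_le_mul hk hs))
    (member_le_part hf hD ha he) hpP he0 hp0 hee hpp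
  exact hmove e he (hee.trans hpp.symm) ⟨g, hg.1, hge, hg.2.2 x hxperp⟩

/-- every isotropic vector is a centre -/
theorem all_centres (ht : 2 ≤ t) (hex : k ≠ 2 ∨ 4 < Fintype.card F)
    (hall : ∀ a b, a ≠ b → PairGood hf (D := D) M a b)
    (hfour : k = 1 → Fintype.card F ≤ 4 → ∀ s : Finset (Fin t), s.card ≤ 4 →
      ∀ u ∈ part hf hD s, f u u = 0 → u ∈ centres hf M) :
    ∀ u, f u u = 0 → u ∈ centres hf M := by
  suffices h : ∀ (n : ℕ) (s : Finset (Fin t)), s.card = n → ∀ u ∈ part hf hD s, f u u = 0 → u ∈ centres hf M by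
    exact fun u huu => h _ Finset.univ rfl u (fun i hi => absurd (Finset.mem_univ i) hi) huu
  intro n
  induction n using Nat.strong_induction_on with
  | _ n ih =>
  intro s hs
  subst hs
  rcases Nat.lt_or_ge s.card 3 with h2 | h3
  · -- at most two members
    obtain ⟨a, l, hal, hsub⟩ : ∃ a l, a ≠ l ∧ s ⊆ {a, l} := by
      rcases (by omega : s.card ≤ 1 ∨ s.card = 2) with h1 | h1
      · rcases s.eq_empty_or_nonempty with rfl | ⟨a, ha⟩
        · exact ⟨⟨0, by omega⟩, ⟨1, by omega⟩, by simp [Fin.ext_iff], by simp⟩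
        · obtain ⟨l, -, hla⟩ := Finset.exists_mem_ne (s := (Finset.univ : Finset (Fin t))) (by simp; omega) a
          refine ⟨a, l, Ne.symm hla, fun x hx => ?_⟩
          rw [Finset.card_le_one.1 h1 x hx a ha]
          exact Finset.mem_insert_self _ _
      · obtain ⟨a, l, hal, rfl⟩ := Finset.card_eq_two.1 h1
        exact ⟨a, l, hal, le_rfl⟩
    intro u hu huu
    exact pair_full hf hD hM hH hex hall hal u (fun i hi => hu i (fun h => hi (hsub h))) huu
  by_cases hsmall : k = 1 ∧ Fintype.card F ≤ 4 ∧ s.card ≤ 4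
  · exact hfour hsmall.1 hsmall.2.1 s hsmall.2.2
  obtain ⟨l, hl⟩ : s.Nonempty := Finset.card_pos.1 (by omega)
  have hcard : (s.erase l).card = s.card - 1 := Finset.card_erase_of_mem hl
  obtain ⟨a, ha⟩ : (s.erase l).Nonempty := Finset.card_pos.1 (by omega)
  have hstep := part_step hf hD hM (Finset.notMem_erase l s) (by omega) ?_ (ih _ (by omega) _ rfl) ha
    (pair_full hf hD hM hH hex hall (Finset.ne_of_mem_erase ha))
  · rwa [Finset.insert_erase hl] at hstep
  · rw [hcard]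
    by_contra hcon
    push Not at hcon
    obtain ⟨h3', h4⟩ := hcon
    have hk : k ≤ 1 := by
      by_contra hk
      have := Nat.mul_le_mul (show 2 ≤ k by omega) (show 2 ≤ s.card - 1 by omega)
      omega
    have hk1 : k = 1 := by have := hD.decomp.pos; omega
    rw [hk1, one_mul] at h3'
    exact hsmall ⟨hk1, h4, by omega⟩

end CfsgLib.Perm.Trans.Unit.Dec
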