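import Cfsg.Agent.Lib.Perm.Trans.UnitDecomp.Escape
import Cfsg.Agent.Lib.Perm.Trans.UnitDecomp.Spread

/-!
# Orthonormal frames over the field with four elements
-/

set_option autoImplicit false
set_option linter.all false

namespace CfsgLib.Perm.Trans.Unit.Dec

open scoped Matrix
open Matrix Cfsg.Geo CfsgLib.Perm.Asch CfsgLib.Perm.Trans CfsgLib.Perm.Trans.Unit

variable {ι : Type} [Fintype ι] [DecidableEq ι] {F : Type*} [Field F] [Fintype F]
variable {σ : F ≃+* F} {f : (ι → F) → (ι → F) → F} (hf : IsUnitaryForm σ f)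
include hf

/-- the field with four elements -/
theorem small_field (hsmall : Fintype.card F ≤ 4) :
    (2 : F) = 0 ∧ (∀ x : F, σ x = x → x = 0 ∨ x = 1) ∧ ∀ x : F, x ≠ 0 → x * σ x = 1 := by
  obtain ⟨q, hq, hF, hS, -⟩ := exists_sizes hf
  have hq2 : q = 2 := by nlinarith
  rw [hq2, Nat.card_eq_two_iff' (⟨0, map_zero σ⟩ : {x : F // σ x = x})] at hS
  obtain ⟨y, -, huniq⟩ := hS
  have hfix : ∀ x : F, σ x = x → x = 0 ∨ x = 1 := fun x hx => by
    by_cases h0 : x = 0
    · exact Or.inl h0
    · have e1 := huniq ⟨1, map_one σ⟩ (fun e => one_ne_zero (congrArg Subtype.val e))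
      have e2 := huniq ⟨x, hx⟩ (fun e => h0 (congrArg Subtype.val e))
      exact Or.inr (congrArg Subtype.val (e2.trans e1.symm))
  refine ⟨?_, hfix, fun x hx => ?_⟩
  · rcases hfix (-1) (by rw [map_neg, map_one]) with h | h
    · exact absurd h (neg_ne_zero.2 one_ne_zero)
    · linear_combination -h
  · refine (hfix (x * σ x) (by rw [map_mul, hf.involutive, mul_comm])).resolve_left ?_
    exact mul_ne_zero hx (by simpa using hx)

variable {t : ℕ} {D : Fin t → Submodule F (ι → F)} (hD : IsNondegenerateMDecomposition f 1 D)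
variable (hsmall : Fintype.card F ≤ 4)
include hD hsmall

theorem form_card (x : ι → F) : f x x = ((lsupp hf hD x).card : F) := by
  rw [form_line hf hD x x, ← Finset.sum_subset (Finset.subset_univ (lsupp hf hD x)),
    Finset.sum_congr rfl (g := fun _ => (1 : F)) fun i hi =>
      (small_field hf hsmall).2.2 _ ((mem_lsupp hf hD).1 hi), Finset.sum_const, nsmul_one]
  intro i _ hi
  rw [mem_lsupp, not_not] at hi
  rw [hi, zero_mul]

theorem even_supp {x : ι → F} (hx : f x x = 0) : Even (lsupp hf hD x).card := by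
  by_contra h
  obtain ⟨m, hm⟩ := Nat.not_even_iff_odd.1 h
  rw [form_card hf hD hsmall, hm] at hx
  push_cast at hx
  exact one_ne_zero (by linear_combination hx - (m : F) * (small_field hf hsmall).1)

variable {M : Subgroup (GL ι F)} (hM : M ≤ isoU f) (hH : decompositionStabilizer D ⊓ (isoU f ⊓ specialLinear ι F) ≤ M)
include hM hH

omit hM in
/-- the isotropic vectors on two lines are centres -/
theorem seed_centre {a b : Fin t} (hab : a ≠ b) {γ : F} (hγ : γ ≠ 0) :
    bv hf hD a + γ • bv hf hD b ∈ centres hf M := by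
  obtain ⟨h2, hfix, hnorm⟩ := small_field hf hsmall
  obtain ⟨d, hd⟩ : ∃ d, d = bv hf hD a + γ • bv hf hD b := ⟨_, rfl⟩
  have hu' := hnorm γ hγ
  rw [← hd]
  have hdd : f d d = 0 := by
    rw [hd, hf.add_left, herm_add_right hf, herm_add_right hf, hf.smul_left, hf.smul_left, herm_smul_right hf,
      herm_smul_right hf, bv_norm hf hD, bv_norm hf hD, bv_orth hf hD hab, bv_orth hf hD hab.symm]
    linear_combination hu' + h2
  refine ⟨hdd, fun c hc => ?_⟩
  have hcs : σ c = c := by linear_combination hc - c * h2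
  rcases hfix c hcs with rfl | rfl
  · rw [zero_smul]
    exact has_zero_right _
  refine ⟨utv_orth hf hdd 1, hH ⟨stab_of_cols hf hD fun m => ?_,
    mem_isoU.2 (utv_isometry hf d hdd hc _), tv_mem_SL _ _ _⟩⟩
  rw [tv_mulVec, one_smul, hv_dot]
  by_cases hma : m = a
  · subst hma
    refine ⟨b, ?_⟩
    rw [hd, herm_add_right hf, herm_smul_right hf, bv_norm hf hD, bv_orth hf hD hab, mul_zero, add_zero,
      one_smul, ← add_assoc, show bv hf hD m + bv hf hD m = (2 : F) • bv hf hD m from (two_smul F _).symm, h2,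
      zero_smul, zero_add]
    exact (D b).smul_mem _ (bv_mem hf hD b)
  by_cases hmb : m = b
  · subst hmb
    refine ⟨a, ?_⟩
    rw [hd, herm_add_right hf, herm_smul_right hf, bv_norm hf hD, bv_orth hf hD hab.symm, zero_add,
      mul_one, show bv hf hD m + σ γ • (bv hf hD a + γ • bv hf hD m) =
        σ γ • bv hf hD a + (1 + γ * σ γ) • bv hf hD m by module, hu',
      show (1 : F) + 1 = 0 by linear_combination h2, zero_smul, add_zero]
    exact (D a).smul_mem _ (bv_mem hf hD a)
  refine ⟨m, ?_⟩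
  rw [hd, herm_add_right hf, herm_smul_right hf, bv_orth hf hD hma, bv_orth hf hD hmb, mul_zero,
    add_zero, zero_smul, add_zero]
  exact bv_mem hf hD m

omit hM in
theorem pairGood_small {i j : Fin t} (hij : i ≠ j) : PairGood hf (D := D) M i j := by
  intro a ha b hb hne hsum
  obtain ⟨A, hA⟩ : ∃ A, A = f a (bv hf hD i) := ⟨_, rfl⟩
  obtain ⟨B, hB⟩ : ∃ B, B = f b (bv hf hD j) := ⟨_, rfl⟩
  have ha' : a = A • bv hf hD i := by rw [hA, ← comp_line hf hD, comp_self hf hD ha]
  have hb' : b = B • bv hf hD j := by rw [hB, ← comp_line hf hD, comp_self hf hD hb]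
  have hA0 : A ≠ 0 := fun h => hne (by rw [ha', h, zero_smul, herm_zero_left hf])
  have hB0 : B ≠ 0 := fun h => hne (by
    have h' : f b b = 0 := by rw [hb', h, zero_smul, herm_zero_left hf]
    rw [h'] at hsum
    exact neg_eq_zero.1 hsum.symm)
  have h := centres_smul hf (seed_centre hf hD hsmall hH hij (div_ne_zero hB0 hA0)) A
  rwa [smul_add, smul_smul, mul_div_cancel₀ _ hA0, ← ha', ← hb'] at h

/-- a diagonal element with given entries off one coordinate -/
theorem exists_tor_fix (s : Finset (Fin t)) (E : Fin t → Fˣ) (hE : ∀ i, E i ∈ circ σ) {c : Fin t} (hc : c ∉ s) :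
    ∃ g ∈ M, ∀ x, (∀ i, i ∉ s → f x (bv hf hD i) = 0) →
      ∀ i, f ((g : Matrix ι ι F) *ᵥ x) (bv hf hD i) = (E i : F) * f x (bv hf hD i) := by
  classical
  obtain ⟨E', hE'⟩ : ∃ E' : Fin t → Fˣ, E' = fun i => if i ∈ s then E i else if i = c then (∏ j ∈ s, E j)⁻¹ else 1 :=
    ⟨_, rfl⟩
  have hE'c : ∀ i, E' i ∈ circ σ := fun i => by
    rw [hE']
    dsimp only
    split_ifs
    · exact hE i
    · exact (circ σ).inv_mem ((circ σ).prod_mem fun j _ => hE j)
    · exact (circ σ).one_mem
  obtain ⟨g, hg, hgk, hgd, -, hgc⟩ := exists_tor hf hD E' hE'c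
  refine ⟨g, mem_of_keeps hf hD hH hg hgk ?_, fun x hx i => ?_⟩
  · rw [hgd, ← Units.coe_prod, ← Finset.prod_subset (Finset.subset_univ (insert c s)), Finset.prod_insert hc,
      Finset.prod_congr rfl (g := E) (fun i hi => by simp [hE', hi]), hE']
    · simp [hc]
    · intro i _ hi
      rw [Finset.mem_insert, not_or] at hi
      simp [hE', hi.1, hi.2]
  · rw [hgc]
    by_cases hi : i ∈ s
    · simp [hE', hi]
    · rw [hx i hi, mul_zero, mul_zero]

omit hH in
/-- adding a centre to a twisted copy of itself -/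
theorem centre_add {e : ι → F} (he : e ∈ centres hf M) {g : GL ι F} (hg : g ∈ M) {E : Fin t → Fˣ}
    (hgE : ∀ i, f ((g : Matrix ι ι F) *ᵥ e) (bv hf hD i) = (E i : F) * f e (bv hf hD i))
    (hsum : ∑ i ∈ lsupp hf hD e, (E i : F) = 1) :
    ∃ y ∈ centres hf M, ∀ i, f y (bv hf hD i) = ((E i : F) + 1) * f e (bv hf hD i) := by
  obtain ⟨h2, -, hnorm⟩ := small_field hf hsmall
  have h1 : f ((g : Matrix ι ι F) *ᵥ e) e = 1 := by
    rw [← hsum, form_line hf hD _ e, ← Finset.sum_subset (Finset.subset_univ (lsupp hf hD e))]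
    · refine Finset.sum_congr rfl fun i hi => ?_
      rw [hgE, mul_assoc, hnorm _ ((mem_lsupp hf hD).1 hi), mul_one]
    · intro i _ hi
      rw [mem_lsupp, not_not] at hi
      rw [hgE, hi, mul_zero, zero_mul]
  have hge := centres_conj hf hM hg he
  refine ⟨_, centres_line hf hM hge he (r := 1) (by rw [h1]; exact one_ne_zero) ?_, fun i => ?_⟩
  · rw [herm_line hf, hge.1, he.1, hf.herm e ((g : Matrix ι ι F) *ᵥ e), h1, map_one]
    linear_combination h2
  · rw [hf.add_left, hf.smul_left, hgE]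
    ring

/-- a centre on four lines -/
theorem exists_four (ht : 7 ≤ t) {g : GL ι F} (hg : g ∈ M) (hgs : g ∉ decompositionStabilizer D) :
    ∃ z ∈ centres hf M, (lsupp hf hD z).card = 4 := by
  classical
  obtain ⟨h2, hfix, hnorm⟩ := small_field hf hsmall
  have hcast : ∀ {n : ℕ}, Even n → (n : F) = 0 := fun {n} ⟨m, hm⟩ => by
    rw [hm]; push_cast; linear_combination (m : F) * h2
  obtain ⟨u, hu, hu1⟩ := exists_circ_notMem (σ := σ) (s := {1})
    (by rw [Finset.card_singleton]; have := three_le_circ hf; omega)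
  rw [Finset.mem_singleton] at hu1
  have hui : ((u⁻¹ : Fˣ) : F) = σ u := (circ_sigma hu).symm
  have hu' : (u : F) * σ u = 1 := hu
  have htr : (u : F) + σ u = 1 := by
    refine (hfix _ (by rw [map_add, hf.involutive, add_comm])).resolve_left fun h => ?_
    rcases hfix (u : F) (by linear_combination h - (u : F) * h2) with h' | h'
    · exact Units.ne_zero u h'
    · exact hu1 h'
  have hu1' : (u : F) + 1 ≠ 0 := fun h => hu1 (by linear_combination h - h2)
  have hui1 : σ (u : F) + 1 ≠ 0 := fun h => hu1 (by linear_combination (u : F) * h - hu' - h2 + (1 - (u : F)) * 0)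
  obtain ⟨a, b, hab, w, hw, hwide⟩ := exists_wide hf hD (by omega) (hM hg) hgs (Or.inr fun l h => by
    have h' := form_card hf hD hsmall ((g : Matrix ι ι F) *ᵥ bv hf hD l)
    rw [mem_isoU.1 (hM hg), bv_norm hf hD, h] at h'
    exact one_ne_zero (by rw [h']; exact_mod_cast h2))
  have he := centres_conj hf hM hg (seed_centre hf hD hsmall hH hab (Units.ne_zero w))
  rw [mulVec_add, mulVec_smul] at he
  -- avoid a full support
  obtain ⟨e, he, h4, hlt⟩ : ∃ e ∈ centres hf M, 4 ≤ (lsupp hf hD e).card ∧ (lsupp hf hD e).card < t := by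
    obtain ⟨m, hm⟩ := even_supp hf hD hsmall he.1
    rcases Nat.lt_or_ge (lsupp hf hD ((g : Matrix ι ι F) *ᵥ bv hf hD a +
      (w : F) • ((g : Matrix ι ι F) *ᵥ bv hf hD b))).card t with hlt | hge
    · exact ⟨_, he, by omega, hlt⟩
    obtain ⟨e, hedef⟩ : ∃ e, e = (g : Matrix ι ι F) *ᵥ bv hf hD a +
      (w : F) • ((g : Matrix ι ι F) *ᵥ bv hf hD b) := ⟨_, rfl⟩
    rw [← hedef] at he hge hm
    have huniv : lsupp hf hD e = Finset.univ := Finset.eq_univ_of_card _ (le_antisymm
      (Finset.card_le_univ _) (by rw [Fintype.card_fin]; exact hge))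
    obtain ⟨A, -, hA⟩ := Finset.exists_subset_card_eq (s := (Finset.univ : Finset (Fin t))) (n := 3) (by simp; omega)
    obtain ⟨B, hBA, hB⟩ := Finset.exists_subset_card_eq (s := Aᶜ) (n := 3)
      (by rw [Finset.card_compl, Fintype.card_fin, hA]; omega)
    have hdisj : Disjoint A B := Finset.disjoint_left.2 fun x hx hxB => Finset.mem_compl.1 (hBA hxB) hx
    let E : Fin t → Fˣ := fun i => if i ∈ A then u else if i ∈ B then u⁻¹ else 1
    have hE : ∀ i, E i ∈ circ σ := fun i => by
      simp only [E]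
      split_ifs
      · exact hu
      · exact (circ σ).inv_mem hu
      · exact (circ σ).one_mem
    have hEA : ∀ i ∈ A, E i = u := fun i hi => if_pos hi
    have hEB : ∀ i ∈ B, E i = u⁻¹ := fun i hi => by
      simp [E, hi, Finset.disjoint_right.1 hdisj hi]
    have hEC : ∀ i ∈ (A ∪ B)ᶜ, E i = 1 := fun i hi => by
      rw [Finset.mem_compl, Finset.mem_union, not_or] at hi
      simp [E, hi.1, hi.2]
    obtain ⟨r, hr, hrk, hrd, -, hrc⟩ := exists_tor hf hD E hE
    have hrM : r ∈ M := mem_of_keeps hf hD hH hr hrk (by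
      rw [hrd, ← Units.coe_prod, ← Finset.prod_mul_prod_compl (A ∪ B), Finset.prod_union hdisj,
        Finset.prod_congr rfl hEA, Finset.prod_congr rfl hEB, Finset.prod_congr rfl hEC, Finset.prod_const,
        Finset.prod_const, Finset.prod_const_one, hA, hB, mul_one, inv_pow, mul_inv_cancel, Units.val_one])
    have hC : (((A ∪ B)ᶜ).card : F) = 0 := hcast ⟨m - 3, by
      rw [Finset.card_compl, Fintype.card_fin, Finset.card_union_of_disjoint hdisj, hA, hB]
      rw [huniv, Finset.card_univ, Fintype.card_fin] at hm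
      omega⟩
    obtain ⟨y, hy, hyc⟩ := centre_add hf hD hsmall hM he hrM (fun i => hrc e i) (by
      rw [huniv, ← Finset.sum_add_sum_compl (A ∪ B), Finset.sum_union hdisj,
        Finset.sum_congr (s₁ := A) rfl (g := fun _ => (u : F)) (fun i hi => by rw [hEA i hi]),
        Finset.sum_congr (s₁ := B) rfl (g := fun _ => σ (u : F)) (fun i hi => by rw [hEB i hi, hui]),
        Finset.sum_congr (s₁ := (A ∪ B)ᶜ) rfl (g := fun _ => (1 : F)) (fun i hi => by rw [hEC i hi, Units.val_one]),
        Finset.sum_const, Finset.sum_const, Finset.sum_const, hA, hB, nsmul_one, hC]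
      simp only [nsmul_eq_mul]
      push_cast
      linear_combination 3 * htr + h2)
    have hys : lsupp hf hD y = A ∪ B := by
      ext i
      rw [mem_lsupp, hyc, mul_ne_zero_iff, ← mem_lsupp hf hD (x := e), huniv]
      simp only [Finset.mem_univ, and_true, Finset.mem_union]
      by_cases hiA : i ∈ A
      · simp [hiA, hEA i hiA, hu1']
      by_cases hiB : i ∈ B
      · simp [hiB, hEB i hiB, hui, hui1]
      simp [hiA, hiB, hEC i (by simp [hiA, hiB]), show (1 : F) + 1 = 0 by linear_combination h2]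
    refine ⟨y, hy, ?_, ?_⟩ <;> rw [hys, Finset.card_union_of_disjoint hdisj] <;> omega
  -- reduce to four lines
  obtain ⟨K, hK, hKc⟩ := Finset.exists_subset_card_eq h4
  obtain ⟨o, ho⟩ := Finset.card_pos.1 (show 0 < K.card by omega)
  obtain ⟨c, -, hc⟩ := Finset.exists_mem_notMem_of_card_lt_card (s := lsupp hf hD e)
    (t := (Finset.univ : Finset (Fin t))) (by simpa using hlt)
  let E : Fin t → Fˣ := fun i => if i = o then u⁻¹ else if i ∈ K then u else 1
  have hE : ∀ i, E i ∈ circ σ := fun i => by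
    simp only [E]
    split_ifs
    · exact (circ σ).inv_mem hu
    · exact hu
    · exact (circ σ).one_mem
  obtain ⟨r, hr, hrc⟩ := exists_tor_fix hf hD hsmall hM hH _ E hE hc
  have hcard : (((lsupp hf hD e) \ K).card : F) = 0 := by
    obtain ⟨m, hm⟩ := even_supp hf hD hsmall he.1
    exact hcast ⟨m - 2, by rw [Finset.card_sdiff_of_subset hK, hKc, hm]; omega⟩
  obtain ⟨y, hy, hyc⟩ := centre_add hf hD hsmall hM he hr (hrc e fun i hi => by
      rw [mem_lsupp, not_not] at hi
      exact hi) (by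
    rw [← Finset.sum_sdiff hK, ← Finset.add_sum_erase _ _ ho,
      Finset.sum_congr (s₁ := lsupp hf hD e \ K) rfl (g := fun _ => (1 : F)) (fun i hi => by
        rw [Finset.mem_sdiff] at hi
        have : i ≠ o := fun h => hi.2 (h ▸ ho)
        simp [E, this, hi.2]),
      Finset.sum_congr (s₁ := K.erase o) rfl (g := fun _ => (u : F)) (fun i hi => by
        simp [E, Finset.ne_of_mem_erase hi, Finset.mem_of_mem_erase hi]),
      Finset.sum_const, Finset.sum_const, Finset.card_erase_of_mem ho, hKc, nsmul_one, hcard]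
    simp only [E, if_pos, hui, nsmul_eq_mul]
    push_cast
    linear_combination htr + (u : F) * h2)
  refine ⟨y, hy, ?_⟩
  rw [show lsupp hf hD y = K from ?_, hKc]
  ext i
  rw [mem_lsupp, hyc, mul_ne_zero_iff, ← mem_lsupp hf hD (x := e)]
  by_cases hiK : i ∈ K
  · refine iff_of_true ⟨?_, hK hiK⟩ hiK
    by_cases hio : i = o
    · simp only [E, hio, if_pos, hui]; exact hui1
    · simp only [E, hio, hiK, if_pos, if_false]; exact hu1'
  · refine iff_of_false (fun h => h.1 ?_) hiK
    have : i ≠ o := fun h => hiK (h ▸ ho)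
    simp only [E, this, hiK, if_false, Units.val_one]
    linear_combination h2

/-- small isotropic vectors are centres -/
theorem centres_small (ht : 7 ≤ t) {g : GL ι F} (hg : g ∈ M) (hgs : g ∉ decompositionStabilizer D)
    (s : Finset (Fin t)) (hs : s.card ≤ 4) : ∀ u ∈ part hf hD s, f u u = 0 → u ∈ centres hf M := by
  classical
  intro u hu huu
  have hsub : lsupp hf hD u ⊆ s := fun i hi => by_contra fun h =>
    (mem_lsupp hf hD).1 hi ((comp_eq_zero hf hD).1 (hu i h))
  have hle := (Finset.card_le_card hsub).trans hs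
  obtain ⟨m, hm⟩ := even_supp hf hD hsmall huu
  rcases (by omega : m = 0 ∨ m = 1 ∨ m = 2) with rfl | rfl | rfl
  · rw [show u = 0 from ext_line hf hD fun i => ?_]
    · exact centres_zero hf M
    · rw [herm_zero_left hf]
      by_contra hi
      have := Finset.card_pos.2 ⟨i, (mem_lsupp hf hD).2 hi⟩
      omega
  · obtain ⟨i, j, hij, he⟩ := Finset.card_eq_two.1 hm
    refine pair_full hf hD hM hH (Or.inl (by omega)) (fun a b hab => pairGood_small hf hD hsmall hH hab) hij u
      (fun l hl => ?_) huu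
    rw [comp_eq_zero]
    by_contra h
    exact hl (he ▸ (mem_lsupp hf hD).2 h)
  obtain ⟨z, hz, hzc⟩ := exists_four hf hD hsmall hM hH ht hg hgs
  obtain ⟨e⟩ : Nonempty ({x // x ∈ lsupp hf hD z} ≃ {x // x ∈ lsupp hf hD u}) :=
    ⟨Finset.equivOfCardEq (by rw [hzc, hm])⟩
  obtain ⟨π, hπ⟩ : ∃ π : Equiv.Perm (Fin t), ∀ i, π i ∈ lsupp hf hD u ↔ i ∈ lsupp hf hD z :=
    ⟨e.extendSubtype, fun i => by
      by_cases hi : i ∈ lsupp hf hD z
      · exact iff_of_true (e.extendSubtype_mem i hi) hi
      · exact iff_of_false (e.extendSubtype_not_mem i hi) hi⟩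
  obtain ⟨p, hp, hpD⟩ := exists_perm hf hD hH π
  obtain ⟨z', hz'⟩ : ∃ z', z' = (p : Matrix ι ι F) *ᵥ z := ⟨_, rfl⟩
  have hsupp : ∀ i, f z' (bv hf hD i) = 0 ↔ f u (bv hf hD i) = 0 := fun i => by
    obtain ⟨j, rfl⟩ := π.surjective i
    rw [← comp_eq_zero hf hD, hz', comp_maps hf hD hpD, gl_mulVec_eq_zero, comp_eq_zero, ← not_iff_not]
    rw [← ne_eq, ← ne_eq, ← mem_lsupp hf hD, ← mem_lsupp hf hD]
    exact (hπ j).symm
  have hex : ∀ i, ∃ E ∈ circ σ, f u (bv hf hD i) ≠ 0 → (E : Fˣ) * f z' (bv hf hD i) = f u (bv hf hD i) := fun i => by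
    by_cases hi : f u (bv hf hD i) = 0
    · exact ⟨1, (circ σ).one_mem, fun h => absurd hi h⟩
    have hz0 : f z' (bv hf hD i) ≠ 0 := fun h => hi ((hsupp i).1 h)
    obtain ⟨E, hE, hEv⟩ := exists_circ (σ := σ) ((small_field hf hsmall).2.2 _ (div_ne_zero hi hz0))
    exact ⟨E, hE, fun _ => by rw [hEv, div_mul_cancel₀ _ hz0]⟩
  choose E hE hEv using hex
  obtain ⟨c, -, hc⟩ := Finset.exists_mem_notMem_of_card_lt_card (s := lsupp hf hD u)
    (t := (Finset.univ : Finset (Fin t))) (by simp; omega)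
  obtain ⟨r, hr, hrc⟩ := exists_tor_fix hf hD hsmall hM hH _ E hE hc
  have h := centres_conj hf hM hr (centres_conj hf hM hp hz)
  rw [← hz'] at h
  convert h using 1
  refine ext_line hf hD fun i => ?_
  rw [hrc z' (fun j hj => by rw [mem_lsupp, not_not] at hj; exact (hsupp j).2 hj)]
  by_cases hi : f u (bv hf hD i) = 0
  · rw [hi, (hsupp i).2 hi, mul_zero]
  · exact (hEv i hi).symm

end CfsgLib.Perm.Trans.Unit.Dec
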