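import Cfsg.Agent.Lib.Perm.Trans.UnitDecomp.Descent
import Cfsg.Agent.Lib.Perm.Trans.UnitDecomp.Small

/-!
# Stabilisers of orthogonal decompositions are maximal in the special unitary group
-/

set_option autoImplicit false
set_option linter.all false

namespace CfsgLib.Perm.Trans.Unit.Dec

open scoped Matrix
open Matrix Cfsg.Geo CfsgLib.Perm.Asch CfsgLib.Perm.Trans CfsgLib.Perm.Trans.Unit

variable {ι : Type} [Fintype ι] [DecidableEq ι] {F : Type*} [Field F] [Fintype F]
variable {σ : F ≃+* F} {f : (ι → F) → (ι → F) → F} (hf : IsUnitaryForm σ f)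
variable {t k : ℕ} {D : Fin t → Submodule F (ι → F)} (hD : IsNondegenerateMDecomposition f k D)
include hf hD

theorem card_eq_mul : k * t = Fintype.card ι := by
  have h : part hf hD (Finset.univ : Finset (Fin t)) = ⊤ :=
    eq_top_iff.2 fun x _ i hi => absurd (Finset.mem_univ i) hi
  have := finrank_part hf hD (Finset.univ : Finset (Fin t))
  rw [h, finrank_top, Module.finrank_fintype_fun_eq_card, Finset.card_univ, Fintype.card_fin] at this
  exact this.symm

/-- the stabiliser is proper -/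
theorem not_le_stab (hn : 3 ≤ Fintype.card ι) : ¬ isoU f ⊓ specialLinear ι F ≤ decompositionStabilizer D := by
  intro hle
  have ht := hD.decomp.two_le
  obtain ⟨i₀, hi₀⟩ : ∃ i : Fin t, i = ⟨0, by omega⟩ := ⟨_, rfl⟩
  obtain ⟨i₁, hi₁⟩ : ∃ i : Fin t, i = ⟨1, by omega⟩ := ⟨_, rfl⟩
  have h01 : i₀ ≠ i₁ := by simp [hi₀, hi₁, Fin.ext_iff]
  obtain ⟨a, ha, haa⟩ := exists_unit_vec hf hD i₀
  have ha0 : a ≠ 0 := fun h => by rw [h, herm_zero_left hf] at haa; exact zero_ne_one haa
  obtain ⟨v, hvv, hv₀, hv₁⟩ : ∃ v, f v v = 1 ∧ comp hf hD i₀ v ≠ 0 ∧ comp hf hD i₁ v ≠ 0 := by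
    rcases Nat.lt_or_ge k 2 with hk | hk
    · have hk1 : k = 1 := by have := hD.decomp.pos; omega
      have hcard := card_eq_mul hf hD
      rw [hk1, one_mul] at hcard
      obtain ⟨i₂, hi₂⟩ : ∃ i : Fin t, i = ⟨2, by omega⟩ := ⟨_, rfl⟩
      have h02 : i₀ ≠ i₂ := by simp [hi₀, hi₂, Fin.ext_iff]
      have h12 : i₁ ≠ i₂ := by simp [hi₁, hi₂, Fin.ext_iff]
      obtain ⟨b, hb, hbb⟩ := exists_unit_vec hf hD i₁
      obtain ⟨c, hc, hcc⟩ := exists_unit_vec hf hD i₂
      obtain ⟨γ, hγ⟩ := exists_norm hf (d := (-1 : F)) (by rw [map_neg, map_one])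
      have hb0 : b ≠ 0 := fun h => by rw [h, herm_zero_left hf] at hbb; exact zero_ne_one hbb
      have hγc : γ • c ∈ D i₂ := (D i₂).smul_mem γ hc
      refine ⟨a + b + γ • c, ?_, ?_, ?_⟩
      · simp only [hf.add_left, herm_add_right hf, hf.smul_left, herm_smul_right hf, haa, hbb, hcc,
          hD.orthogonal i₀ i₁ h01 a ha b hb, hD.orthogonal i₁ i₀ h01.symm b hb a ha,
          hD.orthogonal i₀ i₂ h02 a ha c hc, hD.orthogonal i₂ i₀ h02.symm c hc a ha,
          hD.orthogonal i₁ i₂ h12 b hb c hc, hD.orthogonal i₂ i₁ h12.symm c hc b hb]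
        linear_combination hγ
      · rwa [comp_add, comp_add, comp_self hf hD ha, comp_other hf hD h01.symm hb, comp_other hf hD h02.symm hγc,
          add_zero, add_zero]
      · rwa [comp_add, comp_add, comp_self hf hD hb, comp_other hf hD h01 ha, comp_other hf hD h12.symm hγc,
          zero_add, add_zero]
    · obtain ⟨r, hr, hr0, hrr⟩ := exists_isotropic hf (W := D i₁) (by rw [hD.decomp.finrank_eq i₁]; exact hk)
      refine ⟨a + r, ?_, ?_, ?_⟩
      · simp only [hf.add_left, herm_add_right hf, haa, hrr, hD.orthogonal i₀ i₁ h01 a ha r hr,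
          hD.orthogonal i₁ i₀ h01.symm r hr a ha, add_zero]
      · rwa [comp_add, comp_self hf hD ha, comp_other hf hD h01.symm hr, add_zero]
      · rwa [comp_add, comp_self hf hD hr, comp_other hf hD h01 ha, zero_add]
  obtain ⟨g, hg, hgv⟩ := fixU_norm_move hf (W := ⊤) (isNondegenerateOn_top hf)
    (by rw [finrank_top, Module.finrank_fintype_fun_eq_card]; omega) (a := a) (a' := v) Submodule.mem_top Submodule.mem_top
    (by rw [haa, hvv]) (by rw [haa]; exact one_ne_zero)
  obtain ⟨π, hπ⟩ := stab_maps (hle hg.1)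
  have hv := hπ i₀ a ha
  rw [hgv] at hv
  rcases eq_or_ne (π i₀) i₀ with e | e
  · exact hv₁ (comp_other hf hD (show π i₀ ≠ i₁ by rw [e]; exact h01) hv)
  · exact hv₀ (comp_other hf hD e hv)

variable {M : Subgroup (GL ι F)} (hM : M ≤ isoU f) (hH : decompositionStabilizer D ⊓ (isoU f ⊓ specialLinear ι F) ≤ M)
include hM hH

/-- a centre with two components, for members of dimension at least two -/
theorem exists_split_centre (hk : 2 ≤ k) {g : GL ι F} (hg : g ∈ M) (hgs : g ∉ decompositionStabilizer D) :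
    ∃ x ∈ centres hf M, ∃ i j, i ≠ j ∧ comp hf hD i x ≠ 0 ∧ comp hf hD j x ≠ 0 := by
  by_contra hcon
  push Not at hcon
  have ht := hD.decomp.two_le
  have hside : ∀ i, ∀ z ∈ D i, f z z = 0 → ∃ m, (g : Matrix ι ι F) *ᵥ z ∈ D m := by
    intro i z hz hzz
    have hc := hcon _ (centres_conj hf hM hg (member_centre hf hD hH hz hzz))
    by_cases h : ∃ m, comp hf hD m ((g : Matrix ι ι F) *ᵥ z) ≠ 0
    · obtain ⟨m, hm⟩ := h
      exact ⟨m, eq_of_supp hf hD fun j hj => hc m j hj.symm hm⟩
    · push Not at h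
      exact ⟨⟨0, by omega⟩, eq_of_supp hf hD fun j _ => h j⟩
  have hmap : ∀ i, ∃ m, ∀ x ∈ D i, (g : Matrix ι ι F) *ᵥ x ∈ D m := by
    intro i
    obtain ⟨e, he, he0, hee⟩ := exists_isotropic hf (W := D i) (by rw [hD.decomp.finrank_eq i]; exact hk)
    obtain ⟨m, hm⟩ := hside i e he hee
    obtain ⟨y, hy, hey⟩ := (hD.nondegenerate i e he he0).2
    obtain ⟨h, hh, hhh, heh, -⟩ := exists_partner hf he hee hy hey
    refine ⟨m, fun x hx => ?_⟩
    have hle := subspace_le_of_pair hf (S := (D m).comap (Matrix.toLin' (g : Matrix ι ι F))) he hee hh hhh heh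
      (by simpa [Matrix.toLin'_apply] using hm) (fun z hz hzz hne => by
        show Matrix.toLin' (g : Matrix ι ι F) z ∈ D m
        rw [Matrix.toLin'_apply]
        obtain ⟨m', hm'⟩ := hside i z hz hzz
        rcases eq_or_ne m' m with rfl | hmm
        · exact hm'
        · exfalso
          apply hne
          rw [← mem_isoU.1 (hM hg)]
          exact hD.orthogonal m m' hmm.symm _ hm _ hm')
    simpa [Matrix.toLin'_apply] using hle hx
  choose π hπ using hmap
  have hinj : Function.Injective π := by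
    intro i j hij
    by_contra hne
    have h1 := map_eq_of_maps hD (hπ i)
    have h2 := map_eq_of_maps hD (hπ j)
    obtain ⟨a, ha, haa⟩ := exists_unit_vec hf hD i
    have h3 : Matrix.toLin' (g : Matrix ι ι F) a ∈ (D j).map (Matrix.toLin' (g : Matrix ι ι F)) := by
      rw [h2, ← hij, ← h1]
      exact Submodule.mem_map_of_mem ha
    obtain ⟨b, hb, hba⟩ := h3
    rw [Matrix.toLin'_apply, Matrix.toLin'_apply] at hba
    have := congrArg (fun v => ((g⁻¹ : GL ι F) : Matrix ι ι F) *ᵥ v) hba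
    simp only [gl_inv_mulVec] at this
    rw [hD.orthogonal i j hne a ha a (this ▸ hb)] at haa
    exact zero_ne_one haa
  exact hgs (stab_of_maps hD (Equiv.ofBijective π (Finite.injective_iff_bijective.1 hinj)) hπ)

omit hM hH in
/-- stabilisers of orthogonal decompositions are maximal, also in dimensions ten and twelve -/
theorem decomposition_maximal' (hn : 4 ≤ Fintype.card ι)
    (hline : k = 1 → Fintype.card ι = 10 ∨ Fintype.card ι = 12 ∨ 13 ≤ Fintype.card ι)
    (hex : k ≠ 2 ∨ 4 < Fintype.card F) :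
    IsMaximalIn (isoU f ⊓ specialLinear ι F) (decompositionStabilizer D ⊓ (isoU f ⊓ specialLinear ι F)) := by
  refine isMaximalIn_of_centres hf (by omega) (not_le_stab hf hD (by omega)) fun M hHM hM hne => ?_
  have hMiso : M ≤ isoU f := hM.trans inf_le_left
  obtain ⟨g, hg, hgs⟩ := SetLike.not_le_iff_exists.1 hne
  have ht := hD.decomp.two_le
  rcases Nat.lt_or_ge k 2 with hk | hk
  · obtain rfl : k = 1 := by have := hD.decomp.pos; omega
    have ht13 : t = 10 ∨ t = 12 ∨ 13 ≤ t := by have := card_eq_mul hf hD; have := hline rfl; omega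
    refine all_centres hf hD hMiso hHM ht hex ?_ fun _ hsmall => centres_small hf hD hsmall hMiso hHM (by omega) hg hgs
    rcases Nat.lt_or_ge 4 (Fintype.card F) with h4 | h4
    · obtain ⟨i, j, hij, hgood⟩ := exists_pairGood_line hf hD hMiso hHM ht13 h4 hg hgs
      exact pairGood_all hf hD hMiso hHM hij hgood
    · exact fun a b hab => pairGood_small hf hD h4 hHM hab
  · obtain ⟨x, hx, i, j, hij, hi, hj⟩ := exists_split_centre hf hD hMiso hHM hk hg hgs
    exact all_centres hf hD hMiso hHM ht hex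
      (pairGood_all hf hD hMiso hHM hij (pairGood_of_centre hf hD hMiso hHM hk hx hij hi hj))
      (fun h => absurd h (by omega))

omit hM hH in
/-- stabilisers of orthogonal decompositions are maximal -/
theorem decomposition_maximal (hn : 13 ≤ Fintype.card ι) (hex : k ≠ 2 ∨ 4 < Fintype.card F) :
    IsMaximalIn (isoU f ⊓ specialLinear ι F) (decompositionStabilizer D ⊓ (isoU f ⊓ specialLinear ι F)) :=
  decomposition_maximal' hf hD (by omega) (fun _ => Or.inr (Or.inr hn)) hex

end CfsgLib.Perm.Trans.Unit.Dec
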