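import Cfsg.Agent.Lib.Perm.Trans.UnitSubfMax

/-!
# Scalars of norm one

The circle `ζ * σ ζ = 1` of a finite field with involution: its size, and the sums of its multiples.
-/

set_option autoImplicit false
set_option linter.all false

namespace CfsgLib.Perm.Trans.Unit

open scoped Matrix
open Matrix Cfsg.Geo CfsgLib.Perm.Asch CfsgLib.Perm.Trans

variable {ι : Type} [Fintype ι] [DecidableEq ι] {F : Type*} [Field F] [Fintype F]
variable {σ : F ≃+* F} {f : (ι → F) → (ι → F) → F}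

/-- the units of norm one -/
def circ (σ : F ≃+* F) : Subgroup Fˣ where
  carrier := {u | (u : F) * σ u = 1}
  one_mem' := by simp
  mul_mem' := fun {a b} ha hb => by
    show ((a * b : Fˣ) : F) * σ ((a * b : Fˣ) : F) = 1
    simp only [Set.mem_setOf_eq] at ha hb
    rw [Units.val_mul, map_mul]
    linear_combination ((b : F) * σ b) * ha + hb
  inv_mem' := fun {a} ha => by
    show ((a⁻¹ : Fˣ) : F) * σ ((a⁻¹ : Fˣ) : F) = 1
    rw [Units.val_inv_eq_inv_val, map_inv₀, ← mul_inv]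
    exact inv_eq_one.2 ha

theorem mem_circ {u : Fˣ} : u ∈ circ σ ↔ (u : F) * σ u = 1 := Iff.rfl

theorem exists_circ {x : F} (hx : x * σ x = 1) : ∃ u ∈ circ σ, (u : F) = x :=
  ⟨Units.mk0 x (left_ne_zero_of_mul_eq_one hx), hx, rfl⟩

theorem circ_sigma {u : Fˣ} (hu : u ∈ circ σ) : σ (u : F) = ((u⁻¹ : Fˣ) : F) := by
  rw [Units.val_inv_eq_inv_val]
  exact eq_inv_of_mul_eq_one_right hu

theorem exists_circ_notMem {s : Finset F} (hs : s.card < Nat.card (circ σ)) :
    ∃ u ∈ circ σ, (u : F) ∉ s := by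
  by_contra hcon
  push Not at hcon
  have h := Nat.card_le_card_of_injective (fun u : circ σ => (⟨((u : Fˣ) : F), hcon u u.2⟩ : {x // x ∈ s}))
    (fun a b h => Subtype.ext (Units.ext (congrArg Subtype.val h)))
  simp at h
  omega

/-- a quadratic polynomial with three roots vanishes -/
theorem quad_zero {a b c x y z : F} (hxy : x ≠ y) (hxz : x ≠ z) (hyz : y ≠ z)
    (hx : a + b * x + c * x ^ 2 = 0) (hy : a + b * y + c * y ^ 2 = 0) (hz : a + b * z + c * z ^ 2 = 0) :
    a = 0 ∧ b = 0 ∧ c = 0 := by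
  have h1 : b + c * (x + y) = 0 := by
    refine (mul_eq_zero.1 (?_ : (x - y) * (b + c * (x + y)) = 0)).resolve_left (sub_ne_zero.2 hxy)
    linear_combination hx - hy
  have h2 : b + c * (x + z) = 0 := by
    refine (mul_eq_zero.1 (?_ : (x - z) * (b + c * (x + z)) = 0)).resolve_left (sub_ne_zero.2 hxz)
    linear_combination hx - hz
  have hc : c = 0 := by
    refine (mul_eq_zero.1 (?_ : (y - z) * c = 0)).resolve_left (sub_ne_zero.2 hyz)
    linear_combination h1 - h2
  have hb : b = 0 := by rw [hc, zero_mul, add_zero] at h1; exact h1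
  exact ⟨by rw [hb, hc] at hx; linear_combination hx, hb, hc⟩

/-- a quadratic polynomial vanishing on the circle vanishes -/
theorem quad_circ_zero {a b c : F} (h3 : 3 ≤ Nat.card (circ σ))
    (h : ∀ u ∈ circ σ, a + b * (u : F) + c * (u : F) ^ 2 = 0) : a = 0 ∧ b = 0 ∧ c = 0 := by
  classical
  obtain ⟨u, hu, h1⟩ := exists_circ_notMem (σ := σ) (s := {1})
    (by rw [Finset.card_singleton]; omega)
  obtain ⟨v, hv, h2⟩ := exists_circ_notMem (σ := σ) (s := {1, (u : F)})
    (lt_of_le_of_lt Finset.card_le_two (by omega))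
  simp only [Finset.mem_insert, Finset.mem_singleton, not_or] at h1 h2
  exact quad_zero (x := 1) (y := (u : F)) (z := (v : F)) (Ne.symm h1) (Ne.symm h2.1) (Ne.symm h2.2)
    (by simpa using h 1 (circ σ).one_mem) (h u hu) (h v hv)

variable (hf : IsUnitaryForm σ f)
include hf

/-- sizes of the fixed field and of the circle -/
theorem exists_sizes : ∃ q, 2 ≤ q ∧ Fintype.card F = q ^ 2 ∧ Nat.card {x : F // σ x = x} = q ∧
    Nat.card (circ σ) = q + 1 := by
  classical
  obtain ⟨d, hd⟩ := exists_not_fixed hf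
  set S := {x : F // σ x = x} with hS
  have hbij : Function.Bijective (fun p : S × S => (p.1 : F) + (p.2 : F) * d) := by
    constructor
    · rintro ⟨a, b⟩ ⟨a', b'⟩ h
      simp only at h
      have h1 := congrArg σ h
      rw [map_add, map_add, map_mul, map_mul, a.2, b.2, a'.2, b'.2] at h1
      have h2 : ((b : F) - b') * (d - σ d) = 0 := by linear_combination h - h1
      have hb : (b : F) = b' :=
        sub_eq_zero.1 ((mul_eq_zero.1 h2).resolve_right (sub_ne_zero.2 (Ne.symm hd)))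
      exact Prod.ext (Subtype.ext (by rw [hb] at h; exact add_right_cancel h)) (Subtype.ext hb)
    · intro x
      have hd1 : d - σ d ≠ 0 := sub_ne_zero.2 (Ne.symm hd)
      have hs : σ ((x - σ x) / (d - σ d)) = (x - σ x) / (d - σ d) := by
        rw [map_div₀, map_sub, map_sub, hf.involutive, hf.involutive, ← neg_sub x, ← neg_sub d, neg_div_neg_eq]
      refine ⟨(⟨x - (x - σ x) / (d - σ d) * d, ?_⟩, ⟨_, hs⟩), sub_add_cancel _ _⟩
      rw [map_sub, map_mul, hs, sub_eq_sub_iff_sub_eq_sub]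
      field_simp
      ring
  have hF : Fintype.card F = Nat.card S ^ 2 := by
    rw [← Nat.card_eq_fintype_card, ← Nat.card_eq_of_bijective _ hbij, Nat.card_prod, pow_two]
  have hq : 2 ≤ Nat.card S := by
    by_contra h
    have h1 := Fintype.one_lt_card (α := F)
    rcases (by omega : Nat.card S = 0 ∨ Nat.card S = 1) with e | e <;> rw [e] at hF <;> simp at hF <;> omega
  refine ⟨Nat.card S, hq, hF, rfl, ?_⟩
  -- the norm on units
  let N : Fˣ →* Fˣ :=
    { toFun := fun u => u * Units.map (σ : F →+* F).toMonoidHom u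
      map_one' := by rw [map_one, one_mul]
      map_mul' := fun a b => by rw [map_mul]; exact mul_mul_mul_comm _ _ _ _ }
  have hN : ∀ u : Fˣ, ((N u : Fˣ) : F) = (u : F) * σ u := fun u => rfl
  have hker : N.ker = circ σ := by
    ext u
    rw [MonoidHom.mem_ker, Units.ext_iff, hN, Units.val_one, mem_circ]
  have hsurj : ∀ r : {r : S // (r : F) ≠ 0}, ∃ u : Fˣ, (u : F) * σ u = (r.1 : F) := fun r => by
    obtain ⟨x, hx⟩ := exists_norm hf r.1.2
    exact ⟨Units.mk0 x (fun h => r.2 (by rw [← hx, h, zero_mul])), hx⟩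
  have hrange : Nat.card N.range = Nat.card {r : S // (r : F) ≠ 0} := by
    refine Nat.card_congr
      { toFun := fun u => ⟨⟨((u : Fˣ) : F), ?_⟩, (u : Fˣ).ne_zero⟩
        invFun := fun r => ⟨Units.mk0 (r.1 : F) r.2, ?_⟩
        left_inv := fun u => Subtype.ext (Units.ext rfl)
        right_inv := fun r => Subtype.ext (Subtype.ext rfl) }
    · obtain ⟨v, hv⟩ := u.2
      rw [← hv, hN, map_mul, hf.involutive, mul_comm]
    · obtain ⟨v, hv⟩ := hsurj r
      exact ⟨v, Units.ext (by rw [hN]; exact hv)⟩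
  have hne : Nat.card {r : S // (r : F) ≠ 0} = Nat.card S - 1 := by
    rw [Nat.card_eq_fintype_card, Nat.card_eq_fintype_card,
      Fintype.card_subtype_compl (fun r : S => (r : F) = 0)]
    congr 1
    rw [Fintype.card_eq_one_iff]
    exact ⟨⟨⟨0, map_zero σ⟩, rfl⟩, fun r => Subtype.ext (Subtype.ext r.2)⟩
  have h1 := Subgroup.card_mul_index N.ker
  rw [Subgroup.index_ker, hker, hrange, hne, Nat.card_units, Nat.card_eq_fintype_card (α := F), hF] at h1
  have h2 : Nat.card S ^ 2 - 1 = (Nat.card S + 1) * (Nat.card S - 1) := by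
    simpa using Nat.sq_sub_sq (Nat.card S) 1
  rw [h2] at h1
  exact Nat.eq_of_mul_eq_mul_right (by omega) h1

theorem three_le_circ : 3 ≤ Nat.card (circ σ) := by
  obtain ⟨q, hq, -, -, hc⟩ := exists_sizes hf
  omega

theorem exists_circ_generator : ∃ u ∈ circ σ, orderOf u = Nat.card (circ σ) := by
  obtain ⟨g, hg⟩ := IsCyclic.exists_generator (α := circ σ)
  refine ⟨g, g.2, ?_⟩
  rw [Subgroup.orderOf_coe]
  exact orderOf_eq_card_of_forall_mem_zpowers hg

/-- a norm one scalar different from its conjugate -/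
theorem exists_circ_ne : ∃ u ∈ circ σ, (u : F) ≠ σ u ∧ (u : F) ≠ 1 ∧ (u : F) ≠ -1 := by
  obtain ⟨u, hu, ho⟩ := exists_circ_generator hf
  have h3 := three_le_circ hf
  have key : ∀ i, 0 < i → i < 3 → (u : F) ^ i ≠ 1 := fun i h0 hi e => by
    have := Nat.le_of_dvd h0 (orderOf_dvd_of_pow_eq_one (x := u) (Units.ext (by simpa using e)))
    omega
  have h2 : (u : F) * σ u = 1 := hu
  refine ⟨u, hu, fun e => key 2 (by omega) (by omega) (by rw [pow_two]; nth_rewrite 2 [e]; exact h2),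
    fun e => key 1 (by omega) (by omega) (by rw [pow_one, e]),
    fun e => key 2 (by omega) (by omega) (by rw [e]; ring)⟩

theorem exists_cubic (h4 : 4 < Fintype.card F) :
    ∃ u ∈ circ σ, (u : F) ≠ 1 ∧ (u : F) ^ 2 ≠ 1 ∧ (u : F) ^ 3 ≠ 1 := by
  obtain ⟨q, hq, hF, -, hc⟩ := exists_sizes hf
  have hq3 : 3 ≤ q := by
    by_contra h
    rw [show q = 2 by omega] at hF
    omega
  obtain ⟨u, hu, ho⟩ := exists_circ_generator hf
  have key : ∀ i, 0 < i → i < 4 → (u : F) ^ i ≠ 1 := fun i h0 hi e => by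
    have := Nat.le_of_dvd h0 (orderOf_dvd_of_pow_eq_one (x := u) (Units.ext (by simpa using e)))
    omega
  exact ⟨u, hu, by simpa using key 1 (by omega) (by omega), key 2 (by omega) (by omega),
    key 3 (by omega) (by omega)⟩

/-! ### Sums of multiples -/

/-- the values of `tr (l * ε)` -/
theorem circ_values {l : F} (hl : l ≠ 0) (A : F) (hA : σ A = A) :
    ∃ V : Finset {x : F // σ x = x}, Nat.card (circ σ) ≤ 2 * V.card ∧
      ∀ v ∈ V, ∃ u ∈ circ σ, A + (l * (u : F) + σ (l * (u : F))) = (v : F) := by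
  classical
  have hval : ∀ u : circ σ, σ (A + (l * ((u : Fˣ) : F) + σ (l * ((u : Fˣ) : F)))) =
      A + (l * ((u : Fˣ) : F) + σ (l * ((u : Fˣ) : F))) := fun u => by
    rw [map_add, map_add, hA, hf.involutive, add_comm (σ (l * ((u : Fˣ) : F)))]
  let φ : circ σ → {x : F // σ x = x} := fun u => ⟨_, hval u⟩
  refine ⟨Finset.univ.image φ, ?_, fun v hv => ?_⟩
  · rw [Nat.card_eq_fintype_card, ← Finset.card_univ]
    refine Finset.card_le_mul_card_image _ 2 fun b _ => ?_
    by_contra hb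
    obtain ⟨x, y, z, hx, hy, hz, hxy, hxz, hyz⟩ := Finset.two_lt_card_iff.1 (not_le.1 hb)
    simp only [Finset.mem_filter, Finset.mem_univ, true_and] at hx hy hz
    have hroot : ∀ u : circ σ, φ u = b →
        σ l + (A - (b : F)) * ((u : Fˣ) : F) + l * ((u : Fˣ) : F) ^ 2 = 0 := fun u hu => by
      have h1 : ((u : Fˣ) : F) * σ ((u : Fˣ) : F) = 1 := u.2
      have h2 : A + (l * ((u : Fˣ) : F) + σ (l * ((u : Fˣ) : F))) = (b : F) := congrArg Subtype.val hu
      rw [map_mul] at h2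
      linear_combination ((u : Fˣ) : F) * h2 - σ l * h1
    have hne : ∀ {a c : circ σ}, a ≠ c → ((a : Fˣ) : F) ≠ ((c : Fˣ) : F) := fun h e =>
      h (Subtype.ext (Units.ext e))
    exact hl (quad_zero (hne hxy) (hne hxz) (hne hyz) (hroot x hx) (hroot y hy) (hroot z hz)).2.2
  · obtain ⟨u, -, rfl⟩ := Finset.mem_image.1 hv
    exact ⟨u, u.2, rfl⟩

/-- three multiples of norm one scalars add up to any non-zero element -/
theorem exists_three {a b c x : F} (ha : a ≠ 0) (hb : b ≠ 0) (hc : c ≠ 0) (hx : x ≠ 0) :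
    ∃ u ∈ circ σ, ∃ v ∈ circ σ, ∃ w ∈ circ σ, a * (u : F) + b * (v : F) + c * (w : F) = x := by
  classical
  obtain ⟨q, hq, -, hS, hcard⟩ := exists_sizes hf
  have hσb : σ b ≠ 0 := by simpa using hb
  have hσx : σ x ≠ 0 := by simpa using hx
  obtain ⟨V, hV, hVm⟩ := circ_values hf (mul_ne_zero ha hσb) (a * σ a + b * σ b)
    (by rw [map_add, map_mul, map_mul, hf.involutive, hf.involutive, mul_comm (σ a), mul_comm (σ b)])
  obtain ⟨W, hW, hWm⟩ := circ_values hf (neg_ne_zero.2 (mul_ne_zero hc hσx)) (x * σ x + c * σ c)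
    (by rw [map_add, map_mul, map_mul, hf.involutive, hf.involutive, mul_comm (σ x), mul_comm (σ c)])
  obtain ⟨v, hv⟩ : (V ∩ W).Nonempty := by
    rw [Finset.nonempty_iff_ne_empty]
    intro h0
    have h1 := Finset.card_union_add_card_inter V W
    have h2 := Finset.card_le_univ (V ∪ W)
    rw [h0, Finset.card_empty] at h1
    rw [← Nat.card_eq_fintype_card, hS] at h2
    omega
  obtain ⟨u, hu, he⟩ := hVm v (Finset.mem_inter.1 hv).1
  obtain ⟨w, hw, hr⟩ := hWm v (Finset.mem_inter.1 hv).2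
  have hu' : (u : F) * σ u = 1 := hu
  have hw' : (w : F) * σ w = 1 := hw
  rw [map_mul, map_mul, hf.involutive] at he
  rw [map_mul, map_neg, map_mul, hf.involutive] at hr
  obtain ⟨A, hA⟩ : ∃ A, A = x - c * (w : F) := ⟨_, rfl⟩
  obtain ⟨B, hB⟩ : ∃ B, B = a * (u : F) + b := ⟨_, rfl⟩
  have hNA : A * σ A = v := by
    rw [hA, map_sub, map_mul]
    linear_combination hr + c * σ c * hw'
  have hNB : B * σ B = v := by
    rw [hB, map_add, map_mul]
    linear_combination he + a * σ a * hu'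
  by_cases hv0 : (v : F) = 0
  · rw [hv0] at hNA hNB
    have hA0 : A = 0 := by
      rcases mul_eq_zero.1 hNA with h | h
      · exact h
      · simpa using h
    have hB0 : B = 0 := by
      rcases mul_eq_zero.1 hNB with h | h
      · exact h
      · simpa using h
    exact ⟨u, hu, 1, (circ σ).one_mem, w, hw, by
      rw [Units.val_one, mul_one]
      linear_combination (hB0 - hB) - (hA0 - hA)⟩
  have hB0 : B ≠ 0 := fun h => hv0 (by rw [← hNB, h, zero_mul])
  obtain ⟨e, he', hee⟩ := exists_circ (σ := σ) (x := A / B) (by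
    rw [map_div₀, div_mul_div_comm, hNA, hNB, div_self hv0])
  refine ⟨e * u, (circ σ).mul_mem he' hu, e, he', w, hw, ?_⟩
  rw [Units.val_mul, hee]
  field_simp
  linear_combination B * hA + (-A) * hB

/-- a vanishing sum over at least four indices -/
theorem exists_zero_sum {κ : Type} [DecidableEq κ] (G : Finset κ) (hG : 4 ≤ G.card) (a : κ → F)
    (ha : ∀ i ∈ G, a i ≠ 0) : ∃ e : κ → Fˣ, (∀ i, e i ∈ circ σ) ∧ ∑ i ∈ G, a i * (e i : F) = 0 := by
  classical
  obtain ⟨i, hi⟩ : G.Nonempty := Finset.card_pos.1 (by omega)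
  obtain ⟨j, hj⟩ : (G.erase i).Nonempty :=
    Finset.card_pos.1 (by rw [Finset.card_erase_of_mem hi]; omega)
  obtain ⟨k, hk⟩ : ((G.erase i).erase j).Nonempty :=
    Finset.card_pos.1 (by rw [Finset.card_erase_of_mem hj, Finset.card_erase_of_mem hi]; omega)
  set R := ((G.erase i).erase j).erase k with hR
  obtain ⟨o, ho⟩ : R.Nonempty := Finset.card_pos.1 (by
    rw [hR, Finset.card_erase_of_mem hk, Finset.card_erase_of_mem hj, Finset.card_erase_of_mem hi]; omega)
  have hsub : R ⊆ G := fun x hx =>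
    Finset.mem_of_mem_erase (Finset.mem_of_mem_erase (Finset.mem_of_mem_erase hx))
  obtain ⟨e₀, he₀, hS⟩ : ∃ e₀ : κ → Fˣ, (∀ x, e₀ x ∈ circ σ) ∧ ∑ x ∈ R, a x * (e₀ x : F) ≠ 0 := by
    by_cases h1 : ∑ x ∈ R, a x = 0
    · obtain ⟨z, hz, -, hz1, -⟩ := exists_circ_ne hf
      refine ⟨Function.update (fun _ => 1) o z, fun x => ?_, ?_⟩
      · rcases eq_or_ne x o with rfl | hx
        · rw [Function.update_self]; exact hz
        · rw [Function.update_of_ne hx]; exact (circ σ).one_mem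
      · rw [← Finset.add_sum_erase _ _ ho, Function.update_self]
        rw [← Finset.add_sum_erase _ _ ho] at h1
        rw [Finset.sum_congr rfl (g := a) fun x hx => by
          rw [Function.update_of_ne (Finset.ne_of_mem_erase hx), Units.val_one, mul_one]]
        intro h
        have : a o * ((z : F) - 1) = 0 := by linear_combination h - h1
        rcases mul_eq_zero.1 this with h' | h'
        · exact ha o (hsub ho) h'
        · exact hz1 (sub_eq_zero.1 h')
    · exact ⟨fun _ => 1, fun _ => (circ σ).one_mem, by simpa using h1⟩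
  obtain ⟨u, hu, v, hv, w, hw, huvw⟩ := exists_three hf (ha i hi) (ha j (Finset.mem_of_mem_erase hj))
    (ha k (Finset.mem_of_mem_erase (Finset.mem_of_mem_erase hk))) (neg_ne_zero.2 hS)
  have hij : j ≠ i := Finset.ne_of_mem_erase hj
  have hik : k ≠ i := Finset.ne_of_mem_erase (Finset.mem_of_mem_erase hk)
  have hjk : k ≠ j := Finset.ne_of_mem_erase hk
  refine ⟨Function.update (Function.update (Function.update e₀ i u) j v) k w, fun x => ?_, ?_⟩
  · rcases eq_or_ne x k with rfl | h1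
    · rw [Function.update_self]; exact hw
    rw [Function.update_of_ne h1]
    rcases eq_or_ne x j with rfl | h2
    · rw [Function.update_self]; exact hv
    rw [Function.update_of_ne h2]
    rcases eq_or_ne x i with rfl | h3
    · rw [Function.update_self]; exact hu
    rw [Function.update_of_ne h3]
    exact he₀ x
  · rw [← Finset.add_sum_erase _ _ hi, ← Finset.add_sum_erase _ _ hj, ← Finset.add_sum_erase _ _ hk,
      Function.update_self, Function.update_of_ne hjk.symm, Function.update_self,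
      Function.update_of_ne hik.symm, Function.update_of_ne hij.symm, Function.update_self, ← hR,
      Finset.sum_congr rfl (g := fun x => a x * (e₀ x : F)) fun x hx => ?_]
    · linear_combination huvw
    · rw [hR, Finset.mem_erase, Finset.mem_erase, Finset.mem_erase] at hx
      rw [Function.update_of_ne hx.1, Function.update_of_ne hx.2.1, Function.update_of_ne hx.2.2.1]

/-- the quotient `σ x / x` as a norm one scalar -/
theorem exists_psi {x : F} (hx : x ≠ 0) : ∃ u ∈ circ σ, x * (u : F) = σ x := by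
  have hσx : σ x ≠ 0 := by simpa using hx
  obtain ⟨u, hu, hux⟩ := exists_circ (σ := σ) (x := σ x / x) (by
    rw [map_div₀, hf.involutive]
    field_simp)
  exact ⟨u, hu, by rw [hux, mul_div_cancel₀ _ hx]⟩

/-- every norm one scalar is some `σ x / x` -/
theorem exists_psi_eq {c : Fˣ} (hc : c ∈ circ σ) : ∃ x : F, x ≠ 0 ∧ x * (c : F) = σ x := by
  have hc' : (c : F) * σ c = 1 := hc
  by_cases h : 1 + (c : F) = 0
  · obtain ⟨δ, hδ, hδσ⟩ := exists_trace_zero hf
    exact ⟨δ, hδ, by rw [hδσ]; linear_combination δ * h⟩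
  · refine ⟨(1 + (c : F))⁻¹, inv_ne_zero h, ?_⟩
    have h' : 1 + σ (c : F) ≠ 0 := fun e => h (by
      have := congrArg σ e
      rwa [map_add, map_one, hf.involutive, map_zero] at this)
    rw [map_inv₀, map_add, map_one]
    field_simp
    linear_combination hc'

/-- up to squares there are at most two norm one scalars -/
theorem exists_sq_or : ∃ ξ ∈ circ σ, ∀ c ∈ circ σ, ∃ w ∈ circ σ, c = w ^ 2 ∨ c * ξ = w ^ 2 := by
  obtain ⟨g, hg⟩ := IsCyclic.exists_generator (α := circ σ)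
  refine ⟨g, g.2, fun c hc => ?_⟩
  obtain ⟨k, hk⟩ := Subgroup.mem_zpowers_iff.1 (hg ⟨c, hc⟩)
  have hk' : (g : Fˣ) ^ k = c := congrArg Subtype.val hk
  rcases Int.even_or_odd k with ⟨m, rfl⟩ | ⟨m, rfl⟩
  · exact ⟨(g : Fˣ) ^ m, (circ σ).zpow_mem g.2 m, Or.inl (by rw [← hk', _root_.zpow_add, pow_two])⟩
  · refine ⟨(g : Fˣ) ^ (m + 1), (circ σ).zpow_mem g.2 _, Or.inr ?_⟩
    rw [← hk', pow_two, ← _root_.zpow_add_one, ← _root_.zpow_add]
    congr 1
    ring

/-- six multiples add up to zero with product in any class modulo squares -/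
theorem exists_six (a : Fin 6 → F) (ha : ∀ i, a i ≠ 0) {d : Fˣ} (hd : d ∈ circ σ) :
    ∃ e : Fin 6 → Fˣ, (∀ i, e i ∈ circ σ) ∧ ∑ i, a i * (e i : F) = 0 ∧
      ∃ w ∈ circ σ, (∏ i, e i) * d = w ^ 2 := by
  obtain ⟨α, hα, hαx⟩ := exists_psi hf (ha 0)
  obtain ⟨ξ, hξ, hsq⟩ := exists_sq_or hf
  obtain ⟨x, hx, hψ⟩ := exists_psi_eq hf ((circ σ).mul_mem hξ ((circ σ).inv_mem hα))
  obtain ⟨u₁, hu₁, u₂, hu₂, u₃, hu₃, hu⟩ := exists_three hf (ha 3) (ha 4) (ha 5) hx
  obtain ⟨v₁, hv₁, v₂, hv₂, v₃, hv₃, hv⟩ := exists_three hf (ha 0) (ha 1) (ha 2) (neg_ne_zero.2 hx)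
  obtain ⟨π, hπ, hπx⟩ : ∃ π ∈ circ σ, (a 1 * (v₂ : F) + a 2 * (v₃ : F)) * (π : F) =
      σ (a 1 * (v₂ : F) + a 2 * (v₃ : F)) := by
    by_cases h : a 1 * (v₂ : F) + a 2 * (v₃ : F) = 0
    · exact ⟨1, (circ σ).one_mem, by rw [h, map_zero, zero_mul]⟩
    · exact exists_psi hf h
  have hmem : ∀ (b₁ b₂ b₃ b₄ b₅ b₆ : Fˣ), b₁ ∈ circ σ → b₂ ∈ circ σ → b₃ ∈ circ σ → b₄ ∈ circ σ → b₅ ∈ circ σ →
      b₆ ∈ circ σ → ∀ i, (![b₁, b₂, b₃, b₄, b₅, b₆] : Fin 6 → Fˣ) i ∈ circ σ := by
    intro b₁ b₂ b₃ b₄ b₅ b₆ h₁ h₂ h₃ h₄ h₅ h₆ i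
    fin_cases i <;> assumption
  obtain ⟨w, hw, h | h⟩ := hsq (v₁ * v₂ * v₃ * u₁ * u₂ * u₃ * d) (by
    apply_rules [Subgroup.mul_mem])
  · refine ⟨![v₁, v₂, v₃, u₁, u₂, u₃], hmem _ _ _ _ _ _ hv₁ hv₂ hv₃ hu₁ hu₂ hu₃, ?_, w, hw, ?_⟩
    · rw [Fin.sum_univ_six]
      show a 0 * (v₁ : F) + a 1 * (v₂ : F) + a 2 * (v₃ : F) + a 3 * (u₁ : F) + a 4 * (u₂ : F) + a 5 * (u₃ : F) = 0
      linear_combination hv + hu
    · rw [Fin.prod_univ_six]
      exact h
  · obtain ⟨ψ, hψdef⟩ : ∃ ψ, ψ = ξ * α⁻¹ := ⟨_, rfl⟩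
    rw [← hψdef] at hψ
    have hψc : ψ ∈ circ σ := hψdef ▸ (circ σ).mul_mem hξ ((circ σ).inv_mem hα)
    refine ⟨![v₁⁻¹ * α, v₂ * π, v₃ * π, u₁ * ψ, u₂ * ψ, u₃ * ψ],
      hmem _ _ _ _ _ _ ((circ σ).mul_mem ((circ σ).inv_mem hv₁) hα) ((circ σ).mul_mem hv₂ hπ)
        ((circ σ).mul_mem hv₃ hπ) ((circ σ).mul_mem hu₁ hψc) ((circ σ).mul_mem hu₂ hψc)
        ((circ σ).mul_mem hu₃ hψc), ?_, w * π * ψ * v₁⁻¹,
      (circ σ).mul_mem ((circ σ).mul_mem ((circ σ).mul_mem hw hπ) hψc) ((circ σ).inv_mem hv₁), ?_⟩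
    · rw [Fin.sum_univ_six]
      show a 0 * ((v₁⁻¹ * α : Fˣ) : F) + a 1 * ((v₂ * π : Fˣ) : F) + a 2 * ((v₃ * π : Fˣ) : F) +
        a 3 * ((u₁ * ψ : Fˣ) : F) + a 4 * ((u₂ * ψ : Fˣ) : F) + a 5 * ((u₃ * ψ : Fˣ) : F) = 0
      have e1 := congrArg σ hv
      simp only [map_add, map_mul, map_neg, circ_sigma hv₁] at e1
      simp only [map_add, map_mul] at hπx
      simp only [Units.val_mul] at *
      linear_combination e1 + hπx + (ψ : F) * hu + ((v₁⁻¹ : Fˣ) : F) * hαx + hψ
    · rw [Fin.prod_univ_six]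
      show (v₁⁻¹ * α) * (v₂ * π) * (v₃ * π) * (u₁ * ψ) * (u₂ * ψ) * (u₃ * ψ) * d = _
      apply Units.ext
      have e1 := congrArg Units.val h
      have e2 := congrArg Units.val hψdef
      have h1 := v₁.ne_zero
      have h2 := α.ne_zero
      push_cast [Units.val_inv_eq_inv_val] at e1 e2 ⊢
      field_simp at e1 e2 ⊢
      linear_combination e1 +
        ((v₁ : F) * (v₂ : F) * (v₃ : F) * (u₁ : F) * (u₂ : F) * (u₃ : F) * (d : F)) * e2

/-- a vanishing sum over a finite set with product in a given class modulo squares -/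
theorem exists_zero_sum_sq {κ : Type} [DecidableEq κ] (G : Finset κ) (hG : G.card = 6 ∨ 10 ≤ G.card) (a : κ → F)
    (ha : ∀ i ∈ G, a i ≠ 0) {d : Fˣ} (hd : d ∈ circ σ) : ∃ e : κ → Fˣ, (∀ i, e i ∈ circ σ) ∧
      ∑ i ∈ G, a i * (e i : F) = 0 ∧ ∃ w ∈ circ σ, (∏ i ∈ G, e i) * d = w ^ 2 := by
  classical
  obtain ⟨S, hSG, hS⟩ := Finset.exists_subset_card_eq (s := G) (n := 6) (by omega)
  obtain ⟨eR, heR, hsR⟩ : ∃ e : κ → Fˣ, (∀ i, e i ∈ circ σ) ∧ ∑ i ∈ G \ S, a i * (e i : F) = 0 := by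
    rcases hG with h6 | h10
    · refine ⟨fun _ => 1, fun _ => (circ σ).one_mem, ?_⟩
      rw [Finset.sdiff_eq_empty_iff_subset.2 (Finset.eq_of_subset_of_card_le hSG (by omega)).ge, Finset.sum_empty]
    · exact exists_zero_sum hf _ (by rw [Finset.card_sdiff_of_subset hSG]; omega) a
        fun i hi => ha i (Finset.mem_sdiff.1 hi).1
  let φ : Fin 6 ≃ S := (Finset.equivFinOfCardEq hS).symm
  obtain ⟨eS, heS, hsS, w, hw, hwS⟩ := exists_six hf (fun k => a (φ k)) (fun k => ha _ (hSG (φ k).2))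
    (d := (∏ i ∈ G \ S, eR i) * d) ((circ σ).mul_mem ((circ σ).prod_mem fun i _ => heR i) hd)
  obtain ⟨e, he⟩ : ∃ e : κ → Fˣ, e = fun i => if h : i ∈ S then eS (φ.symm ⟨i, h⟩) else eR i := ⟨_, rfl⟩
  have heS' : ∀ k, e (φ k : κ) = eS k := fun k => by
    simp only [he, dif_pos (φ k).2, Subtype.coe_eta, Equiv.symm_apply_apply]
  have heR' : ∀ i ∈ G \ S, e i = eR i := fun i hi => by
    simp only [he, dif_neg (Finset.mem_sdiff.1 hi).2]
  refine ⟨e, fun i => ?_, ?_, w, hw, ?_⟩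
  · by_cases h : i ∈ S
    · simp only [he, dif_pos h]; exact heS _
    · simp only [he, dif_neg h]; exact heR i
  · rw [← Finset.sum_sdiff hSG, Finset.sum_congr rfl (g := fun i => a i * (eR i : F))
      (fun i hi => by rw [heR' i hi]), hsR, zero_add, ← Finset.sum_coe_sort, ← φ.sum_comp]
    simpa only [heS'] using hsS
  · rw [← Finset.prod_sdiff hSG, Finset.prod_congr rfl heR', ← Finset.prod_coe_sort S, ← φ.prod_comp, ← hwS]
    simp only [heS']
    ac_rfl

end CfsgLib.Perm.Trans.Unit
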