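import Cfsg.Agent.Lib.Perm.Trans.UnitDecomp.Arith

/-!
# Orthogonal decompositions of unitary spaces

Components, the elements keeping every member, interchanging two members, permuting the members.
-/

set_option autoImplicit false
set_option linter.all false

namespace CfsgLib.Perm.Trans.Unit.Dec

open scoped Matrix
open Matrix Cfsg.Geo CfsgLib.Perm.Asch CfsgLib.Perm.Trans CfsgLib.Perm.Trans.Unit

variable {ι : Type} [Fintype ι] [DecidableEq ι] {F : Type*} [Field F] [Fintype F]
variable {σ : F ≃+* F} {f : (ι → F) → (ι → F) → F} (hf : IsUnitaryForm σ f)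
include hf

/-- an element exchanging two orthogonal subspaces of equal dimension -/
theorem exists_exchange {U U' : Submodule F (ι → F)} (hU : IsNondegenerateOn f U)
    (hU' : IsNondegenerateOn f U') (horth : ∀ a ∈ U, ∀ b ∈ U', f a b = 0)
    (hdim : Module.finrank F U = Module.finrank F U') :
    ∃ g ∈ isoU f, ((g : Matrix ι ι F).det = 1 ∨ (g : Matrix ι ι F).det = -1) ∧
      (∀ x, (∀ u ∈ U, f x u = 0) → (∀ u ∈ U', f x u = 0) → (g : Matrix ι ι F) *ᵥ x = x) ∧
      (∀ x ∈ U, (g : Matrix ι ι F) *ᵥ x ∈ U') ∧ ∀ x ∈ U', (g : Matrix ι ι F) *ᵥ x ∈ U := by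
  induction hn : Module.finrank F U using Nat.strong_induction_on generalizing U U' with
  | _ n ih =>
  subst hn
  by_cases hbot : U = ⊥
  · have hbot' : U' = ⊥ := Submodule.finrank_eq_zero.1 (by rw [← hdim, hbot, finrank_bot])
    subst hbot hbot'
    exact ⟨1, (isoU f).one_mem, Or.inl (by simp), fun x _ _ => by simp, fun x hx => by simpa using hx,
      fun x hx => by simpa using hx⟩
  have hbot' : U' ≠ ⊥ := fun h => hbot (Submodule.finrank_eq_zero.1 (by rw [hdim, h, finrank_bot]))
  have hone : ∀ V : Submodule F (ι → F), IsNondegenerateOn f V → V ≠ ⊥ → ∃ a ∈ V, f a a = 1 := by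
    intro V hV hne
    obtain ⟨p, hp, hpp⟩ := exists_anisotropic hf hV hne
    obtain ⟨s, hs⟩ := exists_norm hf (d := (f p p)⁻¹) (by rw [map_inv₀, ← hf.herm])
    exact ⟨s • p, V.smul_mem s hp, by
      rw [hf.smul_left, herm_smul_right hf, ← mul_assoc, hs, inv_mul_cancel₀ hpp]⟩
  obtain ⟨a, ha, haa⟩ := hone U hU hbot
  obtain ⟨b, hb, hbb⟩ := hone U' hU' hbot'
  have hab := horth a ha b hb
  have hba := herm_swap_zero hf hab
  have ha0 : a ≠ 0 := fun h => by rw [h, herm_zero_left hf] at haa; exact zero_ne_one haa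
  have hb0 : b ≠ 0 := fun h => by rw [h, herm_zero_left hf] at hbb; exact zero_ne_one hbb
  obtain ⟨hnd₁, hfr₁⟩ := sub_perp hf hU (isNondegenerateOn_singleton hf (p := a) (by rw [haa]; exact one_ne_zero))
    ((Submodule.span_singleton_le_iff_mem _ _).2 ha)
  obtain ⟨hnd₂, hfr₂⟩ := sub_perp hf hU' (isNondegenerateOn_singleton hf (p := b) (by rw [hbb]; exact one_ne_zero))
    ((Submodule.span_singleton_le_iff_mem _ _).2 hb)
  rw [finrank_span_singleton ha0] at hfr₁
  rw [finrank_span_singleton hb0] at hfr₂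
  obtain ⟨g, hg, hdet, hgfix, hgU, hgU'⟩ := ih
    (Module.finrank F ↥(U ⊓ perp hf (Submodule.span F {a}))) (by omega) hnd₁ hnd₂
    (fun x hx y hy => horth x hx.1 y hy.1) (by omega) rfl
  obtain ⟨d, hd⟩ : ∃ d, d = b - a := ⟨_, rfl⟩
  have hdd : f d d = 2 := by
    rw [hd, herm_sub_left hf, herm_sub_right hf, herm_sub_right hf, hbb, hba, hab, haa]; ring
  obtain ⟨A, hA⟩ : ∃ A : Matrix ι ι F, A = 1 + vecMulVec d (-hv hf d) := ⟨_, rfl⟩
  have hAx : ∀ x, A *ᵥ x = x - f x d • d := fun x => by
    rw [hA, add_mulVec, one_mulVec, vecMulVec_mulVec, op_smul_eq_smul, neg_dotProduct, hv_dot, neg_smul,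
      ← sub_eq_add_neg]
  have hAdet : A.det = -1 := by
    rw [hA, vecMulVec_eq Unit, det_one_add_replicateCol_mul_replicateRow, neg_dotProduct, hv_dot, hdd]
    ring
  let R : GL ι F := Matrix.GeneralLinearGroup.mkOfDetNeZero A (by rw [hAdet]; exact neg_ne_zero.2 one_ne_zero)
  have hR : ∀ x, (R : Matrix ι ι F) *ᵥ x = x - f x d • d := hAx
  have hRiso : R ∈ isoU f := mem_isoU.2 fun x y => by
    rw [hR, hR, herm_sub_left hf, herm_sub_right hf, herm_sub_right hf, hf.smul_left, hf.smul_left,
      herm_smul_right hf, herm_smul_right hf, hdd, ← hf.herm d y]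
    ring
  have hga : ∀ {x}, (∀ u ∈ U ⊓ perp hf (Submodule.span F {a}), f x u = 0) →
      (∀ u ∈ U' ⊓ perp hf (Submodule.span F {b}), f x u = 0) → (g : Matrix ι ι F) *ᵥ x = x := fun h h' =>
    hgfix _ h h'
  have hgA : (g : Matrix ι ι F) *ᵥ a = a := hga
    (fun u hu => herm_swap_zero hf (hu.2 a (Submodule.mem_span_singleton_self a))) fun u hu => horth a ha u hu.1
  have hgB : (g : Matrix ι ι F) *ᵥ b = b := hga
    (fun u hu => herm_swap_zero hf (horth u hu.1 b hb))
    fun u hu => herm_swap_zero hf (hu.2 b (Submodule.mem_span_singleton_self b))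
  have hsplit : ∀ (V : Submodule F (ι → F)) (p x : ι → F), f p p = 1 → p ∈ V → x ∈ V →
      x - f x p • p ∈ V ⊓ perp hf (Submodule.span F {p}) := fun V p x hpp hp hx =>
    ⟨V.sub_mem hx (V.smul_mem _ hp), fun w hw => by
      obtain ⟨c, rfl⟩ := Submodule.mem_span_singleton.1 hw
      rw [herm_smul_right hf, herm_sub_left hf, hf.smul_left, hpp, mul_one, sub_self, mul_zero]⟩
  refine ⟨R * g, (isoU f).mul_mem hRiso hg, ?_, fun x hxU hxU' => ?_, fun x hx => ?_, fun x hx => ?_⟩
  · rw [Units.val_mul, det_mul, show (R : Matrix ι ι F).det = -1 from hAdet]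
    rcases hdet with h | h <;> rw [h]
    · exact Or.inr (mul_one _)
    · exact Or.inl (by rw [neg_mul, one_mul, neg_neg])
  · rw [gl_mul_mulVec, hgfix x (fun u hu => hxU u hu.1) (fun u hu => hxU' u hu.1), hR, hd, herm_sub_right hf,
      hxU' b hb, hxU a ha, sub_self, zero_smul, sub_zero]
  · have h1 := hgU _ (hsplit U a x haa ha hx)
    have h2 : f ((g : Matrix ι ι F) *ᵥ (x - f x a • a)) d = 0 := by
      rw [hd, herm_sub_right hf, h1.2 b (Submodule.mem_span_singleton_self b),
        herm_swap_zero hf (horth a ha _ h1.1), sub_zero]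
    rw [show x = (x - f x a • a) + f x a • a by abel, gl_mul_mulVec, mulVec_add, mulVec_smul, hgA, mulVec_add,
      mulVec_smul, hR, h2, zero_smul, sub_zero, hR, hd, herm_sub_right hf, hab, haa, zero_sub, neg_smul, one_smul,
      sub_neg_eq_add, add_sub_cancel]
    exact U'.add_mem h1.1 (U'.smul_mem _ hb)
  · have h1 := hgU' _ (hsplit U' b x hbb hb hx)
    have h2 : f ((g : Matrix ι ι F) *ᵥ (x - f x b • b)) d = 0 := by
      rw [hd, herm_sub_right hf, h1.2 a (Submodule.mem_span_singleton_self a), horth _ h1.1 b hb, sub_zero]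
    rw [show x = (x - f x b • b) + f x b • b by abel, gl_mul_mulVec, mulVec_add, mulVec_smul, hgB, mulVec_add,
      mulVec_smul, hR, h2, zero_smul, sub_zero, hR, hd, herm_sub_right hf, hbb, hba, sub_zero, one_smul,
      sub_sub_cancel]
    exact U.add_mem h1.1 (U.smul_mem _ ha)

variable {t k : ℕ} {D : Fin t → Submodule F (ι → F)} (hD : IsNondegenerateMDecomposition f k D)
include hD

/-- the component in `D i` -/
noncomputable def comp (i : Fin t) (x : ι → F) : ι → F :=
  Classical.choose (exists_decomp hf (hD.nondegenerate i) x)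

theorem comp_mem (i : Fin t) (x : ι → F) : comp hf hD i x ∈ D i :=
  (Classical.choose_spec (exists_decomp hf (hD.nondegenerate i) x)).1

theorem comp_perp (i : Fin t) (x : ι → F) : x - comp hf hD i x ∈ perp hf (D i) :=
  (Classical.choose_spec (exists_decomp hf (hD.nondegenerate i) x)).2

theorem comp_eq {i : Fin t} {x a : ι → F} (ha : a ∈ D i) (hx : x - a ∈ perp hf (D i)) : comp hf hD i x = a := by
  refine sub_eq_zero.1 (disjoint_perp hf (hD.nondegenerate i) ((D i).sub_mem (comp_mem hf hD i x) ha) ?_)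
  have := (perp hf (D i)).sub_mem hx (comp_perp hf hD i x)
  rwa [sub_sub_sub_cancel_left] at this

theorem mem_perp_other {i j : Fin t} (hij : i ≠ j) {a : ι → F} (ha : a ∈ D i) : a ∈ perp hf (D j) :=
  fun w hw => hD.orthogonal i j hij a ha w hw

theorem comp_self {i : Fin t} {a : ι → F} (ha : a ∈ D i) : comp hf hD i a = a :=
  comp_eq hf hD ha (by rw [sub_self]; exact zero_mem _)

theorem comp_other {i j : Fin t} (hij : i ≠ j) {a : ι → F} (ha : a ∈ D i) : comp hf hD j a = 0 :=
  comp_eq hf hD (zero_mem _) (by rw [sub_zero]; exact mem_perp_other hf hD hij ha)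

theorem comp_zero (i : Fin t) : comp hf hD i 0 = 0 :=
  comp_eq hf hD (zero_mem _) (by rw [sub_zero]; exact zero_mem _)

theorem comp_add (i : Fin t) (x y : ι → F) : comp hf hD i (x + y) = comp hf hD i x + comp hf hD i y :=
  comp_eq hf hD ((D i).add_mem (comp_mem hf hD i x) (comp_mem hf hD i y)) (by
    rw [add_sub_add_comm]
    exact (perp hf (D i)).add_mem (comp_perp hf hD i x) (comp_perp hf hD i y))

theorem comp_smul (i : Fin t) (c : F) (x : ι → F) : comp hf hD i (c • x) = c • comp hf hD i x :=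
  comp_eq hf hD ((D i).smul_mem c (comp_mem hf hD i x)) (by
    rw [← smul_sub]
    exact (perp hf (D i)).smul_mem c (comp_perp hf hD i x))

theorem comp_sub (i : Fin t) (x y : ι → F) : comp hf hD i (x - y) = comp hf hD i x - comp hf hD i y := by
  rw [sub_eq_add_neg, ← neg_one_smul F y, comp_add, comp_smul, neg_one_smul, sub_eq_add_neg]

theorem comp_sum {κ : Type} (s : Finset κ) (v : κ → ι → F) (i : Fin t) :
    comp hf hD i (∑ j ∈ s, v j) = ∑ j ∈ s, comp hf hD i (v j) := by
  classical
  induction s using Finset.induction_on with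
  | empty => simp [comp_zero hf hD]
  | @insert a s ha ih => rw [Finset.sum_insert ha, Finset.sum_insert ha, comp_add, ih]

theorem ext_comp {x y : ι → F} (h : ∀ i, comp hf hD i x = comp hf hD i y) : x = y := by
  by_contra hne
  obtain ⟨z, hz⟩ := (hf.nondegenerate (x - y) (sub_ne_zero.2 hne)).1
  have hall : ∀ i, D i ≤ LinearMap.ker (hFun hf (x - y)) := fun i w hw => by
    have := comp_perp hf hD i (x - y) w hw
    rw [comp_sub, h, sub_self, sub_zero] at this
    exact herm_swap_zero hf this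
  have htop : (⊤ : Submodule F (ι → F)) ≤ LinearMap.ker (hFun hf (x - y)) := hD.decomp.iSup_eq_top ▸ iSup_le hall
  exact hz (htop Submodule.mem_top : z ∈ LinearMap.ker (hFun hf (x - y)))

theorem sum_comp (x : ι → F) : ∑ i, comp hf hD i x = x := ext_comp hf hD fun j => by
  rw [comp_sum, Finset.sum_eq_single j, comp_self hf hD (comp_mem hf hD j x)]
  · exact fun b _ hb => comp_other hf hD hb (comp_mem hf hD b x)
  · simp

theorem form_single {i : Fin t} {x b : ι → F} (hb : b ∈ D i) : f x b = f (comp hf hD i x) b := by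
  have := comp_perp hf hD i x b hb
  rwa [herm_sub_left hf, sub_eq_zero] at this

theorem form_single' {i : Fin t} {x b : ι → F} (hb : b ∈ D i) : f b x = f b (comp hf hD i x) := by
  rw [hf.herm b x, form_single hf hD hb, ← hf.herm b (comp hf hD i x)]

theorem form_eq_sum (x y : ι → F) : f x y = ∑ i, f (comp hf hD i x) (comp hf hD i y) := by
  classical
  have h : ∀ s : Finset (Fin t), f (∑ i ∈ s, comp hf hD i x) y = ∑ i ∈ s, f (comp hf hD i x) (comp hf hD i y) := by
    intro s
    induction s using Finset.induction_on with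
    | empty => simp [herm_zero_left hf]
    | @insert a s ha ih =>
      rw [Finset.sum_insert ha, Finset.sum_insert ha, hf.add_left, ih, form_single' hf hD (comp_mem hf hD a x)]
  rw [← h, sum_comp]

theorem eq_of_supp {x : ι → F} {i : Fin t} (h : ∀ j, j ≠ i → comp hf hD j x = 0) : x ∈ D i := by
  have : x = comp hf hD i x := ext_comp hf hD fun j => by
    rcases eq_or_ne j i with rfl | hj
    · rw [comp_self hf hD (comp_mem hf hD j x)]
    · rw [h j hj, comp_other hf hD (Ne.symm hj) (comp_mem hf hD i x)]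
  rw [this]
  exact comp_mem hf hD i x

theorem member_ne_bot (i : Fin t) : D i ≠ ⊥ := fun h => by
  have := hD.decomp.finrank_eq i
  rw [h, finrank_bot] at this
  exact hD.decomp.pos.ne this

theorem exists_unit_vec (i : Fin t) : ∃ a ∈ D i, f a a = 1 := by
  obtain ⟨p, hp, hpp⟩ := exists_anisotropic hf (hD.nondegenerate i) (member_ne_bot hf hD i)
  obtain ⟨s, hs⟩ := exists_norm hf (d := (f p p)⁻¹) (by rw [map_inv₀, ← hf.herm])
  exact ⟨s • p, (D i).smul_mem s hp, by
    rw [hf.smul_left, herm_smul_right hf, ← mul_assoc, hs, inv_mul_cancel₀ hpp]⟩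

omit hf in
theorem map_eq_of_maps {g : GL ι F} {i j : Fin t} (h : ∀ x ∈ D i, (g : Matrix ι ι F) *ᵥ x ∈ D j) :
    (D i).map (Matrix.toLin' (g : Matrix ι ι F)) = D j := by
  have hinj : Function.Injective (Matrix.toLin' (g : Matrix ι ι F)) := fun a b hab => by
    have := congrArg (fun x => ((g⁻¹ : GL ι F) : Matrix ι ι F) *ᵥ x) hab
    simpa only [Matrix.toLin'_apply, gl_inv_mulVec] using this
  refine Submodule.eq_of_le_of_finrank_eq ?_ ?_
  · rintro y ⟨x, hx, rfl⟩
    rw [Matrix.toLin'_apply]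
    exact h x hx
  · rw [← (Submodule.equivMapOfInjective _ hinj (D i)).finrank_eq, hD.decomp.finrank_eq i, hD.decomp.finrank_eq j]

omit hf in
theorem stab_of_maps {g : GL ι F} (π : Equiv.Perm (Fin t))
    (h : ∀ i, ∀ x ∈ D i, (g : Matrix ι ι F) *ᵥ x ∈ D (π i)) : g ∈ decompositionStabilizer D :=
  ⟨π, fun i => map_eq_of_maps hD (h i)⟩

omit hf hD in
theorem stab_maps {g : GL ι F} (hg : g ∈ decompositionStabilizer D) :
    ∃ π : Equiv.Perm (Fin t), ∀ i, ∀ x ∈ D i, (g : Matrix ι ι F) *ᵥ x ∈ D (π i) := by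
  obtain ⟨π, hπ⟩ := hg
  exact ⟨π, fun i x hx => (hπ i).le ⟨x, hx, by rw [Matrix.toLin'_apply]⟩⟩

omit hf hD in
/-- `g` maps every member to itself -/
def Keeps (D : Fin t → Submodule F (ι → F)) (g : GL ι F) : Prop :=
  ∀ i, ∀ x ∈ D i, (g : Matrix ι ι F) *ᵥ x ∈ D i

omit hf in
theorem Keeps.stab {g : GL ι F} (h : Keeps D g) : g ∈ decompositionStabilizer D :=
  stab_of_maps hD 1 h

omit hf hD in
theorem Keeps.mul {g h : GL ι F} (hg : Keeps D g) (hh : Keeps D h) : Keeps D (g * h) := fun i x hx => by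
  rw [gl_mul_mulVec]
  exact hg i _ (hh i x hx)

theorem comp_maps {g : GL ι F} {π : Equiv.Perm (Fin t)}
    (h : ∀ i, ∀ x ∈ D i, (g : Matrix ι ι F) *ᵥ x ∈ D (π i)) (i : Fin t) (x : ι → F) :
    comp hf hD (π i) ((g : Matrix ι ι F) *ᵥ x) = (g : Matrix ι ι F) *ᵥ comp hf hD i x := by
  conv_lhs => rw [← sum_comp hf hD x, Matrix.mulVec_sum]
  rw [comp_sum, Finset.sum_eq_single i, comp_self hf hD (h i _ (comp_mem hf hD i x))]
  · exact fun b _ hb => comp_other hf hD (fun e => hb (π.injective e)) (h b _ (comp_mem hf hD b x))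
  · simp

theorem keeps_of_qref {i : Fin t} {d : ι → F} (hd : d ∈ D i) {g : GL ι F} {r : F}
    (hg : ∀ x, (g : Matrix ι ι F) *ᵥ x = x + (r * f x d) • d) : Keeps D g := fun j x hx => by
  rw [hg]
  rcases eq_or_ne j i with rfl | hji
  · exact (D j).add_mem hx ((D j).smul_mem _ hd)
  · rw [hD.orthogonal j i hji x hx d hd, mul_zero, zero_smul, add_zero]
    exact hx

/-- products of quasi-reflections at given vectors of the members -/
theorem exists_diag (b : Fin t → ι → F) (hb : ∀ i, b i ∈ D i) (hbb : ∀ i, f (b i) (b i) ≠ 0) (e : Fin t → Fˣ)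
    (he : ∀ i, e i ∈ circ σ) :
    ∃ g ∈ isoU f, Keeps D g ∧ (g : Matrix ι ι F).det = ∏ i, (e i : F) ∧
      ∀ x, (g : Matrix ι ι F) *ᵥ x = x + ∑ i, (((e i : F) - 1) / f (b i) (b i) * f x (b i)) • b i := by
  classical
  suffices h : ∀ s : Finset (Fin t), ∃ g ∈ isoU f, Keeps D g ∧ (g : Matrix ι ι F).det = ∏ i ∈ s, (e i : F) ∧
      ∀ x, (g : Matrix ι ι F) *ᵥ x = x + ∑ i ∈ s, (((e i : F) - 1) / f (b i) (b i) * f x (b i)) • b i from
    h Finset.univ
  intro s
  induction s using Finset.induction_on with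
  | empty => exact ⟨1, (isoU f).one_mem, fun i x hx => by simpa using hx, by simp, fun x => by simp⟩
  | @insert a s ha ih =>
    obtain ⟨g, hg, hgk, hgd, hgx⟩ := ih
    obtain ⟨r, hr, hrd, hrx⟩ := exists_qref hf (hbb a) (ζ := (e a : F)) (he a)
    refine ⟨r * g, (isoU f).mul_mem hr hg, (keeps_of_qref hf hD (hb a) hrx).mul hgk, ?_, fun x => ?_⟩
    · rw [Units.val_mul, det_mul, hrd, hgd, Finset.prod_insert ha]
    · rw [gl_mul_mulVec, hrx, hgx, Finset.sum_insert ha]
      have h0 : ∀ u : Finset (Fin t), a ∉ u →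
          f (x + ∑ i ∈ u, (((e i : F) - 1) / f (b i) (b i) * f x (b i)) • b i) (b a) = f x (b a) := by
        intro u hu
        induction u using Finset.induction_on with
        | empty => simp
        | @insert j u hj ihu =>
          rw [Finset.mem_insert, not_or] at hu
          rw [Finset.sum_insert hj, add_left_comm, hf.add_left, hf.smul_left,
            hD.orthogonal j a (Ne.symm hu.1) _ (hb j) _ (hb a), mul_zero, zero_add, ihu hu.2]
      rw [h0 s ha]
      abel

/-! ### The part of a set of members -/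

/-- the vectors supported on `s` -/
def part (s : Finset (Fin t)) : Submodule F (ι → F) where
  carrier := {x | ∀ i, i ∉ s → comp hf hD i x = 0}
  add_mem' := fun {a b} ha hb i hi => by rw [comp_add, ha i hi, hb i hi, add_zero]
  zero_mem' := fun i _ => comp_zero hf hD i
  smul_mem' := fun c a ha i hi => by rw [comp_smul, ha i hi, smul_zero]

theorem mem_part {s : Finset (Fin t)} {x : ι → F} : x ∈ part hf hD s ↔ ∀ i, i ∉ s → comp hf hD i x = 0 :=
  Iff.rfl

theorem member_le_part {s : Finset (Fin t)} {i : Fin t} (hi : i ∈ s) : D i ≤ part hf hD s := fun x hx j hj =>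
  comp_other hf hD (show i ≠ j from fun e => hj (e ▸ hi)) hx

theorem mem_perp_part {s : Finset (Fin t)} {x : ι → F} (h : ∀ i ∈ s, comp hf hD i x = 0) :
    x ∈ perp hf (part hf hD s) := fun w hw => by
  rw [form_eq_sum hf hD]
  refine Finset.sum_eq_zero fun i _ => ?_
  by_cases hi : i ∈ s
  · rw [h i hi, herm_zero_left hf]
  · rw [hw i hi, herm_zero_right hf]

theorem part_nondegenerate (s : Finset (Fin t)) : IsNondegenerateOn f (part hf hD s) := by
  intro w hw hw0
  obtain ⟨i, hi⟩ : ∃ i, comp hf hD i w ≠ 0 := by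
    by_contra hcon
    push Not at hcon
    exact hw0 (ext_comp hf hD fun i => by rw [hcon i, comp_zero])
  have his : i ∈ s := by_contra fun h => hi (hw i h)
  obtain ⟨y, hy, hne⟩ := (hD.nondegenerate i _ (comp_mem hf hD i w) hi).2
  have h1 : f w y ≠ 0 := by rwa [form_single hf hD hy]
  exact ⟨⟨y, member_le_part hf hD his hy, fun h => h1 (herm_swap_zero hf h)⟩,
    ⟨y, member_le_part hf hD his hy, h1⟩⟩

theorem finrank_part (s : Finset (Fin t)) : Module.finrank F (part hf hD s) = k * s.card := by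
  classical
  induction s using Finset.induction_on with
  | empty =>
    rw [Finset.card_empty, mul_zero, Submodule.finrank_eq_zero, Submodule.eq_bot_iff]
    exact fun x hx => ext_comp hf hD fun i => by rw [hx i (by simp), comp_zero]
  | @insert a s ha ih =>
    have hsup : D a ⊔ part hf hD s = part hf hD (insert a s) := by
      refine le_antisymm (sup_le (member_le_part hf hD (Finset.mem_insert_self _ _))
        fun x hx i hi => hx i (fun h => hi (Finset.mem_insert_of_mem h))) fun x hx => ?_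
      refine Submodule.mem_sup.2 ⟨comp hf hD a x, comp_mem hf hD a x, x - comp hf hD a x, fun i hi => ?_,
        add_sub_cancel _ _⟩
      rw [comp_sub]
      rcases eq_or_ne i a with rfl | hia
      · rw [comp_self hf hD (comp_mem hf hD i x), sub_self]
      · rw [comp_other hf hD (Ne.symm hia) (comp_mem hf hD a x), sub_zero]
        exact hx i (by simp [hia, hi])
    have hinf : D a ⊓ part hf hD s = ⊥ := by
      rw [Submodule.eq_bot_iff]
      intro x hx
      rw [← comp_self hf hD hx.1]
      exact hx.2 a ha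
    have h1 := Submodule.finrank_sup_add_finrank_inf_eq (D a) (part hf hD s)
    rw [hsup, hinf, finrank_bot, hD.decomp.finrank_eq a, ih] at h1
    rw [Finset.card_insert_of_notMem ha, mul_add, mul_one]
    omega

/-! ### A group containing the stabiliser -/

variable {M : Subgroup (GL ι F)} (hH : decompositionStabilizer D ⊓ (isoU f ⊓ specialLinear ι F) ≤ M)
include hH

theorem mem_of_keeps {g : GL ι F} (hg : g ∈ isoU f) (hk : Keeps D g) (hdet : (g : Matrix ι ι F).det = 1) :
    g ∈ M := hH ⟨hk.stab hD, hg, Units.ext hdet⟩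

theorem member_centre {i : Fin t} {u : ι → F} (hu : u ∈ D i) (huu : f u u = 0) : u ∈ centres hf M :=
  mem_centres_of_stab hf hH huu fun c h0 => Keeps.stab hD fun j x hx => by
    rw [tv_mulVec, smul_dotProduct, hv_dot, smul_eq_mul]
    rcases eq_or_ne j i with rfl | hji
    · exact (D j).add_mem hx ((D j).smul_mem _ hu)
    · rw [hD.orthogonal j i hji x hx u hu, mul_zero, zero_smul, add_zero]
      exact hx

/-- isometries of one member, compensated in another one -/
theorem exists_member_move {i c : Fin t} (hci : c ≠ i) {a : ι → F} (ha : a ∈ D c) (haa : f a a ≠ 0) {x y : ι → F}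
    (hx : x ∈ D i) (hy : y ∈ D i) (hxy : f x x = f y y) (hx0 : f x x ≠ 0) :
    ∃ g ∈ M, Keeps D g ∧ (g : Matrix ι ι F) *ᵥ x = y ∧
      ∀ z, comp hf hD i z = 0 → f z a = 0 → (g : Matrix ι ι F) *ᵥ z = z := by
  obtain ⟨g, hg, hgP, hgx⟩ := exists_norm_move hf hx hy hxy hx0
  have hdet := isoU_det_norm hf hg.1
  obtain ⟨q, hq, hqdet, hqf⟩ := exists_qref hf haa (ζ := (g : Matrix ι ι F).det⁻¹) (by
    rw [map_inv₀, ← mul_inv, hdet, inv_one])
  have hgk : Keeps D g := fun j z hz => by
    rcases eq_or_ne j i with rfl | hji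
    · exact (mem_subspaceStabilizer_iff.1 hg.2 z).1 hz
    · rw [hgP z (mem_perp_other hf hD hji hz)]; exact hz
  have hk : Keeps D (q * g) := (keeps_of_qref hf hD ha hqf).mul hgk
  refine ⟨q * g, mem_of_keeps hf hD hH ((isoU f).mul_mem hq hg.1) hk ?_, hk, ?_, fun z hz hza => ?_⟩
  · rw [Units.val_mul, det_mul, hqdet, inv_mul_cancel₀ (left_ne_zero_of_mul_eq_one hdet)]
  · rw [gl_mul_mulVec, hgx, hqf, herm_swap_zero hf (hD.orthogonal c i hci a ha y hy), mul_zero, zero_smul, add_zero]
  · have hzi : z ∈ perp hf (D i) := by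
      have := comp_perp hf hD i z
      rwa [hz, sub_zero] at this
    rw [gl_mul_mulVec, hgP z hzi, hqf, hza, mul_zero, zero_smul, add_zero]

/-- every permutation of the members is realised -/
theorem exists_perm (π : Equiv.Perm (Fin t)) :
    ∃ g ∈ M, ∀ i, ∀ x ∈ D i, (g : Matrix ι ι F) *ᵥ x ∈ D (π i) := by
  induction π using Equiv.Perm.swap_induction_on with
  | one => exact ⟨1, M.one_mem, fun i x hx => by simpa using hx⟩
  | @swap_mul ρ a b hab ih =>
    obtain ⟨h, hh, hhD⟩ := ih
    obtain ⟨g, hg, hdet, hfix, hgU, hgU'⟩ := exists_exchange hf (hD.nondegenerate a) (hD.nondegenerate b)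
      (hD.orthogonal a b hab) ((hD.decomp.finrank_eq a).trans (hD.decomp.finrank_eq b).symm)
    obtain ⟨p, hp, hpp⟩ := exists_unit_vec hf hD a
    obtain ⟨q, hq, hqd, hqf⟩ := exists_qref hf (d := p) (by rw [hpp]; exact one_ne_zero)
      (ζ := (g : Matrix ι ι F).det) (by rcases hdet with e | e <;> rw [e] <;> simp)
    have hmaps : ∀ i, ∀ x ∈ D i, ((q * g : GL ι F) : Matrix ι ι F) *ᵥ x ∈ D (Equiv.swap a b i) := by
      intro i x hx
      rw [gl_mul_mulVec]
      refine keeps_of_qref hf hD hp hqf _ _ ?_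
      rcases eq_or_ne i a with rfl | hia
      · rw [Equiv.swap_apply_left]; exact hgU x hx
      rcases eq_or_ne i b with rfl | hib
      · rw [Equiv.swap_apply_right]; exact hgU' x hx
      rw [Equiv.swap_apply_of_ne_of_ne hia hib,
        hfix x (fun u hu => hD.orthogonal i a hia x hx u hu) (fun u hu => hD.orthogonal i b hib x hx u hu)]
      exact hx
    have hM : q * g ∈ M := hH ⟨stab_of_maps hD _ hmaps, (isoU f).mul_mem hq hg, Units.ext (by
      show ((q * g : GL ι F) : Matrix ι ι F).det = 1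
      rw [Units.val_mul, det_mul, hqd]
      rcases hdet with e | e <;> rw [e] <;> ring)⟩
    refine ⟨q * g * h, M.mul_mem hM hh, fun i x hx => ?_⟩
    rw [gl_mul_mulVec, Equiv.Perm.mul_apply]
    exact hmaps _ _ (hhD i x hx)

end CfsgLib.Perm.Trans.Unit.Dec
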