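import Cfsg.Agent.Lib.Perm.Trans.UnitDecomp.Escape
import Cfsg.Agent.Lib.Perm.Trans.UnitDecomp.Spread
import Cfsg.Agent.Lib.Perm.Trans.UnitTwoTori

/-!
# Transvections above an orthonormal frame stabiliser
-/

set_option autoImplicit false
set_option linter.all false

namespace CfsgLib.Perm.Trans.Unit.Dec

open scoped Matrix
open Matrix Cfsg.Geo CfsgLib.Perm.Asch CfsgLib.Perm.Trans CfsgLib.Perm.Trans.Unit

variable {ι : Type} [Fintype ι] [DecidableEq ι] {F : Type*} [Field F] [Fintype F]
variable {σ : F ≃+* F} {f : (ι → F) → (ι → F) → F} (hf : IsUnitaryForm σ f)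
include hf

/-- two scalars of norm one whose sum less one has norm different from zero and one -/
theorem exists_eps (h4 : 4 < Fintype.card F) : ∃ u ∈ circ σ, ∃ v ∈ circ σ, (u : F) ≠ 1 ∧ (v : F) ≠ 1 ∧
    (u : F) + v - 1 ≠ 0 ∧ ((u : F) + v - 1) * σ ((u : F) + v - 1) ≠ 1 := by
  classical
  have h3 := three_le_circ hf
  by_cases h2 : (2 : F) = 0
  · obtain ⟨u, hu, hu1, hu2, hu3⟩ := exists_cubic hf h4
    have hu' : (u : F) * σ u = 1 := hu
    refine ⟨u, hu, u⁻¹, (circ σ).inv_mem hu, hu1, ?_, ?_, ?_⟩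
    · rw [Units.val_inv_eq_inv_val, Ne, inv_eq_one]
      exact hu1
    · intro h
      rw [Units.val_inv_eq_inv_val] at h
      field_simp at h
      exact hu3 (by linear_combination ((u : F) - 1) * h + ((u : F) ^ 2 - (u : F)) * h2)
    · rw [← circ_sigma hu, map_sub, map_add, hf.involutive, map_one]
      intro h
      have h' : ((u : F) + σ u) ^ 2 = 0 := by linear_combination h + ((u : F) + σ u) * h2
      have h'' : (u : F) + σ u = 0 := pow_eq_zero_iff two_ne_zero |>.1 h'
      exact hu2 (by linear_combination (u : F) * h'' - hu' - h2)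
  · obtain ⟨u, hu, h⟩ := exists_circ_notMem (σ := σ) (s := {1, (2 : F)⁻¹}) (lt_of_le_of_lt Finset.card_le_two (by omega))
    simp only [Finset.mem_insert, Finset.mem_singleton, not_or] at h
    have hu' : (u : F) * σ u = 1 := hu
    refine ⟨u, hu, u, hu, h.1, h.1, fun e => h.2 ?_, fun e => h.1 ?_⟩
    · field_simp
      linear_combination e
    · rw [map_sub, map_add, map_one] at e
      have h' : ((u : F) - 1) ^ 2 * 2 = 0 := by
        linear_combination -(u : F) * e + (4 * (u : F) - 2) * hu'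
      exact sub_eq_zero.1 (pow_eq_zero_iff two_ne_zero |>.1 ((mul_eq_zero.1 h').resolve_right h2))

variable {t : ℕ} {D : Fin t → Submodule F (ι → F)} (hD : IsNondegenerateMDecomposition f 1 D)
include hD
variable {M : Subgroup (GL ι F)} (hM : M ≤ isoU f) (hH : decompositionStabilizer D ⊓ (isoU f ⊓ specialLinear ι F) ≤ M)
include hM hH

omit hM hH in
/-- `M` has the quasi-reflections at `u`, compensated on the line `l` -/
def HasRef (M : Subgroup (GL ι F)) (l : Fin t) (u : ι → F) : Prop :=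
  ∀ z ∈ circ σ, ∃ g ∈ M, ∀ x, (g : Matrix ι ι F) *ᵥ x = x + (((z : F) - 1) / f u u * f x u) • u +
    ((((z⁻¹ : Fˣ) : F) - 1) * f x (bv hf hD l)) • bv hf hD l

omit hH in
theorem hasRef_conj {l : Fin t} {u : ι → F} (h : HasRef hf hD M l u) {g : GL ι F} (hg : g ∈ M) {c : F}
    (hgl : (g : Matrix ι ι F) *ᵥ bv hf hD l = c • bv hf hD l) :
    HasRef hf hD M l ((g : Matrix ι ι F) *ᵥ u) := by
  intro z hz
  obtain ⟨r, hr, hrx⟩ := h z hz
  refine ⟨g * r * g⁻¹, M.mul_mem (M.mul_mem hg hr) (M.inv_mem hg), fun x => ?_⟩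
  have hiso := mem_isoU.1 (hM hg)
  have hNc : c * σ c = 1 := by
    have := hiso (bv hf hD l) (bv hf hD l)
    rwa [hgl, hf.smul_left, herm_smul_right hf, bv_norm hf hD, mul_one] at this
  have hx : ∀ w, f (((g⁻¹ : GL ι F) : Matrix ι ι F) *ᵥ x) w = f x ((g : Matrix ι ι F) *ᵥ w) := fun w => by
    rw [← hiso, gl_mulVec_inv]
  rw [gl_mul_mulVec, gl_mul_mulVec, hrx, mulVec_add, mulVec_add, mulVec_smul, mulVec_smul, gl_mulVec_inv, hiso,
    hx, hx, hgl, herm_smul_right hf, smul_smul]
  congr 2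
  linear_combination ((((z⁻¹ : Fˣ) : F) - 1) * f x (bv hf hD l)) * hNc

omit hM in
theorem hasRef_bv {l i : Fin t} (hil : i ≠ l) : HasRef hf hD M l (bv hf hD i) := by
  intro z hz
  obtain ⟨g, hg, hgk, hgd, hgx⟩ := exists_tor_pair hf hD hil hz
  exact ⟨g, mem_of_keeps hf hD hH hg hgk hgd, fun x => by rw [hgx, bv_norm hf hD, div_one]⟩

omit hH in
/-- two reflection centres fill their plane -/
theorem plane_step {l : Fin t} {v e w : ι → F} {α : F} (hα : α ≠ 0) (hvv : f v v ≠ 0) (hee : f e e ≠ 0)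
    (hve : f v e = 0) (hw : w = α • v + e) (hww : f w w ≠ 0) (hvl : f v (bv hf hD l) = 0)
    (hwl : f w (bv hf hD l) = 0) (hv : HasRef hf hD M l v) (hwr : HasRef hf hD M l w) :
    (∀ z ∈ Submodule.span F {v, e}, f z z = 0 → z ∈ centres hf M) ∧
      ∀ p ∈ Submodule.span F {v, e}, f p p ≠ 0 → HasRef hf hD M l p := by
  obtain ⟨P, hP⟩ : ∃ P, P = Submodule.span F ({v, e} : Set (ι → F)) := ⟨_, rfl⟩
  rw [← hP]
  have hel : f e (bv hf hD l) = 0 := by
    rw [hw, hf.add_left, hf.smul_left, hvl, mul_zero, zero_add] at hwl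
    exact hwl
  have hll : f (bv hf hD l) (bv hf hD l) ≠ 0 := by rw [bv_norm hf hD]; exact one_ne_zero
  have hl : ∀ p ∈ P, f (bv hf hD l) p = 0 := by
    intro p hp
    rw [hP] at hp
    obtain ⟨r, s, rfl⟩ := Submodule.mem_span_pair.1 hp
    rw [herm_add_right hf, herm_smul_right hf, herm_smul_right hf, herm_swap_zero hf hvl, herm_swap_zero hf hel,
      mul_zero, mul_zero, add_zero]
  have hact : ∀ a ∈ P, HasRef hf hD M l a → RefAct (σ := σ) (f := f) M P (bv hf hD l) a := by
    intro a ha href z hz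
    obtain ⟨g, hg, hgx⟩ := href z hz
    refine ⟨g, hg, ⟨((z⁻¹ : Fˣ) : F), Units.ne_zero _, fun x hx => ?_⟩, fun x hx => ?_⟩
    · rw [hgx, hx a ha, mul_zero, zero_smul, add_zero, bv_norm hf hD, div_one]
    · rw [hgx, herm_swap_zero hf (hl x hx), mul_zero, zero_smul, add_zero]
  have hvP : v ∈ P := hP ▸ Submodule.subset_span (by simp)
  have heP : e ∈ P := hP ▸ Submodule.subset_span (by simp)
  have hwP : w ∈ P := hw ▸ P.add_mem (P.smul_mem α hvP) heP
  have hcent := centres_of_two_tori hf hM hP hvv hee hve hll hl hα hw hww (hact v hvP hv) (hact w hwP hwr)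
  refine ⟨hcent, fun p hp hpp => ?_⟩
  have hnd : IsNondegenerateOn f P := by
    have h := nondeg_sup_singleton hf (isNondegenerateOn_singleton hf hvv) hee (fun w hw => by
      obtain ⟨c, rfl⟩ := Submodule.mem_span_singleton.1 hw
      rw [herm_smul_right hf, herm_swap_zero hf hve, mul_zero])
    rwa [← Submodule.span_union, Set.singleton_union, ← hP] at h
  have hdim : Module.finrank F P = 2 := by
    rw [hP, ← Matrix.range_cons_cons_empty v e, finrank_span_eq_card]
    · simp
    · rw [LinearIndependent.pair_iff]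
      intro r s h
      have e1 := congrArg (fun x => f x v) h
      have e2 := congrArg (fun x => f x e) h
      simp only [hf.add_left, hf.smul_left, hve, herm_swap_zero hf hve, herm_zero_left hf, mul_zero, add_zero,
        zero_add, mul_eq_zero, hvv, hee, or_false] at e1 e2
      exact ⟨e1, e2⟩
  obtain ⟨c, hc⟩ := exists_norm hf (d := f p p / f v v) (by rw [map_div₀, ← hf.herm, ← hf.herm])
  have hc0 : c ≠ 0 := fun h => by rw [h, zero_mul, eq_comm, div_eq_zero_iff] at hc; exact hc.elim hpp hvv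
  have hN : f (c • v) (c • v) = f p p := by
    rw [hf.smul_left, herm_smul_right hf, ← mul_assoc, hc, div_mul_cancel₀ _ hvv]
  obtain ⟨g, hg, hgp⟩ := fixU_norm_move hf hnd hdim.ge (P.smul_mem c hvP) hp hN (by rw [hN]; exact hpp)
  have hgM : g ∈ M := mem_of_fix hf hnd (fun u hu huu d hd => (hcent u hu huu).2 d hd) (Or.inl (by omega)) hg
  have hscale : HasRef hf hD M l (c • v) := fun z hz => by
    obtain ⟨r, hr, hrx⟩ := hv z hz
    refine ⟨r, hr, fun x => ?_⟩
    rw [hrx, hN, herm_smul_right hf, smul_smul]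
    congr 2
    congr 1
    rw [← hN, hf.smul_left, herm_smul_right hf]
    have hσc : σ c ≠ 0 := by simpa using hc0
    field_simp
  have h := hasRef_conj hf hD hM hscale hgM (c := 1) (by rw [hg.2 _ (fun x hx => hl x hx), one_smul])
  rwa [hgp] at h

/-- a reflection centre off the lines gives a centre on two lines -/
theorem two_line_centre (h4 : 4 < Fintype.card F) {l : Fin t} {u : ι → F} (hu : HasRef hf hD M l u)
    (huu : f u u ≠ 0) (hul : f u (bv hf hD l) = 0) (hs : 2 ≤ (lsupp hf hD u).card) :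
    ∃ z ∈ centres hf M, ∃ i j, i ≠ j ∧ f z (bv hf hD i) ≠ 0 ∧ f z (bv hf hD j) ≠ 0 ∧
      ∀ m, m ≠ i → m ≠ j → f z (bv hf hD m) = 0 := by
  classical
  induction hn : (lsupp hf hD u).card using Nat.strong_induction_on generalizing u with
  | _ n ih =>
  subst hn
  have hil : ∀ {i}, i ∈ lsupp hf hD u → i ≠ l := fun {i} hi e => (mem_lsupp hf hD).1 hi (e ▸ hul)
  by_cases hA : ∃ i ∈ lsupp hf hD u, f u (bv hf hD i) * σ (f u (bv hf hD i)) ≠ f u u
  · obtain ⟨i, hi, hne⟩ := hA
    have hi0 := (mem_lsupp hf hD).1 hi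
    obtain ⟨e, he⟩ : ∃ e, e = u - f u (bv hf hD i) • bv hf hD i := ⟨_, rfl⟩
    have hve : f (bv hf hD i) e = 0 := by
      rw [he, herm_sub_right hf, herm_smul_right hf, bv_norm hf hD, mul_one, hf.herm (bv hf hD i) u, sub_self]
    have hee : f e e ≠ 0 := by
      rw [he, herm_sub_left hf, herm_sub_right hf, herm_sub_right hf, hf.smul_left, hf.smul_left,
        herm_smul_right hf, herm_smul_right hf, bv_norm hf hD, hf.herm (bv hf hD i) u]
      intro h
      exact hne (by linear_combination -h)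
    obtain ⟨hcent, href⟩ := plane_step hf hD hM (α := f u (bv hf hD i)) hi0
      (by rw [bv_norm hf hD]; exact one_ne_zero) hee hve (by rw [he]; abel) huu (bv_orth hf hD (hil hi)) hul
      (hasRef_bv hf hD hH (hil hi)) hu
    have hecoord : ∀ m, f e (bv hf hD m) = if m = i then 0 else f u (bv hf hD m) := fun m => by
      rw [he, herm_sub_left hf, hf.smul_left]
      split_ifs with h
      · subst h; rw [bv_norm hf hD, mul_one, sub_self]
      · rw [bv_orth hf hD (Ne.symm h), mul_zero, sub_zero]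
    have hse : lsupp hf hD e = (lsupp hf hD u).erase i := by
      ext m
      rw [Finset.mem_erase, mem_lsupp, mem_lsupp, hecoord]
      by_cases h : m = i <;> simp [h]
    by_cases h2 : 2 ≤ (lsupp hf hD e).card
    · refine ih _ (by rw [hse, Finset.card_erase_of_mem hi]; omega)
        (href e (Submodule.subset_span (by simp)) hee) hee ?_ h2 rfl
      rw [hecoord, if_neg (Ne.symm (hil hi)), hul]
    obtain ⟨j, hj⟩ : ∃ j, lsupp hf hD e = {j} := by
      refine Finset.card_eq_one.1 ?_
      rw [hse, Finset.card_erase_of_mem hi] at h2 ⊢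
      omega
    have hji : j ≠ i := by
      have : j ∈ (lsupp hf hD u).erase i := by rw [← hse, hj]; exact Finset.mem_singleton_self j
      exact Finset.ne_of_mem_erase this
    obtain ⟨z, hz, hz0, hzz⟩ := exists_isotropic hf (W := Submodule.span F {bv hf hD i, e}) (by
      rw [← Matrix.range_cons_cons_empty (bv hf hD i) e, finrank_span_eq_card]
      · simp
      · rw [LinearIndependent.pair_iff]
        intro r s h
        have e1 := congrArg (fun x => f x (bv hf hD i)) h
        have e2 := congrArg (fun x => f x e) h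
        simp only [hf.add_left, hf.smul_left, hve, herm_swap_zero hf hve, bv_norm hf hD, herm_zero_left hf, mul_zero,
          mul_one, add_zero, zero_add, mul_eq_zero, hee, or_false] at e1 e2
        exact ⟨e1, e2⟩)
    have hoff : ∀ m, m ≠ i → m ≠ j → f z (bv hf hD m) = 0 := by
      intro m hmi hmj
      obtain ⟨r, s, rfl⟩ := Submodule.mem_span_pair.1 hz
      have : f e (bv hf hD m) = 0 := by
        by_contra h
        have h' := (mem_lsupp hf hD).2 h
        rw [hj, Finset.mem_singleton] at h'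
        exact hmj h'
      rw [hf.add_left, hf.smul_left, hf.smul_left, bv_orth hf hD (Ne.symm hmi), this, mul_zero, mul_zero, add_zero]
    have hN : f z (bv hf hD i) * σ (f z (bv hf hD i)) + f z (bv hf hD j) * σ (f z (bv hf hD j)) = 0 := by
      rw [← hzz, form_line hf hD z z, Finset.sum_eq_add i j hji.symm]
      · exact fun m _ hm => by rw [hoff m hm.1 hm.2, zero_mul]
      · simp
      · simp
    have hboth : f z (bv hf hD i) ≠ 0 ∧ f z (bv hf hD j) ≠ 0 := by
      constructor <;> intro h <;> refine hz0 (ext_line hf hD fun m => ?_) <;> rw [herm_zero_left hf]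
      · rw [h, zero_mul, zero_add, mul_eq_zero, map_eq_zero, or_self] at hN
        rcases eq_or_ne m i with rfl | hmi
        · exact h
        rcases eq_or_ne m j with rfl | hmj
        · exact hN
        exact hoff m hmi hmj
      · rw [h, zero_mul, add_zero, mul_eq_zero, map_eq_zero, or_self] at hN
        rcases eq_or_ne m i with rfl | hmi
        · exact hN
        rcases eq_or_ne m j with rfl | hmj
        · exact h
        exact hoff m hmi hmj
    exact ⟨z, hcent z hz hzz, i, j, hji.symm, hboth.1, hboth.2, hoff⟩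
  push Not at hA
  have hs3 : 3 ≤ (lsupp hf hD u).card := by
    by_contra h
    obtain ⟨i, j, hij, hij'⟩ := Finset.card_eq_two.1 (show (lsupp hf hD u).card = 2 by omega)
    have hsum : f u u = f u (bv hf hD i) * σ (f u (bv hf hD i)) + f u (bv hf hD j) * σ (f u (bv hf hD j)) := by
      rw [form_line hf hD u u, Finset.sum_eq_add i j hij]
      · intro m _ hm
        by_contra hne
        have hm0 : f u (bv hf hD m) ≠ 0 := fun h0 => hne (by rw [h0, zero_mul])
        have h' := (mem_lsupp hf hD).2 hm0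
        rw [hij', Finset.mem_insert, Finset.mem_singleton] at h'
        exact h'.elim hm.1 hm.2
      · simp
      · simp
    rw [hA i (by rw [hij']; simp), hA j (by rw [hij']; simp)] at hsum
    exact huu (add_eq_left.1 hsum.symm)
  obtain ⟨i, j, m₃, hi, hj, -, hij, -, -⟩ := Finset.two_lt_card_iff.1 (show 2 < (lsupp hf hD u).card by omega)
  have hi0 := (mem_lsupp hf hD).1 hi
  have hj0 := (mem_lsupp hf hD).1 hj
  obtain ⟨ε, hε, η, hη, hε1, hη1, hα0, hα1⟩ := exists_eps hf h4
  let E : Fin t → Fˣ := fun m => if m = i then ε else if m = j then η else if m = l then (ε * η)⁻¹ else 1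
  have hE : ∀ m, E m ∈ circ σ := fun m => by
    simp only [E]
    split_ifs
    · exact hε
    · exact hη
    · exact (circ σ).inv_mem ((circ σ).mul_mem hε hη)
    · exact (circ σ).one_mem
  have hEi : E i = ε := by simp [E]
  have hEj : E j = η := by simp [E, hij.symm]
  have hEl : E l = (ε * η)⁻¹ := by simp [E, Ne.symm (hil hi), Ne.symm (hil hj)]
  obtain ⟨g, hg, hgk, hgd, hgb, hgc⟩ := exists_tor hf hD E hE
  have hgM : g ∈ M := mem_of_keeps hf hD hH hg hgk (by
    rw [hgd, ← Units.coe_prod, ← Finset.prod_subset (Finset.subset_univ ({i, j, l} : Finset (Fin t)))]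
    · rw [Finset.prod_insert (by simp [hij, hil hi]), Finset.prod_insert (by simp [hil hj]), Finset.prod_singleton,
        hEi, hEj, hEl, ← mul_assoc, mul_inv_cancel, Units.val_one]
    · intro m _ hm
      simp only [Finset.mem_insert, Finset.mem_singleton, not_or] at hm
      simp [E, hm.1, hm.2.1, hm.2.2])
  obtain ⟨u', hu'⟩ : ∃ u', u' = (g : Matrix ι ι F) *ᵥ u := ⟨_, rfl⟩
  obtain ⟨δ, hδ⟩ : ∃ δ, δ = u' - u := ⟨_, rfl⟩
  have hδc : ∀ m, f δ (bv hf hD m) =
      if m = i then ((ε : F) - 1) * f u (bv hf hD i) else if m = j then ((η : F) - 1) * f u (bv hf hD j) else 0 := by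
    intro m
    rw [hδ, hu', herm_sub_left hf, hgc]
    split_ifs with h1 h2
    · subst h1; rw [hEi]; ring
    · subst h2; rw [hEj]; ring
    · rcases eq_or_ne m l with rfl | hml
      · rw [hul, mul_zero, sub_zero]
      · simp [E, h1, h2, hml]
  have hu'u : f u' u = ((ε : F) + η - 1) * f u u := by
    have : f δ u = ((ε : F) - 1) * f u u + ((η : F) - 1) * f u u := by
      rw [form_line hf hD δ u, Finset.sum_eq_add i j hij]
      · rw [hδc, hδc, if_pos rfl, if_neg hij.symm, if_pos rfl, mul_assoc, mul_assoc, hA i hi, hA j hj]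
      · exact fun m _ hm => by rw [hδc, if_neg hm.1, if_neg hm.2, zero_mul]
      · simp
      · simp
    rw [show u' = δ + u by rw [hδ]; abel, hf.add_left, this]
    ring
  have hu'u' : f u' u' = f u u := by rw [hu', mem_isoU.1 hg]
  obtain ⟨e, he⟩ : ∃ e, e = u' - ((ε : F) + η - 1) • u := ⟨_, rfl⟩
  have huu' : f u u' = σ ((ε : F) + η - 1) * f u u := by rw [hf.herm u u', hu'u, map_mul, ← hf.herm]
  have hve : f u e = 0 := by rw [he, herm_sub_right hf, herm_smul_right hf, huu', sub_self]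
  have hee : f e e ≠ 0 := by
    rw [he, herm_sub_left hf, herm_sub_right hf, herm_sub_right hf, hf.smul_left, hf.smul_left, herm_smul_right hf,
      herm_smul_right hf, hu'u', hu'u, huu']
    intro h
    have h' : (1 - ((ε : F) + η - 1) * σ ((ε : F) + η - 1)) * f u u = 0 := by linear_combination h
    exact hα1 (sub_eq_zero.1 ((mul_eq_zero.1 h').resolve_right huu)).symm
  have hu'ref : HasRef hf hD M l u' := hu' ▸ hasRef_conj hf hD hM hu hgM (hgb l)
  have hu'l : f u' (bv hf hD l) = 0 := by rw [hu', hgc, hul, mul_zero]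
  obtain ⟨hcent, href⟩ := plane_step hf hD hM hα0 huu hee hve (w := u') (by rw [he]; abel)
    (by rw [hu'u']; exact huu) hul hu'l hu hu'ref
  have hδP : δ ∈ Submodule.span F ({u, e} : Set (ι → F)) :=
    Submodule.mem_span_pair.2 ⟨(ε : F) + η - 1 - 1, 1, by rw [hδ, he]; module⟩
  have hδi : f δ (bv hf hD i) ≠ 0 := by
    rw [hδc, if_pos rfl]; exact mul_ne_zero (sub_ne_zero.2 hε1) hi0
  have hδj : f δ (bv hf hD j) ≠ 0 := by
    rw [hδc, if_neg hij.symm, if_pos rfl]; exact mul_ne_zero (sub_ne_zero.2 hη1) hj0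
  have hδoff : ∀ m, m ≠ i → m ≠ j → f δ (bv hf hD m) = 0 := fun m h1 h2 => by rw [hδc, if_neg h1, if_neg h2]
  by_cases hδδ : f δ δ = 0
  · exact ⟨δ, hcent δ hδP hδδ, i, j, hij, hδi, hδj, hδoff⟩
  have hcard : (lsupp hf hD δ).card = 2 := by
    rw [← Finset.card_pair hij]
    congr 1
    ext m
    rw [mem_lsupp, Finset.mem_insert, Finset.mem_singleton]
    refine ⟨fun h => ?_, fun h => by rcases h with rfl | rfl <;> assumption⟩
    by_contra hno
    rw [not_or] at hno
    exact h (hδoff m hno.1 hno.2)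
  refine ih 2 (by omega) (href δ hδP hδδ) hδδ ?_ (by omega) hcard
  rw [hδoff l (Ne.symm (hil hi)) (Ne.symm (hil hj))]

/-- a group with a line column above a frame stabiliser has a good pair -/
theorem exists_pairGood_of_lineCol (ht : 3 ≤ t) (h4 : 4 < Fintype.card F) (hlc : HasLineCol hf hD M) :
    ∃ i j, i ≠ j ∧ PairGood hf (D := D) M i j := by
  classical
  obtain ⟨y, hy, hys, l, m, hm⟩ := hlc
  obtain ⟨p, hp, hpD⟩ := exists_perm hf hD hH (Equiv.swap m l)
  obtain ⟨x, hx⟩ : ∃ x, x = p * y := ⟨_, rfl⟩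
  have hxM : x ∈ M := hx ▸ M.mul_mem hp hy
  have hxs : x ∉ decompositionStabilizer D := fun h => hys (by
    have := (decompositionStabilizer D).mul_mem ((decompositionStabilizer D).inv_mem (stab_of_maps hD _ hpD)) h
    rwa [hx, inv_mul_cancel_left] at this)
  have hxl : (x : Matrix ι ι F) *ᵥ bv hf hD l ∈ D l := by
    rw [hx, gl_mul_mulVec]
    simpa using hpD m _ hm
  have hxl' : (x : Matrix ι ι F) *ᵥ bv hf hD l = f ((x : Matrix ι ι F) *ᵥ bv hf hD l) (bv hf hD l) • bv hf hD l := by
    rw [← comp_line hf hD, comp_self hf hD hxl]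
  obtain ⟨a, ha⟩ := exists_col hf hD hxs
  have hal : a ≠ l := fun e => ha (e ▸ ⟨l, hxl⟩)
  obtain ⟨u, hu⟩ : ∃ u, u = (x : Matrix ι ι F) *ᵥ bv hf hD a := ⟨_, rfl⟩
  rw [← hu] at ha
  have huu : f u u = 1 := by rw [hu, mem_isoU.1 (hM hxM), bv_norm hf hD]
  have hul : f u (bv hf hD l) = 0 := by
    have h := mem_isoU.1 (hM hxM) (bv hf hD a) (bv hf hD l)
    rw [hxl', ← hu, herm_smul_right hf, bv_orth hf hD hal, mul_eq_zero, map_eq_zero] at h
    refine h.resolve_left fun h0 => ?_
    rw [h0, zero_smul, gl_mulVec_eq_zero] at hxl'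
    exact bv_ne_zero hf hD l hxl'
  have href : HasRef hf hD M l u := hu ▸ hasRef_conj hf hD hM (hasRef_bv hf hD hH hal) hxM hxl'
  have hcard : 2 ≤ (lsupp hf hD u).card := by
    by_contra h
    exact ha (coord_of_card hf hD (by omega) (by omega))
  obtain ⟨z, hz, i, j, hij, hzi, hzj, hoff⟩ :=
    two_line_centre hf hD hM hH h4 href (by rw [huu]; exact one_ne_zero) hul hcard
  refine ⟨i, j, hij, fun a₁ ha₁ b₁ hb₁ hne hsum => ?_⟩
  obtain ⟨c, -, hc⟩ := Finset.exists_mem_notMem_of_card_lt_card (s := {i, j}) (t := (Finset.univ : Finset (Fin t)))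
    (lt_of_le_of_lt Finset.card_le_two (by simp; omega))
  simp only [Finset.mem_insert, Finset.mem_singleton, not_or] at hc
  have ha' : a₁ = f a₁ (bv hf hD i) • bv hf hD i := by rw [← comp_line hf hD, comp_self hf hD ha₁]
  have hb' : b₁ = f b₁ (bv hf hD j) • bv hf hD j := by rw [← comp_line hf hD, comp_self hf hD hb₁]
  obtain ⟨A, hA⟩ : ∃ A, A = f a₁ (bv hf hD i) := ⟨_, rfl⟩
  obtain ⟨B, hB⟩ : ∃ B, B = f b₁ (bv hf hD j) := ⟨_, rfl⟩
  rw [← hA] at ha'
  rw [← hB] at hb'
  obtain ⟨s, hs⟩ : ∃ s, s = A / f z (bv hf hD i) := ⟨_, rfl⟩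
  have hA0 : A ≠ 0 := fun h => hne (by rw [ha', h, zero_smul, herm_zero_left hf])
  have hs0 : s ≠ 0 := hs ▸ div_ne_zero hA0 hzi
  obtain ⟨r, hr⟩ : ∃ r, r = B / (s * f z (bv hf hD j)) := ⟨_, rfl⟩
  have hNz : f z (bv hf hD i) * σ (f z (bv hf hD i)) + f z (bv hf hD j) * σ (f z (bv hf hD j)) = 0 := by
    rw [← hz.1, form_line hf hD z z, Finset.sum_eq_add i j hij]
    · exact fun m _ hm => by rw [hoff m hm.1 hm.2, zero_mul]
    · simp
    · simp
  have hNab : A * σ A + B * σ B = 0 := by
    rw [ha', hb'] at hsum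
    rw [hf.smul_left, herm_smul_right hf, hf.smul_left, herm_smul_right hf, bv_norm hf hD, bv_norm hf hD] at hsum
    linear_combination hsum
  have hσs : σ s ≠ 0 := by simpa using hs0
  have hσzj : σ (f z (bv hf hD j)) ≠ 0 := by simpa using hzj
  have hσzi : σ (f z (bv hf hD i)) ≠ 0 := by simpa using hzi
  have hN : r * σ r = 1 := by
    rw [hr, map_div₀, map_mul, hs, map_div₀]
    have hσA : σ A ≠ 0 := by simpa using hA0
    field_simp
    linear_combination (f z (bv hf hD i) * σ (f z (bv hf hD i))) * hNab - A * σ A * hNz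
  obtain ⟨ru, hru, hruv⟩ := exists_circ (σ := σ) hN
  obtain ⟨g, hg', hgk, hgd, hgx⟩ := exists_tor_pair hf hD (Ne.symm hc.2 : j ≠ c) hru
  have h1 := centres_conj hf hM (mem_of_keeps hf hD hH hg' hgk hgd) (centres_smul hf hz s)
  suffices e : (g : Matrix ι ι F) *ᵥ (s • z) = a₁ + b₁ by rwa [e] at h1
  rw [hgx, hf.smul_left, hf.smul_left, hoff c hc.1 hc.2, mul_zero, mul_zero, zero_smul, add_zero, hruv, ha', hb']
  refine ext_line hf hD fun m => ?_
  rw [hf.add_left, hf.add_left, hf.smul_left, hf.smul_left, hf.smul_left, hf.smul_left]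
  rcases eq_or_ne m i with rfl | hmi
  · rw [bv_orth hf hD hij.symm, bv_norm hf hD, mul_zero, mul_zero, add_zero, add_zero, hs, mul_one,
      div_mul_cancel₀ _ hzi]
  rcases eq_or_ne m j with rfl | hmj
  · rw [bv_orth hf hD hij, bv_norm hf hD, mul_zero, zero_add, mul_one, mul_one, hr]
    field_simp
    ring
  rw [hoff m hmi hmj, bv_orth hf hD (Ne.symm hmi), bv_orth hf hD (Ne.symm hmj)]
  ring

/-- a group above a frame stabiliser has a good pair -/
theorem exists_pairGood_line (ht : t = 10 ∨ t = 12 ∨ 13 ≤ t) (h4 : 4 < Fintype.card F) {g : GL ι F} (hg : g ∈ M)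
    (hgs : g ∉ decompositionStabilizer D) : ∃ i j, i ≠ j ∧ PairGood hf (D := D) M i j :=
  exists_pairGood_of_lineCol hf hD hM hH (by omega) h4 (lineCol_of_not_le hf hD hM hH ht h4 hg hgs)

end CfsgLib.Perm.Trans.Unit.Dec
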