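import Cfsg.Agent.Lib.Perm.Trans.UnitDecomp.NineSmall
import Cfsg.Agent.Lib.Perm.Trans.UnitDecomp.Max

/-!
# Stabilisers of frames of eight lines are maximal

Eight divides the determinant exponent of all scalars over 9 and 49 elements, where quasi-reflections are lost: over 9
elements two rows norms coincide, over 49 elements every possible list of row norms has a vanishing sum of roots of
unity which separates two equal norms.
-/

set_option autoImplicit false
set_option linter.all false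
set_option synthInstance.maxSize 4000
set_option synthInstance.maxHeartbeats 200000

namespace CfsgLib.Perm.Trans.Unit.Dec

open scoped Matrix
open Matrix Cfsg.Geo CfsgLib.Perm.Asch CfsgLib.Perm.Trans CfsgLib.Perm.Trans.Unit

/-- the possible sorted lists of norms, less one, over 49 elements -/
def eightLists : Fin 16 → Fin 8 → Fin 6 :=
  ![
    ![0, 0, 0, 0, 0, 0, 0, 0],
    ![0, 0, 0, 0, 0, 0, 2, 5],
    ![0, 0, 0, 0, 0, 0, 3, 4],
    ![0, 0, 0, 0, 0, 1, 2, 4],
    ![0, 0, 0, 0, 1, 4, 4, 5],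
    ![0, 0, 0, 0, 2, 3, 4, 5],
    ![0, 0, 0, 0, 2, 4, 4, 4],
    ![0, 0, 0, 1, 2, 3, 4, 4],
    ![0, 0, 0, 4, 4, 4, 4, 5],
    ![0, 0, 1, 3, 4, 4, 4, 5],
    ![0, 0, 1, 4, 4, 4, 4, 4],
    ![0, 0, 2, 3, 4, 4, 4, 4],
    ![0, 3, 4, 4, 4, 4, 4, 5],
    ![0, 4, 4, 4, 4, 4, 4, 4],
    ![1, 2, 4, 4, 4, 4, 4, 5],
    ![1, 3, 4, 4, 4, 4, 4, 4]]

/-- exponents of a vanishing sum for each list -/
def eightExps : Fin 16 → Fin 8 → ℕ :=
  ![
    ![0, 0, 0, 0, 1, 2, 6, 7],
    ![0, 0, 0, 0, 0, 4, 4, 0],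
    ![0, 0, 0, 0, 2, 3, 7, 4],
    ![0, 0, 0, 0, 4, 0, 4, 0],
    ![0, 0, 0, 0, 0, 0, 4, 4],
    ![0, 0, 0, 1, 0, 2, 0, 5],
    ![0, 0, 0, 0, 1, 0, 1, 6],
    ![0, 0, 0, 0, 1, 0, 1, 6],
    ![0, 0, 0, 0, 0, 0, 4, 4],
    ![0, 0, 0, 0, 0, 0, 4, 4],
    ![0, 0, 0, 0, 1, 4, 4, 7],
    ![0, 0, 0, 0, 1, 4, 4, 7],
    ![0, 0, 0, 0, 0, 0, 4, 4],
    ![0, 0, 0, 0, 1, 4, 4, 7],
    ![0, 0, 0, 0, 0, 0, 4, 4],
    ![0, 0, 0, 0, 1, 4, 4, 7]]

/-- the first of two separated equal norms -/
def eightFst : Fin 16 → Fin 8 := ![0, 0, 0, 0, 5, 0, 5, 6, 3, 4, 3, 4, 2, 1, 2, 2]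

/-- the second of two separated equal norms -/
def eightSnd : Fin 16 → Fin 8 := ![4, 5, 4, 4, 6, 3, 6, 7, 6, 6, 4, 5, 6, 4, 6, 4]

theorem eight_config : ∀ k : Fin 16, eightFst k ≠ eightSnd k ∧ eightLists k (eightFst k) = eightLists k (eightSnd k) ∧
    eightExps k (eightFst k) ≠ eightExps k (eightSnd k) ∧ eightExps k (eightFst k) < 8 ∧ eightExps k (eightSnd k) < 8 ∧
    8 ∣ ∑ x, eightExps k x ∧
    (∑ x, (((eightLists k x : ℕ) + 1 : ℕ) : ℤ) * cheb 3 (eightExps k x + 1)) % 7 = 0 ∧
    (∑ x, (((eightLists k x : ℕ) + 1 : ℕ) : ℤ) * cheb 3 (eightExps k x)) % 7 = 0 := by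
  decide

/-- the sorted list of eight row norms over 49 elements -/
theorem multiset_eight_seven : ∀ a b : Fin 6, a ≤ b → (a = b → a = 0 ∨ a = 4) →
    ∀ c : Fin 6, b ≤ c → (b = c → b = 0 ∨ b = 4) → ∀ d : Fin 6, c ≤ d → (c = d → c = 0 ∨ c = 4) →
    ∀ e : Fin 6, d ≤ e → (d = e → d = 0 ∨ d = 4) → ∀ f : Fin 6, e ≤ f → (e = f → e = 0 ∨ e = 4) →
    ∀ g : Fin 6, f ≤ g → (f = g → f = 0 ∨ f = 4) → ∀ h : Fin 6, g ≤ h → (g = h → g = 0 ∨ g = 4) →
      ((a : ℕ) + b + c + d + e + f + g + h + 8) % 7 = 1 →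
      ∃ k : Fin 16, ![a, b, c, d, e, f, g, h] = eightLists k := by
  decide

variable {ι : Type} [Fintype ι] [DecidableEq ι] {F : Type*} [Field F] [Fintype F]
variable {σ : F ≃+* F} {f : (ι → F) → (ι → F) → F} (hf : IsUnitaryForm σ f)
variable {D : Fin 8 → Submodule F (ι → F)} (hD : IsNondegenerateMDecomposition f 1 D)

section

variable {M : Subgroup (GL ι F)} (hM : M ≤ isoU f) (hH : decompositionStabilizer D ⊓ (isoU f ⊓ specialLinear ι F) ≤ M)
variable {g : GL ι F} (hg : g ∈ M) (hgs : g ∉ decompositionStabilizer D) (hnz : AllEntries hf hD M)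
include hf hD hM hH hg hgs hnz

/-- eight lines over nine elements -/
theorem false_eight_three (hS : Nat.card {x : F // σ x = x} = 3) (hF : Fintype.card F = 3 ^ 2) {u : Fˣ}
    (hu : u ∈ circ σ) (huo : orderOf u = 4) : False := by
  obtain ⟨hchar, hcast⟩ := fixed_eq_cast hf Nat.prime_three hF hS
  have h3 : (3 : F) = 0 := by simpa using CharP.cast_eq_zero F 3
  have hsq : (u : F) ^ 2 = -1 := by
    have h4 : (u : F) ^ 4 = 1 := by rw [← Units.val_pow_eq_pow_val, ← huo, pow_orderOf_eq_one, Units.val_one]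
    have hne : (u : F) ^ 2 ≠ 1 := fun h => by
      have := Nat.le_of_dvd (by norm_num) (orderOf_dvd_of_pow_eq_one (x := u) (n := 2) (Units.ext (by simpa using h)))
      omega
    have : ((u : F) ^ 2 - 1) * ((u : F) ^ 2 + 1) = 0 := by linear_combination h4
    exact eq_neg_of_add_eq_zero_left ((mul_eq_zero.1 this).resolve_left (sub_ne_zero.2 hne))
  have hval : ∀ k, rnorm hf hD g 0 k = 1 ∨ rnorm hf hD g 0 k = 2 := fun k => by
    obtain ⟨n, hn, hnx⟩ := hcast _ (rnorm_fix hf hD g 0 k)
    interval_cases n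
    · exact absurd (by simpa using hnx.symm) (rnorm_ne_zero hf hD hM hg hgs hnz 0 k)
    · exact Or.inl (by simpa using hnx.symm)
    · exact Or.inr (by simpa using hnx.symm)
  obtain ⟨i, j, hij, hN⟩ : ∃ i j : Fin 8, i ≠ j ∧ rnorm hf hD g 0 i = rnorm hf hD g 0 j := by
    rcases hval 0 with a | a <;> rcases hval 1 with b | b <;> rcases hval 2 with c | c <;>
      first
      | exact ⟨0, 1, by decide, a.trans b.symm⟩
      | exact ⟨0, 2, by decide, a.trans c.symm⟩
      | exact ⟨1, 2, by decide, b.trans c.symm⟩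
  rcases hval i with hi | hi
  · refine false_of_pair hf hD hM hH (by norm_num) hg hgs hnz hij hN (u := u ^ 2) ((circ σ).pow_mem hu 2) ?_ ?_
    · rw [Units.val_pow_eq_pow_val, hsq]
      intro h
      exact one_ne_zero (α := F) (by linear_combination h + h3)
    · rw [Units.val_pow_eq_pow_val, hsq, map_neg, map_one, hi]
      linear_combination -h3
  · refine false_of_pair hf hD hM hH (by norm_num) hg hgs hnz hij hN (u := u) hu ?_ ?_
    · intro h
      rw [h] at hsq
      exact one_ne_zero (α := F) (by linear_combination h3 - hsq)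
    · have hu' : (u : F) * σ u = 1 := hu
      have hσu : σ (u : F) = -u := by linear_combination -(u : F) * hu' + σ (u : F) * hsq
      rw [hσu, hi]
      linear_combination -h3

/-- eight lines over 49 elements -/
theorem false_eight_seven (hS : Nat.card {x : F // σ x = x} = 7) (hF : Fintype.card F = 7 ^ 2) {u : Fˣ}
    (hu : u ∈ circ σ) (huo : orderOf u = 8) : False := by
  classical
  obtain ⟨hchar, hcast⟩ := fixed_eq_cast hf (by norm_num) hF hS
  have h7 : (7 : F) = 0 := by simpa using CharP.cast_eq_zero F 7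
  -- a generator of trace three
  obtain ⟨w, hw, hw2, hwo⟩ : ∃ w ∈ circ σ, (w : F) ^ 2 = 3 * (w : F) - 1 ∧ orderOf w = 8 := by
    have hu' : (u : F) * σ u = 1 := hu
    have hu4 : (u : F) ^ 4 = -1 := by
      have h8 : (u : F) ^ 8 = 1 := by rw [← Units.val_pow_eq_pow_val, ← huo, pow_orderOf_eq_one, Units.val_one]
      have : ((u : F) ^ 4 - 1) * ((u : F) ^ 4 + 1) = 0 := by linear_combination h8
      refine eq_neg_of_add_eq_zero_left ((mul_eq_zero.1 this).resolve_left (sub_ne_zero.2 fun h => ?_))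
      have := Nat.le_of_dvd (by norm_num) (orderOf_dvd_of_pow_eq_one (x := u) (n := 4) (Units.ext (by simpa using h)))
      omega
    have hsq : ((u : F) + σ u) ^ 2 = 3 ^ 2 := by
      have h0 : (u : F) ^ 2 * (((u : F) + σ u) ^ 2 - 2) = 0 := by
        linear_combination hu4 + ((u : F) * σ u + 1 + 2 * (u : F) ^ 2) * hu'
      have := (mul_eq_zero.1 h0).resolve_left (pow_ne_zero 2 u.ne_zero)
      linear_combination this - h7
    rcases sq_eq_sq_iff_eq_or_eq_neg.1 hsq with h | h
    · refine ⟨u, hu, ?_, huo⟩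
      linear_combination (u : F) * h - hu'
    · refine ⟨(-1) * u, (circ σ).mul_mem (mem_circ.2 (by simp)) hu, ?_, ?_⟩
      · push_cast
        linear_combination (u : F) * h - hu'
      · have hm : (-1 : Fˣ) = u ^ 4 := Units.ext (by push_cast; rw [hu4])
        rw [hm, ← pow_succ, orderOf_pow' u (by norm_num), huo]
        decide
  have hw8 : (w : F) ^ 8 = 1 := by rw [← Units.val_pow_eq_pow_val, ← hwo, pow_orderOf_eq_one, Units.val_one]
  have hinj : ∀ i j : ℕ, i < 8 → j < 8 → (w : F) ^ i = (w : F) ^ j → i = j := fun i j hi hj h =>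
    pow_injOn_Iio_orderOf (x := w) (by simp [hwo, hi]) (by simp [hwo, hj])
      (Units.ext (by simpa only [Units.val_pow_eq_pow_val] using h))
  have hne : ∀ i, 0 < i → i < 8 → (w : F) ^ i ≠ 1 := fun i h0 h1 h => by
    have := hinj i 0 h1 (by norm_num) (by rw [h, pow_zero])
    omega
  have hw' : (w : F) * σ w = 1 := hw
  have hσw : σ (w : F) = 3 - w := by linear_combination σ (w : F) * hw2 + (3 - (w : F)) * hw'
  have hw3 : (w : F) ^ 3 = 8 * (w : F) - 3 := by linear_combination ((w : F) + 3) * hw2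
  have hw4 : (w : F) ^ 4 = -1 := by linear_combination (w : F) * hw3 + 8 * hw2 + (3 * (w : F) - 1) * h7
  have hval : ∀ k, ∃ c : Fin 6, rnorm hf hD g 0 k = (((c : ℕ) + 1 : ℕ) : F) := fun k => by
    obtain ⟨n, hn, hnx⟩ := hcast _ (rnorm_fix hf hD g 0 k)
    rcases Nat.eq_zero_or_pos n with rfl | hn0
    · exact absurd (by simpa using hnx.symm) (rnorm_ne_zero hf hD hM hg hgs hnz 0 k)
    · exact ⟨⟨n - 1, by omega⟩, by rw [← hnx]; congr 1; simp only; omega⟩
  choose code hcode using hval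
  have hrep : ∀ i j, i ≠ j → code i = code j → code i = 0 ∨ code i = 4 := by
    intro i j hij he
    by_contra h3
    have hN : rnorm hf hD g 0 i = rnorm hf hD g 0 j := by rw [hcode, hcode, he]
    obtain ⟨c, hcdef⟩ : ∃ c, c = code i := ⟨_, rfl⟩
    have hi := hcode i
    rw [← hcdef] at hi h3
    fin_cases c
    · exact h3 (Or.inl rfl)
    · refine false_of_pair hf hD hM hH (by norm_num) hg hgs hnz hij hN (u := w ^ 4) ((circ σ).pow_mem hw 4)
        (by rw [Units.val_pow_eq_pow_val]; exact hne 4 (by norm_num) (by norm_num)) ?_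
      rw [hi, Units.val_pow_eq_pow_val, hw4, map_neg, map_one]
      norm_num
      linear_combination h7
    · refine false_of_pair hf hD hM hH (by norm_num) hg hgs hnz hij hN (u := w ^ 3) ((circ σ).pow_mem hw 3)
        (by rw [Units.val_pow_eq_pow_val]; exact hne 3 (by norm_num) (by norm_num)) ?_
      rw [hi, Units.val_pow_eq_pow_val, hw3, map_sub, map_mul, hσw, map_ofNat, map_ofNat]
      norm_num
      linear_combination 7 * h7
    · refine false_of_pair hf hD hM hH (by norm_num) hg hgs hnz hij hN (u := w ^ 2) ((circ σ).pow_mem hw 2)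
        (by rw [Units.val_pow_eq_pow_val]; exact hne 2 (by norm_num) (by norm_num)) ?_
      rw [hi, Units.val_pow_eq_pow_val, hw2, map_sub, map_mul, hσw, map_one, map_ofNat]
      norm_num
      linear_combination 3 * h7
    · exact h3 (Or.inr rfl)
    · refine false_of_pair hf hD hM hH (by norm_num) hg hgs hnz hij hN (u := w) hw
        (by simpa using hne 1 (by norm_num) (by norm_num)) ?_
      rw [hi, hσw]
      norm_num
      linear_combination h7
  obtain ⟨π, hπdef⟩ : ∃ π, π = Tuple.sort code := ⟨_, rfl⟩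
  have hmono : Monotone (code ∘ π) := hπdef ▸ Tuple.monotone_sort code
  have hadj : ∀ i j : Fin 8, i ≠ j → code (π i) = code (π j) → code (π i) = 0 ∨ code (π i) = 4 := fun i j h =>
    hrep _ _ (fun e => h (π.injective e))
  have hsum : ((code (π 0) : ℕ) + code (π 1) + code (π 2) + code (π 3) + code (π 4) + code (π 5) + code (π 6) +
      code (π 7) + 8) % 7 = 1 := by
    have h := rnorm_sum hf hD hM hg (l := (0 : Fin 8))
    rw [← Equiv.sum_comp π, Fin.sum_univ_eight, hcode, hcode, hcode, hcode, hcode, hcode, hcode, hcode] at h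
    simp only [← Nat.cast_add] at h
    rw [← Nat.cast_one (R := F)] at h
    have h' := (CharP.natCast_eq_natCast F 7).1 h
    simp only [Nat.ModEq] at h'
    omega
  obtain ⟨k, hk⟩ := multiset_eight_seven _ _ (hmono (show (0 : Fin 8) ≤ 1 by decide)) (hadj 0 1 (by decide))
    _ (hmono (show (1 : Fin 8) ≤ 2 by decide)) (hadj 1 2 (by decide))
    _ (hmono (show (2 : Fin 8) ≤ 3 by decide)) (hadj 2 3 (by decide))
    _ (hmono (show (3 : Fin 8) ≤ 4 by decide)) (hadj 3 4 (by decide))
    _ (hmono (show (4 : Fin 8) ≤ 5 by decide)) (hadj 4 5 (by decide))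
    _ (hmono (show (5 : Fin 8) ≤ 6 by decide)) (hadj 5 6 (by decide))
    _ (hmono (show (6 : Fin 8) ≤ 7 by decide)) (hadj 6 7 (by decide)) hsum
  have hv : ∀ x, code (π x) = eightLists k x := fun x => by
    rw [← hk]
    fin_cases x <;> rfl
  obtain ⟨hab, hMab, hEab, hEa, hEb, hdvd, h1, h0⟩ := eight_config k
  refine false_of_swap hf hD hM hH (by norm_num) hg hgs hnz (l := 0) (i := π (eightFst k)) (j := π (eightSnd k))
    (fun h => hab (π.injective h)) (by rw [hcode, hcode, hv, hv, hMab]) (e := fun x => w ^ eightExps k (π.symm x))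
    (fun x => (circ σ).pow_mem hw _) ?_ ?_ ?_
  · rw [← Equiv.prod_comp π]
    simp only [Equiv.symm_apply_apply, Units.val_pow_eq_pow_val]
    rw [Finset.prod_pow_eq_pow_sum]
    obtain ⟨d, hd⟩ := hdvd
    rw [hd, pow_mul, hw8, one_pow]
  · rw [← Equiv.sum_comp π]
    simp only [Equiv.symm_apply_apply, Units.val_pow_eq_pow_val, hcode, hv]
    simpa using sum_cheb_zero hchar (τ := 3) (by rw [hw2]; push_cast; rfl) w.ne_zero
      (fun x => (((eightLists k x : ℕ) + 1 : ℕ) : ℤ)) (eightExps k) h1 h0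
  · intro h
    simp only [Equiv.symm_apply_apply] at h
    exact hEab (hinj _ _ hEa hEb (by rw [← Units.val_pow_eq_pow_val, h, Units.val_pow_eq_pow_val]))

end

include hf hD

/-- a group above the stabiliser of eight lines has a line column -/
theorem lineCol_eight_lines {M : Subgroup (GL ι F)} (hM : M ≤ isoU f)
    (hH : decompositionStabilizer D ⊓ (isoU f ⊓ specialLinear ι F) ≤ M) (h4 : 4 < Fintype.card F) {g : GL ι F}
    (hg : g ∈ M) (hgs : g ∉ decompositionStabilizer D) : HasLineCol hf hD M := by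
  classical
  by_contra hno
  obtain ⟨q, hq, hF, hS, hcirc⟩ := exists_sizes hf
  have hq3 : 3 ≤ q := by nlinarith
  obtain ⟨u, hu, huo⟩ := exists_circ_generator hf
  rw [hcirc] at huo
  have hnz : AllEntries hf hD M := by
    intro x hx hxs l p hp
    refine hno ?_
    by_cases h2 : (2 : F) = 0
    · refine lineCol_of_zero_scalar hf hD hM hH (by norm_num) h4 hx hxs hp hu fun h => ?_
      have h1 : q + 1 ∣ 8 := huo ▸ orderOf_dvd_of_pow_eq_one (Units.ext (by simpa using h))
      have h3 := Nat.le_of_dvd (by norm_num) h1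
      have hchar : ringChar F = 2 := by
        haveI := ringChar.charP F
        have h5 : ringChar F ∣ 2 := (CharP.cast_eq_zero_iff F (ringChar F) 2).1 (by exact_mod_cast h2)
        exact ((Nat.dvd_prime Nat.prime_two).1 h5).resolve_left (CharP.ringChar_ne_one)
      have heven := FiniteField.even_card_iff_char_two.1 hchar
      rw [hF] at heven
      have : q ≤ 7 := by omega
      interval_cases q <;> first | omega | norm_num at h1
    · exact lineCol_of_zero hf hD hM hH (by norm_num) h2 h4 hx hxs hp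
  by_cases hbig : (u : F) ^ 16 = 1
  · have h1 : q + 1 ∣ 16 := huo ▸ orderOf_dvd_of_pow_eq_one (Units.ext (by simpa using hbig))
    have : q ≤ 15 := by have := Nat.le_of_dvd (by norm_num) h1; omega
    interval_cases q <;> norm_num at h1
    · exact false_eight_three hf hD hM hH hg hgs hnz hS hF hu huo
    · exact false_eight_seven hf hD hM hH hg hgs hnz hS hF hu huo
    · obtain ⟨p, hp⟩ := CharP.exists F
      obtain ⟨n, hp', hn⟩ := FiniteField.card F p
      rw [hF] at hn
      have h3 := (Nat.prime_dvd_prime_iff_eq Nat.prime_three hp').1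
        (Nat.prime_three.dvd_of_dvd_pow (hn ▸ (by norm_num : 3 ∣ 15 ^ 2)))
      have h5 := (Nat.prime_dvd_prime_iff_eq Nat.prime_five hp').1
        (Nat.prime_five.dvd_of_dvd_pow (hn ▸ (by norm_num : 5 ∣ 15 ^ 2)))
      omega
  · obtain ⟨R, S, hR, hSi, hRx, hSx, hz, hX⟩ :=
      exists_refl_data hf hD hM hH (by norm_num) hg hgs hnz hu (0 : Fin 8) 0
    refine false_of_refl_pair hf (bv_norm hf hD 0) (by rw [mem_isoU.1 (hM hg), bv_norm hf hD]) hz
      ((circ σ).inv_mem ((circ σ).pow_mem hu 8)) (fun h => hbig ?_) hR hSi hRx hSx hX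
    rw [Units.val_inv_eq_inv_val, Units.val_pow_eq_pow_val, inv_pow, inv_eq_one, ← pow_mul] at h
    exact h

/-- stabilisers of eight orthogonal lines are maximal -/
theorem decomposition_maximal_eight :
    IsMaximalIn (isoU f ⊓ specialLinear ι F) (decompositionStabilizer D ⊓ (isoU f ⊓ specialLinear ι F)) := by
  have hn : Fintype.card ι = 8 := (card_lines hD hf).symm
  refine isMaximalIn_of_centres hf (by omega) (not_le_stab hf hD (by omega)) fun M hHM hM hne => ?_
  have hMiso : M ≤ isoU f := hM.trans inf_le_left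
  obtain ⟨g, hg, hgs⟩ := SetLike.not_le_iff_exists.1 hne
  refine all_centres hf hD hMiso hHM (by norm_num) (Or.inl (by norm_num)) ?_
    fun _ hsmall => centres_small hf hD hsmall hMiso hHM (by norm_num) hg hgs
  rcases Nat.lt_or_ge 4 (Fintype.card F) with h4 | h4
  · obtain ⟨i, j, hij, hgood⟩ :=
      exists_pairGood_of_lineCol hf hD hMiso hHM (by norm_num) h4 (lineCol_eight_lines hf hD hMiso hHM h4 hg hgs)
    exact pairGood_all hf hD hMiso hHM hij hgood
  · exact fun a b hab => pairGood_small hf hD h4 hHM hab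

end CfsgLib.Perm.Trans.Unit.Dec
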