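import Cfsg.Agent.Lib.Perm.Trans.UnitDecomp.Lines
import Cfsg.Agent.Lib.Perm.Trans.UnitMax

/-!
# Leaving the stabiliser of an orthonormal frame

A group above the monomial unitary group contains a non-monomial element with a column on a line.
-/

set_option autoImplicit false
set_option linter.all false

namespace CfsgLib.Perm.Trans.Unit.Dec

open scoped Matrix
open Matrix Cfsg.Geo CfsgLib.Perm.Asch CfsgLib.Perm.Trans CfsgLib.Perm.Trans.Unit

variable {ι : Type} [Fintype ι] [DecidableEq ι] {F : Type*} [Field F] [Fintype F]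
variable {σ : F ≃+* F} {f : (ι → F) → (ι → F) → F} (hf : IsUnitaryForm σ f)
variable {t : ℕ} {D : Fin t → Submodule F (ι → F)} (hD : IsNondegenerateMDecomposition f 1 D)
include hf hD

/-- the coordinates where `x` does not vanish -/
noncomputable def lsupp (x : ι → F) : Finset (Fin t) :=
  open Classical in Finset.univ.filter fun i => f x (bv hf hD i) ≠ 0

theorem mem_lsupp {x : ι → F} {i : Fin t} : i ∈ lsupp hf hD x ↔ f x (bv hf hD i) ≠ 0 := by simp [lsupp]

theorem coord_of_card {x : ι → F} (ht : 0 < t) (h : (lsupp hf hD x).card ≤ 1) : Coord D x := by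
  rcases (lsupp hf hD x).eq_empty_or_nonempty with he | ⟨m, hm⟩
  · refine coord_of hf hD (m := ⟨0, ht⟩) fun i _ => ?_
    by_contra hi
    have := (mem_lsupp hf hD).2 hi
    rw [he] at this
    exact Finset.notMem_empty i this
  · refine coord_of hf hD (m := m) fun i hi => ?_
    by_contra hi'
    exact hi (Finset.card_le_one.1 h i ((mem_lsupp hf hD).2 hi') m hm)

/-- some combination of two columns is supported on three lines -/
theorem exists_wide (ht : 4 ≤ t) {g : GL ι F} (hg : g ∈ isoU f) (hgs : g ∉ decompositionStabilizer D)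
    (hC : 4 ≤ Nat.card (circ σ) ∨ ∀ l, (lsupp hf hD ((g : Matrix ι ι F) *ᵥ bv hf hD l)).card ≠ 2) :
    ∃ a b, a ≠ b ∧ ∃ u ∈ circ σ,
      3 ≤ (lsupp hf hD ((g : Matrix ι ι F) *ᵥ bv hf hD a + (u : F) • ((g : Matrix ι ι F) *ᵥ bv hf hD b))).card := by
  classical
  by_contra hcon
  push Not at hcon
  obtain ⟨a, ha⟩ := exists_col hf hD hgs
  have ha2 : 2 ≤ (lsupp hf hD ((g : Matrix ι ι F) *ᵥ bv hf hD a)).card := by
    by_contra h
    exact ha (coord_of_card hf hD (by omega) (by omega))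
  obtain ⟨A, hA⟩ : ∃ A, A = lsupp hf hD ((g : Matrix ι ι F) *ᵥ bv hf hD a) := ⟨_, rfl⟩
  rw [← hA] at ha2
  have h3 := three_le_circ hf
  have hall : ∀ b, b ≠ a → lsupp hf hD ((g : Matrix ι ι F) *ᵥ bv hf hD b) ⊆ A := by
    intro b hb
    obtain ⟨B, hB⟩ : ∃ B, B = lsupp hf hD ((g : Matrix ι ι F) *ᵥ bv hf hD b) := ⟨_, rfl⟩
    let S : circ σ → Finset (Fin t) := fun u =>
      lsupp hf hD ((g : Matrix ι ι F) *ᵥ bv hf hD a + ((u : Fˣ) : F) • ((g : Matrix ι ι F) *ᵥ bv hf hD b))
    have hS : ∀ u, (S u).card ≤ 2 := fun u => Nat.lt_succ_iff.1 (hcon a b (Ne.symm hb) u u.2)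
    have hkill : ∀ i ∈ A ∪ B, (Finset.univ.filter fun u => i ∉ S u).card ≤ 1 := by
      intro i hi
      refine Finset.card_le_one.2 fun u hu v hv => ?_
      simp only [Finset.mem_filter, Finset.mem_univ, true_and, S, mem_lsupp, not_not, hf.add_left,
        hf.smul_left] at hu hv
      have hib : f ((g : Matrix ι ι F) *ᵥ bv hf hD b) (bv hf hD i) ≠ 0 := by
        intro h0
        rcases Finset.mem_union.1 hi with h | h
        · rw [hA, mem_lsupp] at h
          rw [h0, mul_zero, add_zero] at hu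
          exact h hu
        · exact ((mem_lsupp hf hD).1 (hB ▸ h)) h0
      exact Subtype.ext (Units.ext (mul_right_cancel₀ hib (add_left_cancel (hu.trans hv.symm))))
    have hsum : ∑ u : circ σ, ((A ∪ B).filter fun i => i ∉ S u).card ≤ (A ∪ B).card := by
      simp only [Finset.card_filter]
      rw [Finset.sum_comm]
      refine le_trans (Finset.sum_le_sum (g := fun _ => 1) fun i hi => ?_) (by simp)
      rw [← Finset.card_filter]
      exact hkill i hi
    have hlow : ∀ u : circ σ, (A ∪ B).card ≤ 2 + ((A ∪ B).filter fun i => i ∉ S u).card := by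
      intro u
      have h1 : (A ∪ B) ⊆ S u ∪ (A ∪ B).filter fun i => i ∉ S u := fun i hi => by
        by_cases h : i ∈ S u
        · exact Finset.mem_union_left _ h
        · exact Finset.mem_union_right _ (Finset.mem_filter.2 ⟨hi, h⟩)
      have h2 := Finset.card_le_card h1
      have h3' := Finset.card_union_le (S u) ((A ∪ B).filter fun i => i ∉ S u)
      have := hS u
      omega
    have htot : Nat.card (circ σ) * (A ∪ B).card ≤ 2 * Nat.card (circ σ) + (A ∪ B).card := by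
      have h1 := Finset.sum_le_sum (s := (Finset.univ : Finset (circ σ))) fun u _ => hlow u
      rw [Finset.sum_const, Finset.sum_add_distrib, Finset.sum_const, Finset.card_univ, ← Nat.card_eq_fintype_card,
        smul_eq_mul, smul_eq_mul] at h1
      omega
    have hAB : (A ∪ B).card ≤ A.card := by
      rcases hC with h4 | h2
      · have : (A ∪ B).card ≤ 2 := by
          by_contra h
          push Not at h
          nlinarith
        omega
      · have hne := h2 a
        rw [← hA] at hne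
        have : (A ∪ B).card ≤ 3 := by
          by_contra h
          push Not at h
          nlinarith
        omega
    rw [← hB]
    intro i hi
    exact (Finset.eq_of_subset_of_card_le Finset.subset_union_left hAB).symm ▸ Finset.mem_union_right _ hi
  have hA3 : A.card ≤ 3 := by
    obtain ⟨b, hb⟩ : ∃ b : Fin t, b ≠ a := by
      obtain ⟨b, -, hb⟩ := Finset.exists_mem_ne (s := (Finset.univ : Finset (Fin t))) (by simp; omega) a
      exact ⟨b, hb⟩
    have hsub := hall b hb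
    by_contra hbig
    push Not at hbig
    -- two columns with disjointly many lines
    let S : circ σ → Finset (Fin t) := fun u =>
      lsupp hf hD ((g : Matrix ι ι F) *ᵥ bv hf hD a + ((u : Fˣ) : F) • ((g : Matrix ι ι F) *ᵥ bv hf hD b))
    have hcov : ∀ u v : circ σ, u ≠ v → A ⊆ S u ∪ S v := by
      intro u v huv i hi
      by_contra hno
      simp only [S, Finset.mem_union, mem_lsupp, not_or, not_not, hf.add_left, hf.smul_left] at hno
      rw [hA, mem_lsupp] at hi
      have : ((u : Fˣ) : F) * f ((g : Matrix ι ι F) *ᵥ bv hf hD b) (bv hf hD i) =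
          ((v : Fˣ) : F) * f ((g : Matrix ι ι F) *ᵥ bv hf hD b) (bv hf hD i) :=
        add_left_cancel (hno.1.trans hno.2.symm)
      by_cases h0 : f ((g : Matrix ι ι F) *ᵥ bv hf hD b) (bv hf hD i) = 0
      · rw [h0, mul_zero, add_zero] at hno
        exact hi hno.1
      · exact huv (Subtype.ext (Units.ext (mul_right_cancel₀ h0 this)))
    obtain ⟨u, hu, hu1⟩ := exists_circ_notMem (σ := σ) (s := {1}) (by rw [Finset.card_singleton]; omega)
    obtain ⟨v, hv, hv1⟩ := exists_circ_notMem (σ := σ) (s := {1, (u : F)}) (lt_of_le_of_lt Finset.card_le_two (by omega))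
    simp only [Finset.mem_insert, Finset.mem_singleton, not_or] at hu1 hv1
    let u1 : circ σ := ⟨1, (circ σ).one_mem⟩
    let uu : circ σ := ⟨u, hu⟩
    let vv : circ σ := ⟨v, hv⟩
    have hne1 : u1 ≠ uu := fun e => hu1 (by rw [← show ((u1 : Fˣ) : F) = (u : F) from congrArg (fun x : circ σ => ((x : Fˣ) : F)) e]; rfl)
    have hne2 : u1 ≠ vv := fun e => hv1.1 (by rw [← show ((u1 : Fˣ) : F) = (v : F) from congrArg (fun x : circ σ => ((x : Fˣ) : F)) e]; rfl)
    have hne3 : uu ≠ vv := fun e => hv1.2 (congrArg (fun x : circ σ => ((x : Fˣ) : F)) e).symm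
    have c1 := (Finset.card_le_card (hcov _ _ hne1)).trans (Finset.card_union_le _ _)
    have s1 : (S u1).card ≤ 2 := Nat.lt_succ_iff.1 (hcon a b (Ne.symm hb) _ u1.2)
    have s2 : (S uu).card ≤ 2 := Nat.lt_succ_iff.1 (hcon a b (Ne.symm hb) _ uu.2)
    have s3 : (S vv).card ≤ 2 := Nat.lt_succ_iff.1 (hcon a b (Ne.symm hb) _ vv.2)
    -- three covers of four points by pairs
    have e1 : A = S u1 ∪ S uu := Finset.eq_of_subset_of_card_le (hcov _ _ hne1)
      ((Finset.card_union_le _ _).trans (by omega))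
    have e2 : A = S u1 ∪ S vv := Finset.eq_of_subset_of_card_le (hcov _ _ hne2)
      ((Finset.card_union_le _ _).trans (by omega))
    have e3 : A = S uu ∪ S vv := Finset.eq_of_subset_of_card_le (hcov _ _ hne3)
      ((Finset.card_union_le _ _).trans (by omega))
    have d12 : Disjoint (S u1) (S uu) := Finset.card_union_eq_card_add_card.1 (by
      have := Finset.card_union_le (S u1) (S uu); rw [← e1] at *; omega)
    have d13 : Disjoint (S u1) (S vv) := Finset.card_union_eq_card_add_card.1 (by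
      have := Finset.card_union_le (S u1) (S vv); rw [← e2] at *; omega)
    obtain ⟨i, hi⟩ : (S uu).Nonempty := Finset.card_pos.1 (by
      have := Finset.card_union_le (S u1) (S uu); rw [← e1] at this; omega)
    have hivv : i ∈ S vv := by
      have : i ∈ A := e1 ▸ Finset.mem_union_right _ hi
      rw [e2] at this
      exact (Finset.mem_union.1 this).resolve_left (fun h => Finset.disjoint_left.1 d12 h hi)
    obtain ⟨j, hj⟩ : (S u1).Nonempty := Finset.card_pos.1 (by
      have := Finset.card_union_le (S u1) (S uu); rw [← e1] at this; omega)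
    have : j ∈ A := e1 ▸ Finset.mem_union_left _ hj
    rw [e3] at this
    rcases Finset.mem_union.1 this with h | h
    · exact Finset.disjoint_left.1 d12 hj h
    · exact Finset.disjoint_left.1 d13 hj h
  obtain ⟨i, -, hi⟩ := Finset.exists_mem_notMem_of_card_lt_card (s := A) (t := (Finset.univ : Finset (Fin t)))
    (by simp; omega)
  refine bv_ne_zero hf hD i (gl_mulVec_eq_zero (g := g⁻¹).1 (ext_line hf hD fun l => ?_))
  rw [herm_zero_left hf, ← mem_isoU.1 hg, gl_mulVec_inv]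
  refine herm_swap_zero hf ?_
  by_contra h
  have h' := (mem_lsupp hf hD).2 h
  rcases eq_or_ne l a with rfl | hl
  · exact hi (hA ▸ h')
  · exact hi (hall l hl h')

variable {M : Subgroup (GL ι F)} (hM : M ≤ isoU f) (hH : decompositionStabilizer D ⊓ (isoU f ⊓ specialLinear ι F) ≤ M)
include hM hH

omit hH in
theorem adjoint_col {g : GL ι F} (hg : g ∈ M) (x w : ι → F) :
    f ((g : Matrix ι ι F) *ᵥ x) w = f x (((g⁻¹ : GL ι F) : Matrix ι ι F) *ᵥ w) := by
  conv_rhs => rw [← mem_isoU.1 (hM hg), gl_mulVec_inv]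

/-- a short column of the inverse gives a line column -/
theorem lineCol_of_short (ht : 6 ≤ t) (h4 : 4 < Fintype.card F) {g : GL ι F} (hg : g ∈ M)
    (hgs : g ∉ decompositionStabilizer D) {p : Fin t} {S : Finset (Fin t)} (hS : S.card ≤ 4)
    (hz : ∀ i, i ∉ S → f (((g⁻¹ : GL ι F) : Matrix ι ι F) *ᵥ bv hf hD p) (bv hf hD i) = 0) :
    HasLineCol hf hD M := by
  classical
  obtain ⟨r, -, hr⟩ := Finset.exists_mem_notMem_of_card_lt_card (s := S) (t := (Finset.univ : Finset (Fin t)))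
    (by simp; omega)
  obtain ⟨s, -, hs⟩ := Finset.exists_mem_notMem_of_card_lt_card (s := insert r S)
    (t := (Finset.univ : Finset (Fin t))) (lt_of_le_of_lt (Finset.card_insert_le _ _) (by simp; omega))
  rw [Finset.mem_insert, not_or] at hs
  exact lineCol_of_two hf hD hM hH (by omega) h4 (M.inv_mem hg)
    (fun h' => hgs (inv_inv g ▸ (decompositionStabilizer D).inv_mem h')) (Ne.symm hs.1) (hz r hr) (hz s hs.2)

/-- odd characteristic: some non-stabilising element has a zero entry -/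
theorem exists_zero_entry (ht : 13 ≤ t) (h2 : (2 : F) ≠ 0) {g : GL ι F} (hg : g ∈ M)
    (hgs : g ∉ decompositionStabilizer D) :
    ∃ x ∈ M, x ∉ decompositionStabilizer D ∧ ∃ l p, f ((x : Matrix ι ι F) *ᵥ bv hf hD l) (bv hf hD p) = 0 := by
  classical
  by_contra hcon
  push Not at hcon
  have hnz := hcon g hg hgs
  obtain ⟨l, hl⟩ : ∃ l : Fin t, l = ⟨0, by omega⟩ := ⟨_, rfl⟩
  obtain ⟨p, hp⟩ : ∃ p : Fin t, p = ⟨1, by omega⟩ := ⟨_, rfl⟩
  obtain ⟨a, ha⟩ : ∃ a : Fin t → F, a = fun k =>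
      f (((g⁻¹ : GL ι F) : Matrix ι ι F) *ᵥ bv hf hD l) (bv hf hD k) *
        f ((g : Matrix ι ι F) *ᵥ bv hf hD k) (bv hf hD p) := ⟨_, rfl⟩
  have ha0 : ∀ k, a k ≠ 0 := fun k => by
    rw [ha]
    refine mul_ne_zero (fun h => ?_) (hnz k p)
    have h1 := herm_swap_zero hf h
    rw [← adjoint_col hf hD hM hg] at h1
    exact hnz k l h1
  -- conjugated diagonal elements with a zero entry stabilise
  have hconj : ∀ (e : Fin t → Fˣ), (∀ i, e i ∈ circ σ) → ∏ i, (e i : F) = 1 → ∑ i, a i * (e i : F) = 0 →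
      ∀ r ∈ isoU f, (∀ i, (r : Matrix ι ι F) *ᵥ bv hf hD i = (e i : F) • bv hf hD i) →
      g * r * g⁻¹ ∈ decompositionStabilizer D := by
    intro e he hprod hsum r _ hr
    obtain ⟨r', hr', hrk, hrd, hrb, -⟩ := exists_tor hf hD e he
    have hrr : r = r' := gl_ext_vec fun x => by
      rw [mulVec_line hf hD r, mulVec_line hf hD r']
      exact Finset.sum_congr rfl fun i _ => by rw [hr, hrb]
    subst hrr
    by_contra hns
    have hxM : g * r * g⁻¹ ∈ M :=
      M.mul_mem (M.mul_mem hg (mem_of_keeps hf hD hH hr' hrk (hrd.trans hprod))) (M.inv_mem hg)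
    refine hcon _ hxM hns l p ?_
    rw [gl_mul_mulVec, gl_mul_mulVec]
    have h1 := sum_line hf hD (((g⁻¹ : GL ι F) : Matrix ι ι F) *ᵥ bv hf hD l)
    rw [← h1, Matrix.mulVec_sum, Matrix.mulVec_sum]
    have key : ∀ s : Finset (Fin t), f (∑ i ∈ s, (g : Matrix ι ι F) *ᵥ ((r : Matrix ι ι F) *ᵥ
        (f (((g⁻¹ : GL ι F) : Matrix ι ι F) *ᵥ bv hf hD l) (bv hf hD i) • bv hf hD i))) (bv hf hD p) =
        ∑ i ∈ s, a i * (e i : F) := by
      intro s
      induction s using Finset.induction_on with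
      | empty => simp [herm_zero_left hf]
      | @insert j s hj ih =>
        rw [Finset.sum_insert hj, Finset.sum_insert hj, hf.add_left, ih, mulVec_smul, hr, smul_smul, mulVec_smul,
          hf.smul_left, ha]
        ring
    rw [key, hsum]
  obtain ⟨ξ, hξ, hξo⟩ := exists_circ_generator hf
  obtain ⟨q, hq, hFq, -, hcard⟩ := exists_sizes hf
  -- the parameter of the rotations
  have hξ9 : (ξ : F) ^ 9 ≠ 1 := by
    intro h
    have h1 : orderOf ξ ∣ 9 := orderOf_dvd_of_pow_eq_one (Units.ext (by simpa using h))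
    rw [hξo, hcard] at h1
    have hodd : Odd q := by
      have := FiniteField.odd_card_of_char_ne_two (F := F) (fun hc => h2 (by
        have := CharP.cast_eq_zero F (ringChar F)
        rw [hc] at this
        exact_mod_cast this))
      rw [← Nat.odd_iff, hFq, Nat.odd_pow_iff two_ne_zero] at this
      exact this
    have h9 := Nat.le_of_dvd (by omega) h1
    have hq8 : q ≤ 8 := by omega
    interval_cases q <;> revert h1 hodd <;> decide
  -- the two groups of indices
  have hpart : ∀ A B : Finset (Fin t), A.card = 4 → B.card = 5 → Disjoint A B →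
      ∃ r ∈ isoU f, g * r * g⁻¹ ∈ decompositionStabilizer D ∧ ∀ i, (r : Matrix ι ι F) *ᵥ bv hf hD i =
        (if i ∈ A then (ξ : F) ^ 5 else if i ∈ B then ((ξ⁻¹ : Fˣ) : F) ^ 4 else 1) • bv hf hD i := by
    intro A B hA hB hAB
    obtain ⟨R, hR⟩ : ∃ R, R = (A ∪ B)ᶜ := ⟨_, rfl⟩
    have hRc : 4 ≤ R.card := by
      rw [hR, Finset.card_compl, Fintype.card_fin, Finset.card_union_of_disjoint hAB]; omega
    obtain ⟨eA, heA, hsA⟩ := exists_zero_sum hf A (by omega) a (fun i _ => ha0 i)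
    obtain ⟨eB, heB, hsB⟩ := exists_zero_sum hf B (by omega) a (fun i _ => ha0 i)
    obtain ⟨eR, heR, hsR⟩ := exists_zero_sum hf R hRc a (fun i _ => ha0 i)
    obtain ⟨d, hd⟩ : ∃ d, d = (∏ i ∈ A, eA i) * (∏ i ∈ B, eB i) * ∏ i ∈ R, eR i := ⟨_, rfl⟩
    have hdc : d ∈ circ σ := hd ▸ (circ σ).mul_mem ((circ σ).mul_mem ((circ σ).prod_mem fun i _ => heA i)
      ((circ σ).prod_mem fun i _ => heB i)) ((circ σ).prod_mem fun i _ => heR i)
    -- rotations
    have hsol : ∀ u v : Fˣ, u ∈ circ σ → v ∈ circ σ → u ^ 4 * v ^ 5 * d = 1 →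
        ∃ r ∈ isoU f, g * r * g⁻¹ ∈ decompositionStabilizer D ∧ ∀ i, (r : Matrix ι ι F) *ᵥ bv hf hD i =
          ((if i ∈ A then u * eA i else if i ∈ B then v * eB i else eR i : Fˣ) : F) • bv hf hD i := by
      intro u v hu hv huv
      let e : Fin t → Fˣ := fun i => if i ∈ A then u * eA i else if i ∈ B then v * eB i else eR i
      have he : ∀ i, e i ∈ circ σ := fun i => by
        simp only [e]
        split_ifs
        · exact (circ σ).mul_mem hu (heA i)
        · exact (circ σ).mul_mem hv (heB i)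
        · exact heR i
      obtain ⟨r, hr, -, -, hrb, -⟩ := exists_tor hf hD e he
      have heA' : ∀ i ∈ A, e i = u * eA i := fun i hi => if_pos hi
      have heB' : ∀ i ∈ B, e i = v * eB i := fun i hi => by
        simp only [e]
        rw [if_neg (fun h => Finset.disjoint_left.1 hAB h hi), if_pos hi]
      have heR' : ∀ i ∈ R, e i = eR i := fun i hi => by
        rw [hR, Finset.mem_compl, Finset.mem_union, not_or] at hi
        simp only [e]
        rw [if_neg hi.1, if_neg hi.2]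
      refine ⟨r, hr, hconj e he ?_ ?_ r hr hrb, hrb⟩
      · rw [← Units.coe_prod, ← Finset.prod_mul_prod_compl (A ∪ B), Finset.prod_union hAB, ← hR,
          Finset.prod_congr rfl heA', Finset.prod_congr rfl heB', Finset.prod_congr rfl heR',
          Finset.prod_mul_distrib, Finset.prod_mul_distrib, Finset.prod_const, Finset.prod_const, hA, hB]
        rw [hd] at huv
        rw [← Units.val_one, ← huv]
        congr 1
        ac_rfl
      · rw [← Finset.sum_add_sum_compl (A ∪ B), Finset.sum_union hAB, ← hR,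
          Finset.sum_congr rfl (g := fun i => (u : F) * (a i * (eA i : F))) (fun i hi => by
            rw [heA' i hi, Units.val_mul]; ring),
          Finset.sum_congr rfl (s₁ := B) (g := fun i => (v : F) * (a i * (eB i : F))) (fun i hi => by
            rw [heB' i hi, Units.val_mul]; ring),
          Finset.sum_congr rfl (s₁ := R) (g := fun i => a i * (eR i : F)) (fun i hi => by rw [heR' i hi]),
          ← Finset.mul_sum, ← Finset.mul_sum, hsA, hsB, hsR, mul_zero, mul_zero, add_zero, add_zero]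
    obtain ⟨r₀, hr₀, hs₀, hb₀⟩ := hsol d d⁻¹ hdc ((circ σ).inv_mem hdc) (by group)
    obtain ⟨r₁, hr₁, hs₁, hb₁⟩ := hsol (ξ ^ 5 * d) (ξ⁻¹ ^ 4 * d⁻¹) ((circ σ).mul_mem ((circ σ).pow_mem hξ 5) hdc)
      ((circ σ).mul_mem ((circ σ).pow_mem ((circ σ).inv_mem hξ) 4) ((circ σ).inv_mem hdc))
      (by
        apply Units.ext
        simp only [Units.val_mul, Units.val_pow_eq_pow_val, Units.val_inv_eq_inv_val, Units.val_one]
        field_simp)
    refine ⟨r₁ * r₀⁻¹, (isoU f).mul_mem hr₁ ((isoU f).inv_mem hr₀), ?_, fun i => ?_⟩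
    · have := (decompositionStabilizer D).mul_mem hs₁ ((decompositionStabilizer D).inv_mem hs₀)
      rwa [show g * r₁ * g⁻¹ * (g * r₀ * g⁻¹)⁻¹ = g * (r₁ * r₀⁻¹) * g⁻¹ by group] at this
    · have h0 := congrArg (fun v => ((r₀⁻¹ : GL ι F) : Matrix ι ι F) *ᵥ v) (hb₀ i)
      simp only [gl_inv_mulVec, mulVec_smul] at h0
      rw [gl_mul_mulVec]
      conv_lhs => rw [← one_smul F (((r₀⁻¹ : GL ι F) : Matrix ι ι F) *ᵥ bv hf hD i)]
      have hne : ((if i ∈ A then d * eA i else if i ∈ B then d⁻¹ * eB i else eR i : Fˣ) : F) ≠ 0 := Units.ne_zero _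
      rw [← inv_mul_cancel₀ hne, mul_smul, ← h0, mulVec_smul, hb₁, smul_smul]
      congr 1
      split_ifs <;> simp only [Units.val_mul, Units.val_pow_eq_pow_val, Units.val_inv_eq_inv_val] <;> field_simp
  -- two rotations differing in two places
  obtain ⟨A', B', hA', hB', hAB'⟩ : ∃ A' B' : Finset (Fin t), A'.card = 3 ∧ B'.card = 4 ∧
      (∀ x ∈ A', (x : ℕ) < 3) ∧ (∀ x ∈ B', 3 ≤ (x : ℕ) ∧ (x : ℕ) < 7) := by
    refine ⟨(Finset.univ : Finset (Fin 3)).map (Fin.castLEEmb (by omega)),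
      (Finset.univ : Finset (Fin 4)).map ⟨fun x : Fin 4 => (⟨3 + x.val, by have := x.isLt; omega⟩ : Fin t), fun x y h => by simpa [Fin.ext_iff] using h⟩,
      by simp, by simp, ?_, ?_⟩
    · intro x hx
      obtain ⟨y, -, rfl⟩ := Finset.mem_map.1 hx
      simp
    · intro x hx
      obtain ⟨y, -, rfl⟩ := Finset.mem_map.1 hx
      show 3 ≤ 3 + y.val ∧ 3 + y.val < 7
      have := y.isLt
      omega
  obtain ⟨i, hi⟩ : ∃ i : Fin t, (i : ℕ) = 7 := ⟨⟨7, by omega⟩, rfl⟩
  obtain ⟨j, hj⟩ : ∃ j : Fin t, (j : ℕ) = 8 := ⟨⟨8, by omega⟩, rfl⟩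
  have hn : ∀ x : Fin t, (7 ≤ (x : ℕ)) → x ∉ A' ∧ x ∉ B' := fun x hx =>
    ⟨fun h => by have := hAB'.1 x h; omega, fun h => by have := hAB'.2 x h; omega⟩
  have hdisj : ∀ x y : Fin t, 7 ≤ (x : ℕ) → 7 ≤ (y : ℕ) → x ≠ y → Disjoint (insert x A') (insert y B') := by
    intro x y hx hy hxy
    rw [Finset.disjoint_left]
    intro z hz hz'
    rcases Finset.mem_insert.1 hz with rfl | hzA <;> rcases Finset.mem_insert.1 hz' with h | hzB
    · exact hxy h
    · exact (hn z hx).2 hzB
    · exact (hn y hy).1 (h ▸ hzA)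
    · have := hAB'.1 z hzA; have := hAB'.2 z hzB; omega
  have hij : i ≠ j := fun h => by have := congrArg Fin.val h; omega
  obtain ⟨r₁, hr₁, hs₁, hb₁⟩ := hpart (insert i A') (insert j B')
    (by rw [Finset.card_insert_of_notMem (hn i (by omega)).1, hA'])
    (by rw [Finset.card_insert_of_notMem (hn j (by omega)).2, hB']) (hdisj i j (by omega) (by omega) hij)
  obtain ⟨r₂, hr₂, hs₂, hb₂⟩ := hpart (insert j A') (insert i B')
    (by rw [Finset.card_insert_of_notMem (hn j (by omega)).1, hA'])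
    (by rw [Finset.card_insert_of_notMem (hn i (by omega)).2, hB']) (hdisj j i (by omega) (by omega) hij.symm)
  have hys := (decompositionStabilizer D).mul_mem hs₁ ((decompositionStabilizer D).inv_mem hs₂)
  obtain ⟨r, hr⟩ : ∃ r, r = r₁ * r₂⁻¹ := ⟨_, rfl⟩
  rw [show g * r₁ * g⁻¹ * (g * r₂ * g⁻¹)⁻¹ = g * r * g⁻¹ by rw [hr]; group] at hys
  have hξ0 : (ξ : F) ≠ 0 := ξ.ne_zero
  have hrb : ∀ x, (r : Matrix ι ι F) *ᵥ bv hf hD x =
      (if x = i then (ξ : F) ^ 9 else if x = j then ((ξ : F) ^ 9)⁻¹ else 1) • bv hf hD x := by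
    intro x
    have h2 := congrArg (fun v => ((r₂⁻¹ : GL ι F) : Matrix ι ι F) *ᵥ v) (hb₂ x)
    simp only [gl_inv_mulVec, mulVec_smul] at h2
    rw [hr, gl_mul_mulVec]
    have hne : (if x ∈ insert j A' then (ξ : F) ^ 5 else if x ∈ insert i B' then ((ξ⁻¹ : Fˣ) : F) ^ 4 else 1) ≠ 0 := by
      split_ifs <;> simp [hξ0]
    conv_lhs => rw [← one_smul F (((r₂⁻¹ : GL ι F) : Matrix ι ι F) *ᵥ bv hf hD x), ← inv_mul_cancel₀ hne,
      mul_smul, ← h2, mulVec_smul, hb₁, smul_smul]
    congr 1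
    simp only [Finset.mem_insert]
    by_cases hxi : x = i
    · subst hxi
      rw [if_neg (by simp [hij, (hn x (by omega)).1]), if_pos (Or.inl rfl), if_pos (Or.inl rfl), if_pos rfl,
        Units.val_inv_eq_inv_val, inv_pow, inv_inv, ← pow_add]
    by_cases hxj : x = j
    · subst hxj
      rw [if_pos (Or.inl rfl), if_neg (by simp [hxi, (hn x (by omega)).1]), if_pos (Or.inl rfl), if_neg hxi,
        if_pos rfl, Units.val_inv_eq_inv_val, inv_pow, ← mul_inv, ← pow_add]
    simp only [hxi, hxj, false_or, if_false]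
    split_ifs <;> field_simp
  -- the support of a column
  obtain ⟨U, hU⟩ : ∃ U, U = Submodule.span F
      ({(g : Matrix ι ι F) *ᵥ bv hf hD i, (g : Matrix ι ι F) *ᵥ bv hf hD j} : Set (ι → F)) := ⟨_, rfl⟩
  have hmemU : ∀ x, ((g * r * g⁻¹ : GL ι F) : Matrix ι ι F) *ᵥ x - x ∈ U := by
    intro x
    obtain ⟨y, hy⟩ : ∃ y, y = ((g⁻¹ : GL ι F) : Matrix ι ι F) *ᵥ x := ⟨_, rfl⟩
    rw [show x = (g : Matrix ι ι F) *ᵥ y by rw [hy, gl_mulVec_inv], gl_mul_mulVec, gl_inv_mulVec, gl_mul_mulVec,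
      ← mulVec_sub, mulVec_line hf hD r y]
    conv => arg 2; arg 2; arg 2; rw [← sum_line hf hD y]
    rw [← Finset.sum_sub_distrib, Matrix.mulVec_sum]
    refine U.sum_mem fun x _ => ?_
    rw [hrb, smul_smul, ← sub_smul, mulVec_smul]
    by_cases hxi : x = i
    · exact U.smul_mem _ (hU ▸ Submodule.subset_span (by simp [hxi]))
    by_cases hxj : x = j
    · exact U.smul_mem _ (hU ▸ Submodule.subset_span (by simp [hxj]))
    rw [if_neg hxi, if_neg hxj, mul_one, sub_self, zero_smul]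
    exact U.zero_mem
  have hdim : Module.finrank F U ≤ 2 := by
    rw [hU]
    refine (finrank_span_le_card _).trans ?_
    rw [Set.toFinset_insert, Set.toFinset_singleton]
    exact Finset.card_le_two
  obtain ⟨S, hS, hz⟩ := mono_support hf hD hys hmemU hdim
  obtain ⟨o, -, ho⟩ := Finset.exists_mem_notMem_of_card_lt_card (s := S) (t := (Finset.univ : Finset (Fin t)))
    (by simp; omega)
  have h := hz ((g : Matrix ι ι F) *ᵥ bv hf hD i) o ho
  rw [gl_mul_mulVec, gl_inv_mulVec, gl_mul_mulVec, hrb, if_pos rfl, mulVec_smul, herm_sub_left hf,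
    hf.smul_left] at h
  have h' : ((ξ : F) ^ 9 - 1) * f ((g : Matrix ι ι F) *ᵥ bv hf hD i) (bv hf hD o) = 0 := by linear_combination h
  exact hnz i o ((mul_eq_zero.1 h').resolve_left (sub_ne_zero.2 hξ9))

/-- a stabilising conjugate of a diagonal element moving two coordinates forces a zero entry -/
theorem false_of_two_entry (ht : 5 ≤ t) {g : GL ι F} (hg : g ∈ M)
    (hnz : ∀ l p, f ((g : Matrix ι ι F) *ᵥ bv hf hD l) (bv hf hD p) ≠ 0) {r : GL ι F} {c : Fin t → F}
    {i j : Fin t} (hrb : ∀ x, (r : Matrix ι ι F) *ᵥ bv hf hD x = c x • bv hf hD x)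
    (hc : ∀ x, x ≠ i → x ≠ j → c x = 1) (hci : c i ≠ 1) (hys : g * r * g⁻¹ ∈ decompositionStabilizer D) : False := by
  classical
  obtain ⟨U, hU⟩ : ∃ U, U = Submodule.span F
      ({(g : Matrix ι ι F) *ᵥ bv hf hD i, (g : Matrix ι ι F) *ᵥ bv hf hD j} : Set (ι → F)) := ⟨_, rfl⟩
  have hmemU : ∀ x, ((g * r * g⁻¹ : GL ι F) : Matrix ι ι F) *ᵥ x - x ∈ U := by
    intro x
    obtain ⟨y, hy⟩ : ∃ y, y = ((g⁻¹ : GL ι F) : Matrix ι ι F) *ᵥ x := ⟨_, rfl⟩
    rw [show x = (g : Matrix ι ι F) *ᵥ y by rw [hy, gl_mulVec_inv], gl_mul_mulVec, gl_inv_mulVec, gl_mul_mulVec,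
      ← mulVec_sub, mulVec_line hf hD r y]
    conv => arg 2; arg 2; arg 2; rw [← sum_line hf hD y]
    rw [← Finset.sum_sub_distrib, Matrix.mulVec_sum]
    refine U.sum_mem fun x _ => ?_
    rw [hrb, smul_smul, ← sub_smul, mulVec_smul]
    by_cases hxi : x = i
    · exact U.smul_mem _ (hU ▸ Submodule.subset_span (by simp [hxi]))
    by_cases hxj : x = j
    · exact U.smul_mem _ (hU ▸ Submodule.subset_span (by simp [hxj]))
    rw [hc x hxi hxj, mul_one, sub_self, zero_smul]
    exact U.zero_mem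
  have hdim : Module.finrank F U ≤ 2 := by
    rw [hU]
    refine (finrank_span_le_card _).trans ?_
    rw [Set.toFinset_insert, Set.toFinset_singleton]
    exact Finset.card_le_two
  obtain ⟨S, hS, hz⟩ := mono_support hf hD hys hmemU hdim
  obtain ⟨o, -, ho⟩ := Finset.exists_mem_notMem_of_card_lt_card (s := S) (t := (Finset.univ : Finset (Fin t)))
    (by simp; omega)
  have h := hz ((g : Matrix ι ι F) *ᵥ bv hf hD i) o ho
  rw [gl_mul_mulVec, gl_inv_mulVec, gl_mul_mulVec, hrb, mulVec_smul, herm_sub_left hf, hf.smul_left] at h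
  have h' : (c i - 1) * f ((g : Matrix ι ι F) *ᵥ bv hf hD i) (bv hf hD o) = 0 := by linear_combination h
  exact hnz i o ((mul_eq_zero.1 h').resolve_left (sub_ne_zero.2 hci))

/-- odd characteristic, ten or twelve lines: some non-stabilising element has a zero entry -/
theorem exists_zero_entry_mid (ht : t = 10 ∨ t = 12) (h2 : (2 : F) ≠ 0) {g : GL ι F} (hg : g ∈ M)
    (hgs : g ∉ decompositionStabilizer D) :
    ∃ x ∈ M, x ∉ decompositionStabilizer D ∧ ∃ l p, f ((x : Matrix ι ι F) *ᵥ bv hf hD l) (bv hf hD p) = 0 := by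
  classical
  by_contra hcon
  push Not at hcon
  have hnz := hcon g hg hgs
  obtain ⟨l, hl⟩ : ∃ l : Fin t, l = ⟨0, by omega⟩ := ⟨_, rfl⟩
  obtain ⟨p, hp⟩ : ∃ p : Fin t, p = ⟨1, by omega⟩ := ⟨_, rfl⟩
  obtain ⟨a, ha⟩ : ∃ a : Fin t → F, a = fun k =>
      f (((g⁻¹ : GL ι F) : Matrix ι ι F) *ᵥ bv hf hD l) (bv hf hD k) *
        f ((g : Matrix ι ι F) *ᵥ bv hf hD k) (bv hf hD p) := ⟨_, rfl⟩
  have ha0 : ∀ k, a k ≠ 0 := fun k => by
    rw [ha]
    refine mul_ne_zero (fun h => ?_) (hnz k p)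
    have h1 := herm_swap_zero hf h
    rw [← adjoint_col hf hD hM hg] at h1
    exact hnz k l h1
  -- conjugated diagonal elements with a zero entry stabilise
  have hconj : ∀ (e : Fin t → Fˣ), (∀ i, e i ∈ circ σ) → ∏ i, (e i : F) = 1 → ∑ i, a i * (e i : F) = 0 →
      ∀ r ∈ isoU f, (∀ i, (r : Matrix ι ι F) *ᵥ bv hf hD i = (e i : F) • bv hf hD i) →
      g * r * g⁻¹ ∈ decompositionStabilizer D := by
    intro e he hprod hsum r _ hr
    obtain ⟨r', hr', hrk, hrd, hrb, -⟩ := exists_tor hf hD e he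
    have hrr : r = r' := gl_ext_vec fun x => by
      rw [mulVec_line hf hD r, mulVec_line hf hD r']
      exact Finset.sum_congr rfl fun i _ => by rw [hr, hrb]
    subst hrr
    by_contra hns
    have hxM : g * r * g⁻¹ ∈ M :=
      M.mul_mem (M.mul_mem hg (mem_of_keeps hf hD hH hr' hrk (hrd.trans hprod))) (M.inv_mem hg)
    refine hcon _ hxM hns l p ?_
    rw [gl_mul_mulVec, gl_mul_mulVec]
    have h1 := sum_line hf hD (((g⁻¹ : GL ι F) : Matrix ι ι F) *ᵥ bv hf hD l)
    rw [← h1, Matrix.mulVec_sum, Matrix.mulVec_sum]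
    have key : ∀ s : Finset (Fin t), f (∑ i ∈ s, (g : Matrix ι ι F) *ᵥ ((r : Matrix ι ι F) *ᵥ
        (f (((g⁻¹ : GL ι F) : Matrix ι ι F) *ᵥ bv hf hD l) (bv hf hD i) • bv hf hD i))) (bv hf hD p) =
        ∑ i ∈ s, a i * (e i : F) := by
      intro s
      induction s using Finset.induction_on with
      | empty => simp [herm_zero_left hf]
      | @insert j s hj ih =>
        rw [Finset.sum_insert hj, Finset.sum_insert hj, hf.add_left, ih, mulVec_smul, hr, smul_smul, mulVec_smul,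
          hf.smul_left, ha]
        ring
    rw [key, hsum]
  -- quotients of two solutions
  have hquot : ∀ e e' : Fin t → Fˣ, (∀ i, e i ∈ circ σ) → (∀ i, e' i ∈ circ σ) → ∏ i, (e i : F) = 1 →
      ∏ i, (e' i : F) = 1 → ∑ i, a i * (e i : F) = 0 → ∑ i, a i * (e' i : F) = 0 →
      ∃ r, g * r * g⁻¹ ∈ decompositionStabilizer D ∧
        ∀ x, (r : Matrix ι ι F) *ᵥ bv hf hD x = ((e' x : F) * (e x : F)⁻¹) • bv hf hD x := by
    intro e e' he he' hp hp' hs hs'
    obtain ⟨r₀, hr₀, -, -, hb₀, -⟩ := exists_tor hf hD e he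
    obtain ⟨r₁, hr₁, -, -, hb₁, -⟩ := exists_tor hf hD e' he'
    refine ⟨r₁ * r₀⁻¹, ?_, fun x => ?_⟩
    · have := (decompositionStabilizer D).mul_mem (hconj e' he' hp' hs' r₁ hr₁ hb₁)
        ((decompositionStabilizer D).inv_mem (hconj e he hp hs r₀ hr₀ hb₀))
      rwa [show g * r₁ * g⁻¹ * (g * r₀ * g⁻¹)⁻¹ = g * (r₁ * r₀⁻¹) * g⁻¹ by group] at this
    · have h0 := congrArg (fun v => ((r₀⁻¹ : GL ι F) : Matrix ι ι F) *ᵥ v) (hb₀ x)
      simp only [gl_inv_mulVec, mulVec_smul] at h0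
      rw [gl_mul_mulVec]
      conv_lhs => rw [← one_smul F (((r₀⁻¹ : GL ι F) : Matrix ι ι F) *ᵥ bv hf hD x),
        ← inv_mul_cancel₀ (e x).ne_zero, mul_smul, ← h0, mulVec_smul, hb₁, smul_smul, mul_comm]
  -- zero sums on the two parts of a partition give rotations
  have hmk : ∀ (A : Finset (Fin t)) (eA eB : Fin t → Fˣ) (u v : Fˣ), (∀ i, eA i ∈ circ σ) → (∀ i, eB i ∈ circ σ) →
      u ∈ circ σ → v ∈ circ σ → ∑ i ∈ A, a i * (eA i : F) = 0 → ∑ i ∈ Aᶜ, a i * (eB i : F) = 0 →
      u ^ A.card * v ^ Aᶜ.card * ((∏ i ∈ A, eA i) * ∏ i ∈ Aᶜ, eB i) = 1 →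
      (∀ i, (if i ∈ A then u * eA i else v * eB i) ∈ circ σ) ∧
      ∏ i, ((if i ∈ A then u * eA i else v * eB i : Fˣ) : F) = 1 ∧
      ∑ i, a i * ((if i ∈ A then u * eA i else v * eB i : Fˣ) : F) = 0 := by
    intro A eA eB u v heA heB hu hv hsA hsB hp
    refine ⟨fun i => ?_, ?_, ?_⟩
    · split_ifs
      · exact (circ σ).mul_mem hu (heA i)
      · exact (circ σ).mul_mem hv (heB i)
    · rw [← Units.coe_prod, ← Finset.prod_mul_prod_compl A,
        Finset.prod_congr rfl (g := fun i => u * eA i) (fun i hi => if_pos hi),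
        Finset.prod_congr (s₁ := Aᶜ) rfl (g := fun i => v * eB i) (fun i hi => if_neg (Finset.mem_compl.1 hi)),
        Finset.prod_mul_distrib, Finset.prod_mul_distrib, Finset.prod_const, Finset.prod_const,
        ← Units.val_one, ← hp]
      congr 1
      ac_rfl
    · rw [← Finset.sum_add_sum_compl A,
        Finset.sum_congr rfl (g := fun i => (u : F) * (a i * (eA i : F))) (fun i hi => by
          rw [if_pos hi, Units.val_mul]; ring),
        Finset.sum_congr (s₁ := Aᶜ) rfl (g := fun i => (v : F) * (a i * (eB i : F))) (fun i hi => by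
          rw [if_neg (Finset.mem_compl.1 hi), Units.val_mul]; ring),
        ← Finset.mul_sum, ← Finset.mul_sum, hsA, hsB, mul_zero, mul_zero, add_zero]
  have hm1 : (-1 : Fˣ) ∈ circ σ := mem_circ.2 (by simp)
  -- sign changes on an even part
  have hsign : ∀ (A : Finset (Fin t)) (eA : Fin t → Fˣ), (A.card = 4 ∧ t = 10 ∨ A.card = 2 ∧ t = 12) →
      (∀ i, eA i ∈ circ σ) → ∑ i ∈ A, a i * (eA i : F) = 0 →
      ∃ r, g * r * g⁻¹ ∈ decompositionStabilizer D ∧
        ∀ x, (r : Matrix ι ι F) *ᵥ bv hf hD x = (if x ∈ A then (-1 : F) else 1) • bv hf hD x := by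
    intro A eA hA heA hsA
    have hAc : Aᶜ.card = 6 ∧ A.card = 4 ∨ Aᶜ.card = 10 ∧ A.card = 2 := by
      rw [Finset.card_compl, Fintype.card_fin]; omega
    obtain ⟨eB, heB, hsB, w, hw, hwB⟩ := exists_zero_sum_sq hf Aᶜ (by omega) a (fun i _ => ha0 i)
      (d := ∏ i ∈ A, eA i) ((circ σ).prod_mem fun i _ => heA i)
    obtain ⟨u, v, hu, hv, huv⟩ : ∃ u v : Fˣ, u ∈ circ σ ∧ v ∈ circ σ ∧
        u ^ A.card * v ^ Aᶜ.card * w ^ 2 = 1 := by
      rcases hAc with ⟨h1, h2'⟩ | ⟨h1, h2'⟩ <;> rw [h1, h2']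
      · exact ⟨w, w⁻¹, hw, (circ σ).inv_mem hw, by group⟩
      · exact ⟨w⁻¹, 1, (circ σ).inv_mem hw, (circ σ).one_mem, by group⟩
    rw [← hwB, mul_comm (∏ i ∈ Aᶜ, eB i)] at huv
    obtain ⟨hc₀, hp₀, hs₀⟩ := hmk A eA eB u v heA heB hu hv hsA hsB huv
    obtain ⟨hc₁, hp₁, hs₁⟩ := hmk A eA eB ((-1) * u) v heA heB ((circ σ).mul_mem hm1 hu) hv hsA hsB (by
      rw [mul_pow, Even.neg_one_pow (by rcases hAc with ⟨-, h⟩ | ⟨-, h⟩ <;> rw [h] <;> decide), one_mul]
      exact huv)
    obtain ⟨r, hr, hrb⟩ := hquot _ _ hc₀ hc₁ hp₀ hp₁ hs₀ hs₁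
    refine ⟨r, hr, fun x => ?_⟩
    rw [hrb]
    congr 1
    by_cases hx : x ∈ A
    · simp only [if_pos hx, Units.val_mul, Units.val_neg, Units.val_one]
      field_simp [u.ne_zero, (eA x).ne_zero]
    · simp only [if_neg hx, Units.val_mul]
      field_simp [v.ne_zero, (eB x).ne_zero]
  have h2' : (-1 : F) ≠ 1 := fun e => h2 (by linear_combination -e)
  rcases ht with ht10 | ht12
  · -- two four element parts sharing three indices
    obtain ⟨A', -, hA'⟩ := Finset.exists_subset_card_eq (s := (Finset.univ : Finset (Fin t))) (n := 3) (by simp; omega)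
    obtain ⟨i, -, hi⟩ := Finset.exists_mem_notMem_of_card_lt_card (s := A') (t := (Finset.univ : Finset (Fin t)))
      (by simp; omega)
    obtain ⟨j, -, hj⟩ := Finset.exists_mem_notMem_of_card_lt_card (s := insert i A')
      (t := (Finset.univ : Finset (Fin t))) (by rw [Finset.card_insert_of_notMem hi]; simp; omega)
    rw [Finset.mem_insert, not_or] at hj
    have h1 : (insert i A').card = 4 := by rw [Finset.card_insert_of_notMem hi, hA']
    have h1' : (insert j A').card = 4 := by rw [Finset.card_insert_of_notMem hj.2, hA']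
    obtain ⟨e₁, he₁, hs₁⟩ := exists_zero_sum hf (insert i A') (by omega) a (fun x _ => ha0 x)
    obtain ⟨e₂, he₂, hs₂⟩ := exists_zero_sum hf (insert j A') (by omega) a (fun x _ => ha0 x)
    obtain ⟨r₁, hr₁, hb₁⟩ := hsign _ e₁ (Or.inl ⟨h1, ht10⟩) he₁ hs₁
    obtain ⟨r₂, hr₂, hb₂⟩ := hsign _ e₂ (Or.inl ⟨h1', ht10⟩) he₂ hs₂
    refine false_of_two_entry hf hD hM hH (by omega) hg hnz (r := r₁ * r₂)
      (c := fun x => (if x ∈ insert j A' then (-1 : F) else 1) * (if x ∈ insert i A' then (-1 : F) else 1))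
      (i := i) (j := j) (fun x => by rw [gl_mul_mulVec, hb₂, mulVec_smul, hb₁, smul_smul]) (fun x hxi hxj => ?_) ?_ ?_
    · by_cases hxA : x ∈ A' <;> simp [hxi, hxj, hxA]
    · simp [Ne.symm hj.1, hi, h2']
    · have := (decompositionStabilizer D).mul_mem hr₁ hr₂
      rwa [show g * r₁ * g⁻¹ * (g * r₂ * g⁻¹) = g * (r₁ * r₂) * g⁻¹ by group] at this
  by_cases hN : ∃ i j, i ≠ j ∧ a i * σ (a i) = a j * σ (a j)
  · -- a vanishing pair
    obtain ⟨i, j, hij, hNij⟩ := hN
    obtain ⟨w, hw, hwv⟩ := exists_circ (σ := σ) (x := -(a i / a j)) (by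
      rw [map_neg, map_div₀, neg_mul_neg, div_mul_div_comm, hNij,
        div_self (mul_ne_zero (ha0 j) (by simpa using ha0 j))])
    obtain ⟨r, hr, hb⟩ := hsign {i, j} (fun x => if x = j then w else 1) (Or.inr ⟨Finset.card_pair hij, ht12⟩)
      (fun x => by split_ifs; exact hw; exact (circ σ).one_mem) (by
        rw [Finset.sum_pair hij, if_neg hij, if_pos rfl, hwv, Units.val_one]
        field_simp [ha0 j]
        ring)
    exact false_of_two_entry hf hD hM hH (by omega) hg hnz (i := i) (j := j) hb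
      (fun x hxi hxj => by simp [hxi, hxj]) (by simp [h2']) hr
  -- all norms differ, so the circle is large
  obtain ⟨ξ, hξ, hξo⟩ := exists_circ_generator hf
  obtain ⟨q, hq, -, hfix, hcard⟩ := exists_sizes hf
  have hqt : t + 1 ≤ q := by
    push Not at hN
    rw [← hfix, Nat.card_eq_fintype_card]
    let φ : Fin t → {x : F // σ x = x} := fun i => ⟨a i * σ (a i), by rw [map_mul, hf.involutive, mul_comm]⟩
    have h1 := Fintype.card_lt_of_injective_of_notMem φ (fun i j h => by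
      by_contra hne
      exact hN i j hne (congrArg Subtype.val h)) (b := ⟨0, map_zero σ⟩) (by
        rintro ⟨i, hi⟩
        exact mul_ne_zero (ha0 i) (by simpa using ha0 i) (congrArg Subtype.val hi))
    rw [Fintype.card_fin] at h1
    omega
  have hξ12 : (ξ : F) ^ 12 ≠ 1 := fun h => by
    have h1 := Nat.le_of_dvd (by omega) (orderOf_dvd_of_pow_eq_one (x := ξ) (n := 12) (Units.ext (by simpa using h)))
    omega
  obtain ⟨A', -, hA'⟩ := Finset.exists_subset_card_eq (s := (Finset.univ : Finset (Fin t))) (n := 4) (by simp; omega)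
  obtain ⟨i, -, hi⟩ := Finset.exists_mem_notMem_of_card_lt_card (s := A') (t := (Finset.univ : Finset (Fin t)))
    (by simp; omega)
  obtain ⟨j, -, hj⟩ := Finset.exists_mem_notMem_of_card_lt_card (s := insert i A')
    (t := (Finset.univ : Finset (Fin t))) (by rw [Finset.card_insert_of_notMem hi]; simp; omega)
  rw [Finset.mem_insert, not_or] at hj
  have hrot : ∀ A : Finset (Fin t), A.card = 5 → ∃ r, g * r * g⁻¹ ∈ decompositionStabilizer D ∧
      ∀ x, (r : Matrix ι ι F) *ᵥ bv hf hD x = (if x ∈ A then (ξ : F) ^ 7 else ((ξ : F) ^ 5)⁻¹) • bv hf hD x := by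
    intro A hA
    have hAc : Aᶜ.card = 7 := by rw [Finset.card_compl, Fintype.card_fin]; omega
    obtain ⟨eA, heA, hsA⟩ := exists_zero_sum hf A (by omega) a (fun x _ => ha0 x)
    obtain ⟨eB, heB, hsB⟩ := exists_zero_sum hf Aᶜ (by omega) a (fun x _ => ha0 x)
    obtain ⟨d, hd⟩ : ∃ d, d = (∏ x ∈ A, eA x) * ∏ x ∈ Aᶜ, eB x := ⟨_, rfl⟩
    have hdc : d ∈ circ σ :=
      hd ▸ (circ σ).mul_mem ((circ σ).prod_mem fun x _ => heA x) ((circ σ).prod_mem fun x _ => heB x)
    have hu : d⁻¹ ^ 3 ∈ circ σ := (circ σ).pow_mem ((circ σ).inv_mem hdc) 3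
    have hv : d ^ 2 ∈ circ σ := (circ σ).pow_mem hdc 2
    obtain ⟨hc₀, hp₀, hs₀⟩ := hmk A eA eB (d⁻¹ ^ 3) (d ^ 2) heA heB hu hv hsA hsB (by
      rw [hA, hAc, ← hd]; group)
    obtain ⟨hc₁, hp₁, hs₁⟩ := hmk A eA eB (ξ ^ 7 * d⁻¹ ^ 3) (ξ⁻¹ ^ 5 * d ^ 2) heA heB
      ((circ σ).mul_mem ((circ σ).pow_mem hξ 7) hu)
      ((circ σ).mul_mem ((circ σ).pow_mem ((circ σ).inv_mem hξ) 5) hv) hsA hsB (by
      rw [hA, hAc, ← hd]
      apply Units.ext
      simp only [Units.val_mul, Units.val_pow_eq_pow_val, Units.val_inv_eq_inv_val, Units.val_one]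
      field_simp [ξ.ne_zero, d.ne_zero])
    obtain ⟨r, hr, hrb⟩ := hquot _ _ hc₀ hc₁ hp₀ hp₁ hs₀ hs₁
    refine ⟨r, hr, fun x => ?_⟩
    rw [hrb]
    congr 1
    by_cases hx : x ∈ A
    · simp only [if_pos hx, Units.val_mul, Units.val_pow_eq_pow_val, Units.val_inv_eq_inv_val]
      field_simp [d.ne_zero, (eA x).ne_zero]
    · simp only [if_neg hx, Units.val_mul, Units.val_pow_eq_pow_val, Units.val_inv_eq_inv_val, inv_pow]
      field_simp [d.ne_zero, ξ.ne_zero, (eB x).ne_zero]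
  obtain ⟨r₁, hr₁, hb₁⟩ := hrot (insert i A') (by rw [Finset.card_insert_of_notMem hi, hA'])
  obtain ⟨r₂, hr₂, hb₂⟩ := hrot (insert j A') (by rw [Finset.card_insert_of_notMem hj.2, hA'])
  refine false_of_two_entry hf hD hM hH (by omega) hg hnz (r := r₁ * r₂⁻¹)
    (c := fun x => (if x ∈ insert j A' then (ξ : F) ^ 7 else ((ξ : F) ^ 5)⁻¹)⁻¹ *
      (if x ∈ insert i A' then (ξ : F) ^ 7 else ((ξ : F) ^ 5)⁻¹))
    (i := i) (j := j) (fun x => ?_) (fun x hxi hxj => ?_) ?_ ?_
  · have hne : (if x ∈ insert j A' then (ξ : F) ^ 7 else ((ξ : F) ^ 5)⁻¹) ≠ 0 := by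
      split_ifs <;> simp [ξ.ne_zero]
    have h0 := congrArg (fun v => ((r₂⁻¹ : GL ι F) : Matrix ι ι F) *ᵥ v) (hb₂ x)
    simp only [gl_inv_mulVec, mulVec_smul] at h0
    rw [gl_mul_mulVec]
    conv_lhs => rw [← one_smul F (((r₂⁻¹ : GL ι F) : Matrix ι ι F) *ᵥ bv hf hD x), ← inv_mul_cancel₀ hne,
      mul_smul, ← h0, mulVec_smul, hb₁, smul_smul]
  · by_cases hxA : x ∈ A' <;> simp [hxi, hxj, hxA, ξ.ne_zero]
  · simp only [Finset.mem_insert, true_or, if_true]
    rw [if_neg (by simp [hi, Ne.symm hj.1]), inv_inv, ← pow_add]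
    exact hξ12
  · have := (decompositionStabilizer D).mul_mem hr₁ ((decompositionStabilizer D).inv_mem hr₂)
    rwa [show g * r₁ * g⁻¹ * (g * r₂ * g⁻¹)⁻¹ = g * (r₁ * r₂⁻¹) * g⁻¹ by group] at this

/-- a zero entry gives a line column when some scalar has determinant different from one -/
theorem lineCol_of_zero_scalar (ht : 6 ≤ t) (h4 : 4 < Fintype.card F) {g : GL ι F} (hg : g ∈ M)
    (hgs : g ∉ decompositionStabilizer D) {l p : Fin t}
    (hp : f ((g : Matrix ι ι F) *ᵥ bv hf hD l) (bv hf hD p) = 0) {u : Fˣ} (hu : u ∈ circ σ)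
    (hut : (u : F) ^ t ≠ 1) : HasLineCol hf hD M := by
  classical
  obtain ⟨z, hz⟩ : ∃ z, z = (g : Matrix ι ι F) *ᵥ bv hf hD l := ⟨_, rfl⟩
  rw [← hz] at hp
  have hgi : g⁻¹ ∈ isoU f := (isoU f).inv_mem (hM hg)
  -- any element of the stabiliser fixing the column line
  have step : ∀ w ∈ M, ∀ r : F, (w : Matrix ι ι F) *ᵥ z = r • z → g⁻¹ * w * g ∉ decompositionStabilizer D →
      HasLineCol hf hD M := fun w hw r hwz hns =>
    ⟨_, M.mul_mem (M.mul_mem (M.inv_mem hg) hw) hg, hns, l, l, by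
      rw [gl_mul_mulVec, ← hz, gl_mul_mulVec, hwz, mulVec_smul, hz, gl_inv_mulVec]
      exact (D l).smul_mem r (bv_mem hf hD l)⟩
  obtain ⟨c, hc⟩ : ∃ c, c = ((g⁻¹ : GL ι F) : Matrix ι ι F) *ᵥ bv hf hD p := ⟨_, rfl⟩
  have hcc : f c c = 1 := by rw [hc, mem_isoU.1 hgi, bv_norm hf hD]
  have hfc : ∀ x, f ((g : Matrix ι ι F) *ᵥ x) (bv hf hD p) = f x c := fun x => by
    rw [hc, adjoint_col hf hD hM hg]
  obtain ⟨v, hv⟩ : ∃ v, v = (u ^ t)⁻¹ := ⟨_, rfl⟩
  have hvc : v ∈ circ σ := hv ▸ (circ σ).inv_mem ((circ σ).pow_mem hu t)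
  have hv1 : (v : F) ≠ 1 := fun h => hut (by
    have : v = 1 := Units.ext (by simpa using h)
    rw [hv, inv_eq_one] at this
    simpa using congrArg Units.val this)
  let e : Fin t → Fˣ := Function.update (fun _ => u) p (u * v)
  have he : ∀ i, e i ∈ circ σ := fun i => by
    simp only [e, Function.update_apply]
    split_ifs
    · exact (circ σ).mul_mem hu hvc
    · exact hu
  obtain ⟨w, hw, hwk, hwd, hwb, hwc⟩ := exists_tor hf hD e he
  have hwM : w ∈ M := mem_of_keeps hf hD hH hw hwk (by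
    rw [hwd, ← Units.coe_prod, Finset.prod_update_of_mem (Finset.mem_univ p), Finset.prod_const,
      Finset.card_sdiff, Finset.inter_univ, Finset.card_singleton, Finset.card_univ, Fintype.card_fin, hv,
      show u * (u ^ t)⁻¹ * u ^ (t - 1) = (u ^ t)⁻¹ * (u ^ (t - 1) * u) by ac_rfl, ← pow_succ,
      Nat.sub_add_cancel (by omega), inv_mul_cancel, Units.val_one])
  have hwx : ∀ x, (w : Matrix ι ι F) *ᵥ x = (u : F) • (x + (((v : F) - 1) * f x (bv hf hD p)) • bv hf hD p) :=
    fun x => ext_line hf hD fun i => by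
      rw [hwc, hf.smul_left, hf.add_left, hf.smul_left]
      rcases eq_or_ne i p with rfl | hi
      · simp only [e, Function.update_self, bv_norm hf hD, Units.val_mul]; ring
      · simp only [e, Function.update_of_ne hi, bv_orth hf hD hi.symm]; ring
  by_cases hns : g⁻¹ * w * g ∈ decompositionStabilizer D
  swap
  · exact step w hwM (u : F) (by rw [hwx, hp, mul_zero, zero_smul, add_zero]) hns
  obtain ⟨s, hs, hsk, -, -, hsc⟩ := exists_tor hf hD (fun _ => u⁻¹) (fun _ => (circ σ).inv_mem hu)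
  obtain ⟨y, hy⟩ : ∃ y, y = s * (g⁻¹ * w * g) := ⟨_, rfl⟩
  have hyx : ∀ x, (y : Matrix ι ι F) *ᵥ x = x + (((v : F) - 1) * f x c) • c := fun x => by
    have hsx : ∀ x, (s : Matrix ι ι F) *ᵥ x = ((u⁻¹ : Fˣ) : F) • x := fun x =>
      ext_line hf hD fun i => by rw [hsc, hf.smul_left]
    rw [hy, gl_mul_mulVec, gl_mul_mulVec, gl_mul_mulVec, hwx]
    simp only [mulVec_smul, mulVec_add, gl_inv_mulVec, hfc, ← hc]
    rw [hsx, hsx]
    simp only [smul_smul]
    match_scalars <;> field_simp [u.ne_zero] <;> simp [Units.val_inv_eq_inv_val]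
  obtain ⟨S, hS, hSz⟩ := mono_support hf hD (hy ▸ (decompositionStabilizer D).mul_mem (hsk.stab hD) hns)
    (U := Submodule.span F {c}) (fun x => by
      rw [hyx, add_sub_cancel_left]; exact Submodule.smul_mem _ _ (Submodule.mem_span_singleton_self c))
    (by rw [finrank_span_singleton (fun h => by rw [h, herm_zero_left hf] at hcc; exact zero_ne_one hcc)]; omega)
  refine lineCol_of_short hf hD hM hH (by omega) h4 hg hgs hS (p := p) fun i hi => ?_
  have h := hSz c i hi
  rw [hyx, add_sub_cancel_left, hcc, mul_one, hf.smul_left] at h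
  exact hc ▸ (mul_eq_zero.1 h).resolve_left (sub_ne_zero.2 hv1)

/-- odd characteristic: a zero entry gives a line column -/
theorem lineCol_of_zero (ht : 6 ≤ t) (h2 : (2 : F) ≠ 0) (h4 : 4 < Fintype.card F) {g : GL ι F} (hg : g ∈ M)
    (hgs : g ∉ decompositionStabilizer D) {l p : Fin t}
    (hp : f ((g : Matrix ι ι F) *ᵥ bv hf hD l) (bv hf hD p) = 0) : HasLineCol hf hD M := by
  classical
  obtain ⟨z, hz⟩ : ∃ z, z = (g : Matrix ι ι F) *ᵥ bv hf hD l := ⟨_, rfl⟩
  rw [← hz] at hp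
  have hgi : g⁻¹ ∈ isoU f := (isoU f).inv_mem (hM hg)
  -- any element of the stabiliser fixing the column line
  have step : ∀ w ∈ M, ∀ r : F, (w : Matrix ι ι F) *ᵥ z = r • z → g⁻¹ * w * g ∉ decompositionStabilizer D →
      HasLineCol hf hD M := fun w hw r hwz hns =>
    ⟨_, M.mul_mem (M.mul_mem (M.inv_mem hg) hw) hg, hns, l, l, by
      rw [gl_mul_mulVec, ← hz, gl_mul_mulVec, hwz, mulVec_smul, hz, gl_inv_mulVec]
      exact (D l).smul_mem r (bv_mem hf hD l)⟩
  obtain ⟨c, hc⟩ : ∃ c, c = ((g⁻¹ : GL ι F) : Matrix ι ι F) *ᵥ bv hf hD p := ⟨_, rfl⟩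
  have hcc : f c c = 1 := by rw [hc, mem_isoU.1 hgi, bv_norm hf hD]
  have hfc : ∀ x, f ((g : Matrix ι ι F) *ᵥ x) (bv hf hD p) = f x c := fun x => by
    rw [hc, adjoint_col hf hD hM hg]
  by_cases hlam : ∀ u ∈ circ σ, (u : F) ^ t = 1
  swap
  · push Not at hlam
    obtain ⟨u, hu, hut⟩ := hlam
    exact lineCol_of_zero_scalar hf hD hM hH ht h4 hg hgs (hz ▸ hp) hu hut
  -- all scalars have determinant one, so the circle is small
  obtain ⟨q, hq, -, hfix, hcirc⟩ := exists_sizes hf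
  have hqt : q + 1 ≤ t := by
    obtain ⟨u, hu, huo⟩ := exists_circ_generator hf
    rw [← hcirc, ← huo]
    exact Nat.le_of_dvd (by omega) (orderOf_dvd_of_pow_eq_one (Units.ext (by simpa using hlam u hu)))
  by_cases hzz : ∃ i, i ≠ p ∧ f z (bv hf hD i) = 0
  · obtain ⟨i, hi, hi0⟩ := hzz
    exact lineCol_of_two hf hD hM hH (by omega) h4 hg hgs (Ne.symm hi) (hz ▸ hp) (hz ▸ hi0)
  push Not at hzz
  -- two entries of the same norm
  obtain ⟨i, hip, j, hjp, hij, hN⟩ : ∃ i, i ≠ p ∧ ∃ j, j ≠ p ∧ i ≠ j ∧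
      f z (bv hf hD i) * σ (f z (bv hf hD i)) = f z (bv hf hD j) * σ (f z (bv hf hD j)) := by
    let φ : {i : Fin t // i ≠ p} → {x : {x : F // σ x = x} // (x : F) ≠ 0} := fun i =>
      ⟨⟨f z (bv hf hD i) * σ (f z (bv hf hD i)), by rw [map_mul, hf.involutive, mul_comm]⟩,
        mul_ne_zero (hzz i i.2) (by simpa using hzz i i.2)⟩
    have hlt : Fintype.card {x : {x : F // σ x = x} // (x : F) ≠ 0} < Fintype.card {i : Fin t // i ≠ p} := by
      have h1 : Fintype.card {x : {x : F // σ x = x} // (x : F) ≠ 0} + 1 ≤ q := by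
        rw [← hfix, Nat.card_eq_fintype_card]
        exact Fintype.card_lt_of_injective_of_notMem _ Subtype.val_injective (b := ⟨0, map_zero σ⟩)
          (by rintro ⟨⟨x, hx⟩, h⟩; exact hx (congrArg Subtype.val h))
      have h2' : Fintype.card {i : Fin t // i ≠ p} = t - 1 := by
        rw [Fintype.card_subtype_compl, Fintype.card_fin, Fintype.card_subtype_eq]
      omega
    obtain ⟨i, j, hij, h⟩ := Fintype.exists_ne_map_eq_of_card_lt φ hlt
    exact ⟨i, i.2, j, j.2, fun e => hij (Subtype.ext e),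
      congrArg (fun x : {x : {x : F // σ x = x} // (x : F) ≠ 0} => (x.1 : F)) h⟩
  obtain ⟨ρ, hρ⟩ : ∃ ρ, ρ = f z (bv hf hD j) / f z (bv hf hD i) := ⟨_, rfl⟩
  have hzi := hzz i hip
  have hσzi : σ (f z (bv hf hD i)) ≠ 0 := by simpa using hzi
  have hNρ : ρ * σ ρ = 1 := by
    rw [hρ, map_div₀, div_mul_div_comm, ← hN, div_self (mul_ne_zero hzi hσzi)]
  obtain ⟨d, hd⟩ : ∃ d, d = bv hf hD i - ρ • bv hf hD j := ⟨_, rfl⟩
  have hdd : f d d = 2 := by
    rw [hd, herm_sub_left hf, herm_sub_right hf, herm_sub_right hf, hf.smul_left, hf.smul_left, herm_smul_right hf,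
      herm_smul_right hf, bv_norm hf hD, bv_norm hf hD, bv_orth hf hD hij, bv_orth hf hD hij.symm]
    linear_combination hNρ
  have hzd : f z d = 0 := by
    rw [hd, herm_sub_right hf, herm_smul_right hf, hρ, map_div₀]
    field_simp
    linear_combination hN
  obtain ⟨R₁, hR₁, hR₁d, hR₁x⟩ := exists_qref hf (d := bv hf hD p) (by rw [bv_norm hf hD]; exact one_ne_zero)
    (ζ := (-1 : F)) (by simp)
  obtain ⟨R₂, hR₂, hR₂d, hR₂x⟩ := exists_qref hf (d := d) (by rw [hdd]; exact h2) (ζ := (-1 : F)) (by simp)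
  have hpd : f (bv hf hD p) d = 0 := by
    rw [hd, herm_sub_right hf, herm_smul_right hf, bv_orth hf hD hip.symm, bv_orth hf hD hjp.symm, mul_zero, sub_zero]
  obtain ⟨w, hw⟩ : ∃ w, w = R₁ * R₂ := ⟨_, rfl⟩
  have hwx : ∀ x, (w : Matrix ι ι F) *ᵥ x = x + (-2 * f x (bv hf hD p)) • bv hf hD p + (-f x d) • d := fun x => by
    rw [hw, gl_mul_mulVec, hR₂x, hdd, show ((-1 : F) - 1) / 2 * f x d = -f x d by field_simp; ring, hR₁x,
      bv_norm hf hD, hf.add_left, hf.smul_left, herm_swap_zero hf hpd]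
    rw [add_assoc, add_comm ((-f x d) • d)]
    ring_nf
  have hstab : w ∈ decompositionStabilizer D := stab_of_cols hf hD fun m => by
    by_cases hmp : m = p
    · subst hmp
      refine ⟨m, ?_⟩
      rw [hwx, hpd, neg_zero, zero_smul, add_zero]
      exact (D m).add_mem (bv_mem hf hD m) ((D m).smul_mem _ (bv_mem hf hD m))
    by_cases hmi : m = i
    · subst hmi
      refine ⟨j, ?_⟩
      rw [hwx, bv_orth hf hD hmp, mul_zero, zero_smul, add_zero, hd, herm_sub_right hf, herm_smul_right hf,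
        bv_norm hf hD, bv_orth hf hD hij, mul_zero, sub_zero,
        show bv hf hD m + (-1 : F) • (bv hf hD m - ρ • bv hf hD j) = ρ • bv hf hD j by module]
      exact (D j).smul_mem _ (bv_mem hf hD j)
    by_cases hmj : m = j
    · subst hmj
      refine ⟨i, ?_⟩
      rw [hwx, bv_orth hf hD hmp, mul_zero, zero_smul, add_zero, hd, herm_sub_right hf, herm_smul_right hf,
        bv_norm hf hD, bv_orth hf hD hmi, mul_one, zero_sub, neg_neg,
        show bv hf hD m + σ ρ • (bv hf hD i - ρ • bv hf hD m) = σ ρ • bv hf hD i + (1 - ρ * σ ρ) • bv hf hD m by module,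
        hNρ, sub_self, zero_smul, add_zero]
      exact (D i).smul_mem _ (bv_mem hf hD i)
    refine ⟨m, ?_⟩
    rw [hwx, bv_orth hf hD hmp, mul_zero, zero_smul, add_zero, hd, herm_sub_right hf, herm_smul_right hf,
      bv_orth hf hD hmi, bv_orth hf hD hmj, mul_zero, sub_zero, neg_zero, zero_smul, add_zero]
    exact bv_mem hf hD m
  have hwM : w ∈ M := hH ⟨hstab, hw ▸ (isoU f).mul_mem hR₁ hR₂, Units.ext (by
    show (w : Matrix ι ι F).det = 1
    rw [hw, Units.val_mul, det_mul, hR₁d, hR₂d]; ring)⟩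
  by_cases hns : g⁻¹ * w * g ∈ decompositionStabilizer D
  swap
  · exact step w hwM 1 (by rw [hwx, hp, hzd, mul_zero, neg_zero, zero_smul, zero_smul, add_zero, add_zero, one_smul]) hns
  obtain ⟨d', hd'⟩ : ∃ d', d' = ((g⁻¹ : GL ι F) : Matrix ι ι F) *ᵥ d := ⟨_, rfl⟩
  have hyx : ∀ x, ((g⁻¹ * w * g : GL ι F) : Matrix ι ι F) *ᵥ x = x + (-2 * f x c) • c + (-f x d') • d' := fun x => by
    rw [gl_mul_mulVec, gl_mul_mulVec, hwx, mulVec_add, mulVec_add, mulVec_smul, mulVec_smul, gl_inv_mulVec, ← hc,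
      ← hd', hfc, hd', adjoint_col hf hD hM hg]
  obtain ⟨S, hS, hSz⟩ := mono_support hf hD hns (U := Submodule.span F {c, d'}) (fun x => by
      rw [hyx, Submodule.mem_span_pair]
      exact ⟨_, _, by abel⟩) (by
      refine (finrank_span_le_card _).trans ?_
      rw [Set.toFinset_insert, Set.toFinset_singleton]
      exact Finset.card_le_two)
  refine lineCol_of_short hf hD hM hH (by omega) h4 hg hgs hS (p := p) fun m hm => ?_
  have hcd' : f c d' = 0 := by rw [hc, hd', mem_isoU.1 hgi]; exact hpd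
  have h := hSz c m hm
  rw [hyx, hcd', neg_zero, zero_smul, add_zero, add_sub_cancel_left, hcc, mul_one, hf.smul_left] at h
  exact hc ▸ (mul_eq_zero.1 h).resolve_left (neg_ne_zero.2 h2)

/-- characteristic two: a non-stabilising element gives a line column -/
theorem lineCol_char_two (ht : 10 ≤ t) (h2 : (2 : F) = 0) (h4 : 4 < Fintype.card F) {g : GL ι F} (hg : g ∈ M)
    (hgs : g ∉ decompositionStabilizer D) : HasLineCol hf hD M := by
  classical
  obtain ⟨q, hq, hFq, -, hcirc⟩ := exists_sizes hf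
  have hq3 : 3 ≤ q := by
    by_contra h
    rw [hFq, show q = 2 by omega] at h4
    omega
  have hneg : (1 : F) = -1 := by linear_combination h2
  have hσ1 : σ (1 : F) = -1 := by rw [map_one]; exact hneg
  obtain ⟨a, b, hab, u, hu, hwide⟩ := exists_wide hf hD (by omega) (hM hg) hgs (Or.inl (by omega))
  obtain ⟨d, hd⟩ : ∃ d, d = bv hf hD a + (u : F) • bv hf hD b := ⟨_, rfl⟩
  have hu' : (u : F) * σ u = 1 := hu
  have hdd : f d d = 0 := by
    rw [hd, hf.add_left, herm_add_right hf, herm_add_right hf, hf.smul_left, hf.smul_left, herm_smul_right hf,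
      herm_smul_right hf, bv_norm hf hD, bv_norm hf hD, bv_orth hf hD hab, bv_orth hf hD hab.symm]
    linear_combination hu' + h2
  have htv : ∀ e (he : f e e = 0) x, (tv e ((1 : F) • hv hf e) (utv_orth hf he 1) : Matrix ι ι F) *ᵥ x =
      x + f x e • e := fun e he x => by rw [tv_mulVec, smul_dotProduct, hv_dot, one_smul]
  obtain ⟨e, he⟩ : ∃ e, e = (g : Matrix ι ι F) *ᵥ d := ⟨_, rfl⟩
  have hee : f e e = 0 := by rw [he, mem_isoU.1 (hM hg), hdd]
  have hTd : tv d ((1 : F) • hv hf d) (utv_orth hf hdd 1) ∈ M := by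
    refine hH ⟨stab_of_cols hf hD fun m => ?_, mem_isoU.2 (utv_isometry hf d hdd hσ1 _), tv_mem_SL _ _ _⟩
    by_cases hma : m = a
    · subst hma
      refine ⟨b, ?_⟩
      rw [htv d hdd, hd, herm_add_right hf, herm_smul_right hf, bv_norm hf hD, bv_orth hf hD hab, mul_zero, add_zero,
        one_smul, ← add_assoc, show bv hf hD m + bv hf hD m = (2 : F) • bv hf hD m from (two_smul F _).symm, h2,
        zero_smul, zero_add]
      exact (D b).smul_mem _ (bv_mem hf hD b)
    by_cases hmb : m = b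
    · subst hmb
      refine ⟨a, ?_⟩
      rw [htv d hdd, hd, herm_add_right hf, herm_smul_right hf, bv_norm hf hD, bv_orth hf hD hab.symm, zero_add,
        mul_one, show bv hf hD m + σ (u : F) • (bv hf hD a + (u : F) • bv hf hD m) =
          σ (u : F) • bv hf hD a + (1 + (u : F) * σ (u : F)) • bv hf hD m by module, hu',
        show (1 : F) + 1 = 0 by linear_combination h2, zero_smul, add_zero]
      exact (D a).smul_mem _ (bv_mem hf hD a)
    refine ⟨m, ?_⟩
    rw [htv d hdd, hd, herm_add_right hf, herm_smul_right hf, bv_orth hf hD hma, bv_orth hf hD hmb, mul_zero,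
      add_zero, zero_smul, add_zero]
    exact bv_mem hf hD m
  have hTe : tv e ((1 : F) • hv hf e) (utv_orth hf hee 1) ∈ M := by
    have h1 := M.mul_mem (M.mul_mem hg hTd) (M.inv_mem hg)
    rwa [show g * tv d ((1 : F) • hv hf d) (utv_orth hf hdd 1) * g⁻¹ = tv e ((1 : F) • hv hf e) (utv_orth hf hee 1) from
      gl_ext_vec fun x => by
        rw [gl_mul_mulVec, gl_mul_mulVec, htv d hdd, htv e hee, mulVec_add, mulVec_smul, gl_mulVec_inv, he,
          adjoint_col hf hD hM (M.inv_mem hg) x d, inv_inv] ] at h1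
  rw [show (g : Matrix ι ι F) *ᵥ bv hf hD a + (u : F) • ((g : Matrix ι ι F) *ᵥ bv hf hD b) = e by
    rw [he, hd, mulVec_add, mulVec_smul]] at hwide
  by_cases hfull : ∃ r, f e (bv hf hD r) = 0
  · obtain ⟨r, hr⟩ := hfull
    refine ⟨_, hTe, fun hst => ?_, r, r, ?_⟩
    · obtain ⟨i, hi⟩ := Finset.card_pos.1 (show 0 < (lsupp hf hD e).card by omega)
      obtain ⟨π, hπ⟩ := stab_maps hst
      obtain ⟨i₁, hi₁, hi₁'⟩ := Finset.exists_mem_notMem_of_card_lt_card (s := {i, π i}) (t := lsupp hf hD e)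
        (lt_of_le_of_lt Finset.card_le_two (by omega))
      simp only [Finset.mem_insert, Finset.mem_singleton, not_or] at hi₁'
      have h := coord_zero_off hf hD (hπ i _ (bv_mem hf hD i)) hi₁'.2
      rw [htv e hee, hf.add_left, hf.smul_left, bv_orth hf hD (Ne.symm hi₁'.1), zero_add, mul_eq_zero] at h
      rcases h with h | h
      · exact (mem_lsupp hf hD).1 hi (herm_swap_zero hf h)
      · exact (mem_lsupp hf hD).1 hi₁ h
    · rw [htv e hee, herm_swap_zero hf hr, zero_smul, add_zero]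
      exact bv_mem hf hD r
  push Not at hfull
  obtain ⟨N, hN⟩ : ∃ N : Fin t → F, N = fun i => f e (bv hf hD i) * σ (f e (bv hf hD i)) := ⟨_, rfl⟩
  have hN0 : ∀ i, N i ≠ 0 := fun i => by
    rw [hN]; exact mul_ne_zero (hfull i) (by simpa using hfull i)
  obtain ⟨r, r', s, hrr', hrs, hr's, hs1⟩ : ∃ r r' s : Fin t, r ≠ r' ∧ r ≠ s ∧ r' ≠ s ∧
      (N s ≠ 1 ∨ ∀ i, N i = 1) := by
    obtain ⟨s, hs⟩ : ∃ s : Fin t, N s ≠ 1 ∨ ∀ i, N i = 1 := by
      by_cases h : ∀ i, N i = 1
      · exact ⟨⟨0, by omega⟩, Or.inr h⟩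
      · push Not at h
        exact ⟨h.choose, Or.inl h.choose_spec⟩
    obtain ⟨r, -, hr⟩ := Finset.exists_mem_notMem_of_card_lt_card (s := {s})
      (t := (Finset.univ : Finset (Fin t))) (by simp; omega)
    obtain ⟨r', -, hr'⟩ := Finset.exists_mem_notMem_of_card_lt_card (s := {r, s})
      (t := (Finset.univ : Finset (Fin t))) (lt_of_le_of_lt Finset.card_le_two (by simp; omega))
    simp only [Finset.mem_insert, Finset.mem_singleton, not_or] at hr hr'
    exact ⟨r, r', s, Ne.symm hr'.1, hr, hr'.2, hs⟩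
  obtain ⟨μ, hμ, hμ1⟩ := exists_circ_notMem (σ := σ) (s := {1, (N r + N r' - 1) / (1 - N s)})
    (lt_of_le_of_lt Finset.card_le_two (by omega))
  simp only [Finset.mem_insert, Finset.mem_singleton, not_or] at hμ1
  obtain ⟨hμ1, hμT⟩ := hμ1
  -- four more indices for the determinant
  obtain ⟨Z, hZs, hZ⟩ := Finset.exists_subset_card_eq (s := ({r, r', s} : Finset (Fin t))ᶜ) (n := 4) (by
    rw [Finset.card_compl, Fintype.card_fin]
    have := Finset.card_le_three (a := r) (b := r') (c := s)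
    omega)
  obtain ⟨R, hR⟩ : ∃ R, R = (({r, r', s} : Finset (Fin t)) ∪ Z)ᶜ := ⟨_, rfl⟩
  have hdisj : Disjoint ({r, r', s} : Finset (Fin t)) Z :=
    Finset.disjoint_left.2 fun x hx hxZ => Finset.mem_compl.1 (hZs hxZ) hx
  have hRc : 3 ≤ R.card := by
    rw [hR, Finset.card_compl, Fintype.card_fin, Finset.card_union_of_disjoint hdisj, hZ,
      Finset.card_insert_of_notMem (by simp [hrr', hrs]), Finset.card_insert_of_notMem (by simp [hr's]),
      Finset.card_singleton]
    omega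
  obtain ⟨eZ, heZ, hsZ⟩ := exists_zero_sum hf Z (by omega) N (fun i _ => hN0 i)
  obtain ⟨T, hT⟩ : ∃ T, T = 1 + (μ : F) - (N r + N r' + (μ : F) * N s) := ⟨_, rfl⟩
  obtain ⟨eR, heR, hsR⟩ : ∃ e : Fin t → Fˣ, (∀ i, e i ∈ circ σ) ∧ ∑ i ∈ R, N i * (e i : F) = T := by
    have hT0 : T ≠ 0 := fun h => by
      rw [hT] at h
      rcases hs1 with hs | hs
      · refine hμT ?_
        rw [eq_div_iff (sub_ne_zero.2 (Ne.symm hs))]
        linear_combination h
      · rw [hs, hs, hs] at h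
        exact one_ne_zero (α := F) (by linear_combination -h)
    obtain ⟨e, he, hse⟩ := exists_zero_sum hf (Finset.insertNone R) (by rw [Finset.card_insertNone]; omega)
      (fun o => o.elim (-T) N) (fun o _ => by cases o <;> simp [hT0, hN0])
    rw [Finset.sum_insertNone] at hse
    simp only [Option.elim] at hse
    refine ⟨fun i => e (some i) * (e none)⁻¹, fun i => (circ σ).mul_mem (he _) ((circ σ).inv_mem (he _)), ?_⟩
    have hne : ((e none : Fˣ) : F) ≠ 0 := Units.ne_zero _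
    rw [Finset.sum_congr rfl (g := fun i => N i * (e (some i) : F) * ((e none : Fˣ) : F)⁻¹) (fun i _ => by
      rw [Units.val_mul, Units.val_inv_eq_inv_val]; ring), ← Finset.sum_mul, ← div_eq_mul_inv, div_eq_iff hne]
    linear_combination hse
  obtain ⟨P, hP⟩ : ∃ P, P = (∏ i ∈ Z, eZ i) * (∏ i ∈ R, eR i) * μ := ⟨_, rfl⟩
  have hPc : P ∈ circ σ := hP ▸ (circ σ).mul_mem ((circ σ).mul_mem ((circ σ).prod_mem fun i _ => heZ i)
    ((circ σ).prod_mem fun i _ => heR i)) hμ
  obtain ⟨ν, hν, hν4⟩ : ∃ ν ∈ circ σ, ν ^ 4 * P = 1 := by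
    have hcop : Nat.Coprime (Nat.card (circ σ)) 4 := by
      rw [hcirc, show (4 : ℕ) = 2 ^ 2 from rfl, Nat.coprime_pow_right_iff two_pos, Nat.coprime_two_right]
      have hc : ringChar F = 2 := by
        obtain ⟨p, hp⟩ := CharP.exists F
        rw [← ringChar.eq F p] at *
        have hdvd : ringChar F ∣ 2 := (CharP.cast_eq_zero_iff F (ringChar F) 2).1 (by exact_mod_cast h2)
        exact (Nat.prime_two.eq_one_or_self_of_dvd _ hdvd).resolve_left (CharP.ringChar_ne_one)
      have heven := (FiniteField.even_card_iff_char_two (F := F)).1 hc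
      rw [← Nat.even_iff, hFq, Nat.even_pow' two_ne_zero] at heven
      exact heven.add_one
    refine ⟨(((powCoprime hcop).symm ⟨P⁻¹, (circ σ).inv_mem hPc⟩ : circ σ) : Fˣ), SetLike.coe_mem _, ?_⟩
    have h := congrArg Subtype.val ((powCoprime hcop).apply_symm_apply ⟨P⁻¹, (circ σ).inv_mem hPc⟩)
    rw [powCoprime_apply, SubgroupClass.coe_pow] at h
    rw [h]
    exact inv_mul_cancel P
  obtain ⟨E, hE⟩ : ∃ E : Fin t → Fˣ, E = fun i =>
      if i = r ∨ i = r' then 1 else if i = s then μ else if i ∈ Z then ν * eZ i else eR i := ⟨_, rfl⟩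
  have hEc : ∀ i, E i ∈ circ σ := fun i => by
    rw [hE]
    dsimp only
    split_ifs
    · exact (circ σ).one_mem
    · exact hμ
    · exact (circ σ).mul_mem hν (heZ i)
    · exact heR i
  have hEr : E r = 1 := by simp [hE]
  have hEr' : E r' = 1 := by simp [hE]
  have hEs : E s = μ := by simp [hE, hrs.symm, hr's.symm]
  have hEZ : ∀ i ∈ Z, E i = ν * eZ i := fun i hi => by
    have := Finset.disjoint_right.1 hdisj hi
    simp only [Finset.mem_insert, Finset.mem_singleton, not_or] at this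
    simp [hE, this.1, this.2.1, this.2.2, hi]
  have hER : ∀ i ∈ R, E i = eR i := fun i hi => by
    rw [hR, Finset.mem_compl, Finset.mem_union, not_or] at hi
    simp only [Finset.mem_insert, Finset.mem_singleton, not_or] at hi
    simp [hE, hi.1.1, hi.1.2.1, hi.1.2.2, hi.2]
  obtain ⟨w, hw, hwk, hwd, hwb, hwc⟩ := exists_tor hf hD E hEc
  have hwM : w ∈ M := mem_of_keeps hf hD hH hw hwk (by
    rw [hwd, ← Units.coe_prod, ← Finset.prod_mul_prod_compl (({r, r', s} : Finset (Fin t)) ∪ Z), ← hR,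
      Finset.prod_union hdisj, Finset.prod_insert (by simp [hrr', hrs]), Finset.prod_insert (by simp [hr's]),
      Finset.prod_singleton, hEr, hEr', hEs, one_mul, one_mul, Finset.prod_congr rfl hEZ, Finset.prod_congr rfl hER,
      Finset.prod_mul_distrib, Finset.prod_const, hZ, ← Units.val_one, ← hν4, hP]
    congr 1
    ac_rfl)
  obtain ⟨e', he'⟩ : ∃ e', e' = (w : Matrix ι ι F) *ᵥ e := ⟨_, rfl⟩
  have he'e' : f e' e' = 0 := by rw [he', mem_isoU.1 hw, hee]
  have hTe' : tv e' ((1 : F) • hv hf e') (utv_orth hf he'e' 1) ∈ M := by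
    have h1 := M.mul_mem (M.mul_mem hwM hTe) (M.inv_mem hwM)
    rwa [show w * tv e ((1 : F) • hv hf e) (utv_orth hf hee 1) * w⁻¹ =
      tv e' ((1 : F) • hv hf e') (utv_orth hf he'e' 1) from gl_ext_vec fun x => by
        rw [gl_mul_mulVec, gl_mul_mulVec, htv e hee, htv e' he'e', mulVec_add, mulVec_smul, gl_mulVec_inv, he',
          adjoint_col hf hD hM (M.inv_mem hwM) x e, inv_inv] ] at h1
  obtain ⟨c, hc⟩ : ∃ c, c = f e e' := ⟨_, rfl⟩
  have hcval : σ c = 1 + (μ : F) := by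
    rw [hc, ← hf.herm, form_line hf hD e' e]
    rw [Finset.sum_congr rfl (g := fun i => N i * (E i : F)) (fun i _ => by rw [he', hwc, hN]; ring),
      ← Finset.sum_add_sum_compl (({r, r', s} : Finset (Fin t)) ∪ Z), ← hR, Finset.sum_union hdisj,
      Finset.sum_insert (by simp [hrr', hrs]), Finset.sum_insert (by simp [hr's]), Finset.sum_singleton, hEr, hEr',
      hEs, Units.val_one, Finset.sum_congr rfl (g := fun i => (ν : F) * (N i * (eZ i : F))) (fun i hi => by
        rw [hEZ i hi, Units.val_mul]; ring), ← Finset.mul_sum, hsZ,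
      Finset.sum_congr rfl (g := fun i => N i * (eR i : F)) (fun i hi => by rw [hER i hi]), hsR, hT]
    ring
  obtain ⟨y, hy⟩ : ∃ y, y = tv e' ((1 : F) • hv hf e') (utv_orth hf he'e' 1) *
      tv e ((1 : F) • hv hf e) (utv_orth hf hee 1) := ⟨_, rfl⟩
  have hyM : y ∈ M := hy ▸ M.mul_mem hTe' hTe
  have hyx : ∀ x, (y : Matrix ι ι F) *ᵥ x = x + f x e • e + (f x e' + f x e * c) • e' := fun x => by
    rw [hy, gl_mul_mulVec, htv e hee, htv e' he'e', hf.add_left, hf.smul_left, hc]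
  have hcs : c = 1 + σ (μ : F) := by rw [← hf.involutive c, hcval, map_add, map_one]
  have hzero : ∀ i, E i = 1 → i ≠ s → f ((y : Matrix ι ι F) *ᵥ bv hf hD s) (bv hf hD i) = 0 := by
    intro i hi his
    rw [hyx, hf.add_left, hf.add_left, hf.smul_left, hf.smul_left, bv_orth hf hD his.symm, hf.herm (bv hf hD s) e',
      hf.herm (bv hf hD s) e, he', hwc, hwc, hEs, hi, Units.val_one, one_mul, map_mul, hcs]
    linear_combination (σ (f e (bv hf hD s)) * f e (bv hf hD i) * (1 + σ (μ : F))) * h2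
  refine lineCol_of_two hf hD hM hH (by omega) h4 hyM (fun hys => ?_) hrr' (hzero r hEr hrs) (hzero r' hEr' hr's)
  have hind : e' ∉ Submodule.span F {e} := fun hm => by
    obtain ⟨k', hk⟩ := Submodule.mem_span_singleton.1 hm
    have e1 := congrArg (fun v => f v (bv hf hD r)) hk
    have e2 := congrArg (fun v => f v (bv hf hD s)) hk
    simp only [hf.smul_left, he', hwc, hEr, hEs, Units.val_one] at e1 e2
    rw [mul_right_cancel₀ (hfull r) e1] at e2
    exact hμ1 (mul_right_cancel₀ (hfull s) e2).symm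
  have he0 : e ≠ 0 := fun h => hfull r (by rw [h, herm_zero_left hf])
  obtain ⟨x, -, hxe, hxe'⟩ := exists_values hf (isNondegenerateOn_top hf) (Submodule.mem_top : e ∈ ⊤)
    (Submodule.mem_top : e' ∈ ⊤) he0 hind 1 (-c)
  obtain ⟨S, hS, hSz⟩ := mono_support hf hD hys (U := Submodule.span F {e, e'}) (fun x => by
      rw [hyx, Submodule.mem_span_pair]
      exact ⟨_, _, by abel⟩) (by
      refine (finrank_span_le_card _).trans ?_
      rw [Set.toFinset_insert, Set.toFinset_singleton]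
      exact Finset.card_le_two)
  obtain ⟨o, -, ho⟩ := Finset.exists_mem_notMem_of_card_lt_card (s := S) (t := (Finset.univ : Finset (Fin t)))
    (by simp; omega)
  have h := hSz x o ho
  rw [hyx, hxe, hxe', one_mul, neg_add_cancel, zero_smul, add_zero, one_smul, add_sub_cancel_left] at h
  exact hfull o h

/-- escaping from a frame stabiliser -/
theorem lineCol_of_not_le (ht : t = 10 ∨ t = 12 ∨ 13 ≤ t) (h4 : 4 < Fintype.card F) {g : GL ι F} (hg : g ∈ M)
    (hgs : g ∉ decompositionStabilizer D) : HasLineCol hf hD M := by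
  by_cases h2 : (2 : F) = 0
  · exact lineCol_char_two hf hD hM hH (by omega) h2 h4 hg hgs
  · obtain ⟨x, hx, hxs, l, p, hp⟩ : ∃ x ∈ M, x ∉ decompositionStabilizer D ∧
        ∃ l p, f ((x : Matrix ι ι F) *ᵥ bv hf hD l) (bv hf hD p) = 0 := by
      rcases (show (t = 10 ∨ t = 12) ∨ 13 ≤ t by omega) with h | h
      · exact exists_zero_entry_mid hf hD hM hH h h2 hg hgs
      · exact exists_zero_entry hf hD hM hH h h2 hg hgs
    exact lineCol_of_zero hf hD hM hH (by omega) h2 h4 hx hxs hp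

end CfsgLib.Perm.Trans.Unit.Dec
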