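import Cfsg.Agent.Lib.Perm.Trans.UnitDecomp.Base

/-!
# Orthonormal frames of unitary spaces
-/

set_option autoImplicit false
set_option linter.all false

namespace CfsgLib.Perm.Trans.Unit.Dec

open scoped Matrix
open Matrix Cfsg.Geo CfsgLib.Perm.Asch CfsgLib.Perm.Trans CfsgLib.Perm.Trans.Unit

variable {ι : Type} [Fintype ι] [DecidableEq ι] {F : Type*} [Field F] [Fintype F]
variable {σ : F ≃+* F} {f : (ι → F) → (ι → F) → F} (hf : IsUnitaryForm σ f)
variable {t : ℕ} {D : Fin t → Submodule F (ι → F)} (hD : IsNondegenerateMDecomposition f 1 D)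
include hf hD

/-- the unit vector of a line -/
noncomputable def bv (i : Fin t) : ι → F := Classical.choose (exists_unit_vec hf hD i)

theorem bv_mem (i : Fin t) : bv hf hD i ∈ D i := (Classical.choose_spec (exists_unit_vec hf hD i)).1

theorem bv_norm (i : Fin t) : f (bv hf hD i) (bv hf hD i) = 1 :=
  (Classical.choose_spec (exists_unit_vec hf hD i)).2

theorem bv_ne_zero (i : Fin t) : bv hf hD i ≠ 0 := fun h => by
  have := bv_norm hf hD i
  rw [h, herm_zero_left hf] at this
  exact zero_ne_one this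

theorem bv_orth {i j : Fin t} (h : i ≠ j) : f (bv hf hD i) (bv hf hD j) = 0 :=
  hD.orthogonal i j h _ (bv_mem hf hD i) _ (bv_mem hf hD j)

theorem comp_line (i : Fin t) (x : ι → F) : comp hf hD i x = f x (bv hf hD i) • bv hf hD i := by
  refine comp_eq hf hD ((D i).smul_mem _ (bv_mem hf hD i)) fun w hw => ?_
  obtain ⟨c, hc⟩ := exists_smul_eq_of_finrank_eq_one (K := F) (V := D i) (hD.decomp.finrank_eq i)
    (x := ⟨bv hf hD i, bv_mem hf hD i⟩) (fun h0 => bv_ne_zero hf hD i (congrArg Subtype.val h0)) ⟨w, hw⟩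
  have hc' : c • bv hf hD i = w := congrArg Subtype.val hc
  rw [← hc', herm_smul_right hf, herm_sub_left hf, hf.smul_left, bv_norm hf hD, mul_one, sub_self, mul_zero]

theorem comp_eq_zero {i : Fin t} {x : ι → F} : comp hf hD i x = 0 ↔ f x (bv hf hD i) = 0 := by
  rw [comp_line, smul_eq_zero, or_iff_left (bv_ne_zero hf hD i)]

theorem sum_line (x : ι → F) : ∑ i, f x (bv hf hD i) • bv hf hD i = x := by
  conv_rhs => rw [← sum_comp hf hD x]
  exact Finset.sum_congr rfl fun i _ => (comp_line hf hD i x).symm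

theorem ext_line {x y : ι → F} (h : ∀ i, f x (bv hf hD i) = f y (bv hf hD i)) : x = y := by
  rw [← sum_line hf hD x, ← sum_line hf hD y]
  exact Finset.sum_congr rfl fun i _ => by rw [h]

theorem form_line (x y : ι → F) : f x y = ∑ i, f x (bv hf hD i) * σ (f y (bv hf hD i)) := by
  rw [form_eq_sum hf hD]
  refine Finset.sum_congr rfl fun i _ => ?_
  rw [comp_line, comp_line, hf.smul_left, herm_smul_right hf, bv_norm hf hD, mul_one]

theorem exists_coord {x : ι → F} (hx : x ≠ 0) : ∃ i, f x (bv hf hD i) ≠ 0 := by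
  by_contra hcon
  push Not at hcon
  exact hx (ext_line hf hD fun i => by rw [hcon i, herm_zero_left hf])

omit hf in
theorem card_lines (hf : IsUnitaryForm σ f) : t = Fintype.card ι := by
  have h : part hf hD (Finset.univ : Finset (Fin t)) = ⊤ :=
    eq_top_iff.2 fun x _ i hi => absurd (Finset.mem_univ i) hi
  have := finrank_part hf hD (Finset.univ : Finset (Fin t))
  rw [h, finrank_top, Module.finrank_fintype_fun_eq_card, Finset.card_univ, Fintype.card_fin, one_mul] at this
  exact this.symm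

/-- vectors lying on one line of the frame -/
def Coord (D : Fin t → Submodule F (ι → F)) (x : ι → F) : Prop := ∃ m, x ∈ D m

theorem coord_of {x : ι → F} {m : Fin t} (h : ∀ i, i ≠ m → f x (bv hf hD i) = 0) : Coord D x :=
  ⟨m, eq_of_supp hf hD fun i hi => (comp_eq_zero hf hD).2 (h i hi)⟩

theorem coord_zero_off {x : ι → F} {m : Fin t} (h : x ∈ D m) {i : Fin t} (hi : i ≠ m) : f x (bv hf hD i) = 0 :=
  hD.orthogonal m i hi.symm x h _ (bv_mem hf hD i)

theorem not_coord {x : ι → F} {i j : Fin t} (hij : i ≠ j) (hi : f x (bv hf hD i) ≠ 0)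
    (hj : f x (bv hf hD j) ≠ 0) : ¬ Coord D x := fun ⟨m, hm⟩ => by
  rcases eq_or_ne i m with rfl | h
  · exact hj (coord_zero_off hf hD hm hij.symm)
  · exact hi (coord_zero_off hf hD hm h)

theorem mulVec_line (g : GL ι F) (x : ι → F) :
    (g : Matrix ι ι F) *ᵥ x = ∑ i, f x (bv hf hD i) • ((g : Matrix ι ι F) *ᵥ bv hf hD i) := by
  conv_lhs => rw [← sum_line hf hD x, Matrix.mulVec_sum]
  exact Finset.sum_congr rfl fun i _ => by rw [mulVec_smul]

/-- isometries sending frame vectors to frame lines stabilise the frame -/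
theorem stab_of_cols {g : GL ι F} (h : ∀ l, Coord D ((g : Matrix ι ι F) *ᵥ bv hf hD l)) :
    g ∈ decompositionStabilizer D := by
  choose π hπ using h
  have hinj : Function.Injective π := by
    intro i j hij
    by_contra hne
    obtain ⟨c, hc⟩ := exists_smul_eq_of_finrank_eq_one (K := F) (V := D (π i)) (hD.decomp.finrank_eq _)
      (x := ⟨_, hπ i⟩) (fun h0 => bv_ne_zero hf hD i (gl_mulVec_eq_zero.1 (congrArg Subtype.val h0)))
      ⟨_, hij ▸ hπ j⟩
    have hc' : c • ((g : Matrix ι ι F) *ᵥ bv hf hD i) = (g : Matrix ι ι F) *ᵥ bv hf hD j := congrArg Subtype.val hc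
    rw [← mulVec_smul] at hc'
    have h2 := congrArg (fun v => ((g⁻¹ : GL ι F) : Matrix ι ι F) *ᵥ v) hc'
    simp only [gl_inv_mulVec] at h2
    have h3 := congrArg (fun v => f v (bv hf hD j)) h2
    simp only [hf.smul_left, bv_orth hf hD hne, bv_norm hf hD j, mul_zero] at h3
    exact zero_ne_one h3
  refine stab_of_maps hD (Equiv.ofBijective π (Finite.injective_iff_bijective.1 hinj)) fun i x hx => ?_
  have hx' : x = f x (bv hf hD i) • bv hf hD i := by rw [← comp_line, comp_self hf hD hx]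
  rw [hx', mulVec_smul]
  exact (D _).smul_mem _ (hπ i)

theorem exists_col {g : GL ι F} (h : g ∉ decompositionStabilizer D) :
    ∃ l, ¬ Coord D ((g : Matrix ι ι F) *ᵥ bv hf hD l) := by
  by_contra hcon
  push Not at hcon
  exact h (stab_of_cols hf hD hcon)

omit hf in
/-- the permutation and multipliers of a stabilising element -/
theorem stab_cols (hf : IsUnitaryForm σ f) {g : GL ι F} (hg : g ∈ decompositionStabilizer D) :
    ∃ (π : Equiv.Perm (Fin t)) (c : Fin t → F),
      ∀ i, (g : Matrix ι ι F) *ᵥ bv hf hD i = c i • bv hf hD (π i) := by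
  obtain ⟨π, hπ⟩ := stab_maps hg
  refine ⟨π, fun i => f ((g : Matrix ι ι F) *ᵥ bv hf hD i) (bv hf hD (π i)), fun i => ?_⟩
  rw [← comp_line, comp_self hf hD (hπ i _ (bv_mem hf hD i))]

/-- diagonal elements -/
theorem exists_tor (e : Fin t → Fˣ) (he : ∀ i, e i ∈ circ σ) :
    ∃ g ∈ isoU f, Keeps D g ∧ (g : Matrix ι ι F).det = ∏ i, (e i : F) ∧
      (∀ i, (g : Matrix ι ι F) *ᵥ bv hf hD i = (e i : F) • bv hf hD i) ∧
      ∀ x i, f ((g : Matrix ι ι F) *ᵥ x) (bv hf hD i) = (e i : F) * f x (bv hf hD i) := by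
  obtain ⟨g, hg, hk, hdet, hgx⟩ := exists_diag hf hD (bv hf hD) (bv_mem hf hD)
    (fun i => by rw [bv_norm hf hD]; exact one_ne_zero) e he
  have hb : ∀ i, (g : Matrix ι ι F) *ᵥ bv hf hD i = (e i : F) • bv hf hD i := by
    intro i
    rw [hgx, Finset.sum_eq_single i, bv_norm hf hD, div_one, mul_one, sub_smul, one_smul, add_sub_cancel]
    · intro j _ hj
      rw [bv_orth hf hD hj.symm, mul_zero, zero_smul]
    · simp
  refine ⟨g, hg, hk, hdet, hb, fun x i => ?_⟩
  have h1 : comp hf hD i ((g : Matrix ι ι F) *ᵥ x) = (g : Matrix ι ι F) *ᵥ comp hf hD i x := by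
    simpa using comp_maps hf hD (π := 1) (fun j z hz => by simpa using hk j z hz) i x
  rw [comp_line, comp_line, mulVec_smul, hb, smul_smul] at h1
  rw [mul_comm]
  exact smul_left_injective F (bv_ne_zero hf hD i) h1

/-- the diagonal element with two inverse entries -/
theorem exists_tor_pair {p q : Fin t} (hpq : p ≠ q) {u : Fˣ} (hu : u ∈ circ σ) :
    ∃ g ∈ isoU f, Keeps D g ∧ (g : Matrix ι ι F).det = 1 ∧ ∀ x, (g : Matrix ι ι F) *ᵥ x =
      x + (((u : F) - 1) * f x (bv hf hD p)) • bv hf hD p +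
        ((((u⁻¹ : Fˣ) : F) - 1) * f x (bv hf hD q)) • bv hf hD q := by
  obtain ⟨g₁, hg₁, hd₁, hx₁⟩ := exists_qref hf (d := bv hf hD p) (by rw [bv_norm hf hD]; exact one_ne_zero)
    (ζ := (u : F)) hu
  obtain ⟨g₂, hg₂, hd₂, hx₂⟩ := exists_qref hf (d := bv hf hD q) (by rw [bv_norm hf hD]; exact one_ne_zero)
    (ζ := ((u⁻¹ : Fˣ) : F)) ((circ σ).inv_mem hu)
  refine ⟨g₂ * g₁, (isoU f).mul_mem hg₂ hg₁,
    (keeps_of_qref hf hD (bv_mem hf hD q) hx₂).mul (keeps_of_qref hf hD (bv_mem hf hD p) hx₁),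
    by rw [Units.val_mul, det_mul, hd₁, hd₂, Units.inv_mul], fun x => ?_⟩
  rw [gl_mul_mulVec, hx₂, hx₁, bv_norm hf hD, bv_norm hf hD, div_one, div_one, hf.add_left, hf.smul_left,
    bv_orth hf hD hpq, mul_zero, add_zero]

/-- three moved frame vectors in general position give rank three -/
theorem false_of_three {y : GL ι F} {U : Submodule F (ι → F)}
    (hU : ∀ x, (y : Matrix ι ι F) *ᵥ x - x ∈ U) (hdim : Module.finrank F U ≤ 2) {a₁ a₂ a₃ : Fin t}
    (hli : ∀ r₁ r₂ r₃ : F, r₁ • ((y : Matrix ι ι F) *ᵥ bv hf hD a₁ - bv hf hD a₁) +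
      r₂ • ((y : Matrix ι ι F) *ᵥ bv hf hD a₂ - bv hf hD a₂) +
      r₃ • ((y : Matrix ι ι F) *ᵥ bv hf hD a₃ - bv hf hD a₃) = 0 → r₁ = 0 ∧ r₂ = 0 ∧ r₃ = 0) : False := by
  let v : Fin 3 → U := ![⟨_, hU (bv hf hD a₁)⟩, ⟨_, hU (bv hf hD a₂)⟩, ⟨_, hU (bv hf hD a₃)⟩]
  have hind : LinearIndependent F v := by
    rw [Fintype.linearIndependent_iff]
    intro r hr
    have h1 := congrArg Subtype.val hr
    simp only [Fin.sum_univ_three, v, Submodule.coe_add, SetLike.val_smul, Matrix.cons_val_zero,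
      Matrix.cons_val_one, Matrix.cons_val_two, Matrix.head_cons, Matrix.tail_cons, ZeroMemClass.coe_zero] at h1
    obtain ⟨e1, e2, e3⟩ := hli _ _ _ h1
    intro i
    fin_cases i <;> assumption
  have := hind.fintype_card_le_finrank
  simp at this
  omega

/-- a stabilising element near the identity moves few lines -/
theorem mono_support {y : GL ι F} (hy : y ∈ decompositionStabilizer D) {U : Submodule F (ι → F)}
    (hU : ∀ x, (y : Matrix ι ι F) *ᵥ x - x ∈ U) (hdim : Module.finrank F U ≤ 2) :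
    ∃ S : Finset (Fin t), S.card ≤ 4 ∧ ∀ x, ∀ i, i ∉ S → f ((y : Matrix ι ι F) *ᵥ x - x) (bv hf hD i) = 0 := by
  classical
  obtain ⟨π, c, hc⟩ := stab_cols hD hf hy
  refine ⟨Finset.univ.filter fun a => (y : Matrix ι ι F) *ᵥ bv hf hD a ≠ bv hf hD a, ?_, fun x i hi => ?_⟩
  · by_contra hcard
    push Not at hcard
    obtain ⟨a₁, h1⟩ : ∃ a, (y : Matrix ι ι F) *ᵥ bv hf hD a ≠ bv hf hD a := by
      obtain ⟨a, ha⟩ := Finset.card_pos.1 (show 0 < (Finset.univ.filter fun a =>
        (y : Matrix ι ι F) *ᵥ bv hf hD a ≠ bv hf hD a).card by omega)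
      exact ⟨a, (Finset.mem_filter.1 ha).2⟩
    obtain ⟨a₂, h2, h2'⟩ := Finset.exists_mem_notMem_of_card_lt_card (s := {a₁, π a₁})
      (t := Finset.univ.filter fun a => (y : Matrix ι ι F) *ᵥ bv hf hD a ≠ bv hf hD a)
      (lt_of_le_of_lt Finset.card_le_two (by omega))
    obtain ⟨a₃, h3, h3'⟩ := Finset.exists_mem_notMem_of_card_lt_card (s := {a₁, π a₁, a₂, π a₂})
      (t := Finset.univ.filter fun a => (y : Matrix ι ι F) *ᵥ bv hf hD a ≠ bv hf hD a)
      (lt_of_le_of_lt Finset.card_le_four (by omega))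
    replace h2 := (Finset.mem_filter.1 h2).2
    replace h3 := (Finset.mem_filter.1 h3).2
    simp only [Finset.mem_insert, Finset.mem_singleton, not_or] at h2' h3'
    have hoff : ∀ a i, i ≠ a → i ≠ π a →
        f ((y : Matrix ι ι F) *ᵥ bv hf hD a - bv hf hD a) (bv hf hD i) = 0 := fun a i h h' => by
      rw [hc, herm_sub_left hf, hf.smul_left, bv_orth hf hD (Ne.symm h'), bv_orth hf hD (Ne.symm h), mul_zero,
        sub_zero]
    have hdiag : ∀ a, (y : Matrix ι ι F) *ᵥ bv hf hD a ≠ bv hf hD a →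
        f ((y : Matrix ι ι F) *ᵥ bv hf hD a - bv hf hD a) (bv hf hD a) ≠ 0 := fun a ha h0 => by
      rcases eq_or_ne (π a) a with e | e
      · rw [hc, e, herm_sub_left hf, hf.smul_left, bv_norm hf hD, mul_one, sub_eq_zero] at h0
        exact ha (by rw [hc, e, h0, one_smul])
      · rw [hc, herm_sub_left hf, hf.smul_left, bv_orth hf hD e, bv_norm hf hD, mul_zero, zero_sub] at h0
        exact one_ne_zero (neg_eq_zero.1 h0)
    refine false_of_three hf hD hU hdim (a₁ := a₁) (a₂ := a₂) (a₃ := a₃) fun r₁ r₂ r₃ h => ?_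
    have e3 := congrArg (fun v => f v (bv hf hD a₃)) h
    simp only [hf.add_left, hf.smul_left, hoff a₁ a₃ h3'.1 h3'.2.1, hoff a₂ a₃ h3'.2.2.1 h3'.2.2.2, mul_zero,
      zero_add, herm_zero_left hf] at e3
    obtain rfl := (mul_eq_zero.1 e3).resolve_right (hdiag a₃ h3)
    rw [zero_smul, add_zero] at h
    have e2 := congrArg (fun v => f v (bv hf hD a₂)) h
    simp only [hf.add_left, hf.smul_left, hoff a₁ a₂ h2'.1 h2'.2, mul_zero, zero_add, herm_zero_left hf] at e2
    obtain rfl := (mul_eq_zero.1 e2).resolve_right (hdiag a₂ h2)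
    rw [zero_smul, add_zero, smul_eq_zero, or_iff_left (sub_ne_zero.2 h1)] at h
    exact ⟨h, rfl, rfl⟩
  · simp only [Finset.mem_filter, Finset.mem_univ, true_and, not_not] at hi
    rw [mulVec_line hf hD y x]
    conv_lhs => arg 1; arg 2; rw [← sum_line hf hD x]
    rw [← Finset.sum_sub_distrib]
    have key : ∀ s : Finset (Fin t), f (∑ a ∈ s, (f x (bv hf hD a) • ((y : Matrix ι ι F) *ᵥ bv hf hD a) -
        f x (bv hf hD a) • bv hf hD a)) (bv hf hD i) = 0 := by
      intro s
      induction s using Finset.induction_on with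
      | empty => simp [herm_zero_left hf]
      | @insert a s ha ih =>
        rw [Finset.sum_insert ha, hf.add_left, ih, add_zero, ← smul_sub, hf.smul_left, hc]
        rcases eq_or_ne i a with rfl | hia
        · rw [← hc i, hi, sub_self, herm_zero_left hf, mul_zero]
        · have hπ : i ≠ π a := by
            intro e
            have h1 := hc i
            rw [hi] at h1
            have h2 := congrArg (fun v => f v (bv hf hD i)) h1
            simp only [hf.smul_left, bv_norm hf hD i] at h2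
            rcases eq_or_ne (π i) i with h' | h'
            · exact hia (π.injective (h'.trans e))
            · rw [bv_orth hf hD h', mul_zero] at h2
              exact one_ne_zero h2
          rw [herm_sub_left hf, hf.smul_left, bv_orth hf hD (Ne.symm hπ), bv_orth hf hD (Ne.symm hia), mul_zero,
            sub_zero, mul_zero]
    exact key Finset.univ

/-- a stabilising conjugate of a two-entry diagonal element -/
theorem plane_or_coord {u u' : ι → F} (huu : f u u = 1) (hu'u' : f u' u' = 1) (huu' : f u u' = 0) {z : Fˣ}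
    (hz : z ∈ circ σ) (hz1 : (z : F) ≠ 1) (hz2 : (z : F) ^ 2 ≠ 1) (hz3 : (z : F) ^ 3 ≠ 1)
    {y : GL ι F} (hy : y ∈ decompositionStabilizer D)
    (hyx : ∀ x, (y : Matrix ι ι F) *ᵥ x =
      x + (((z : F) - 1) * f x u) • u + ((((z⁻¹ : Fˣ) : F) - 1) * f x u') • u') :
    Coord D u ∨ ∃ a b, a ≠ b ∧ ∀ i, i ≠ a → i ≠ b → f u (bv hf hD i) = 0 ∧ f u' (bv hf hD i) = 0 := by
  classical
  obtain ⟨π, c, hc⟩ := stab_cols hD hf hy
  have hu'u := herm_swap_zero hf huu'
  obtain ⟨zi, hzi⟩ : ∃ zi, zi = ((z⁻¹ : Fˣ) : F) := ⟨_, rfl⟩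
  rw [← hzi] at hyx
  have hzz : (z : F) * zi = 1 := by rw [hzi, Units.mul_inv]
  have hfu : ∀ x, f ((y : Matrix ι ι F) *ᵥ x) u = (z : F) * f x u ∧ f ((y : Matrix ι ι F) *ᵥ x) u' = zi * f x u' :=
    fun x => by
      constructor <;> rw [hyx, hf.add_left, hf.add_left, hf.smul_left, hf.smul_left]
      · rw [huu, hu'u]; ring
      · rw [hu'u', huu']; ring
  obtain ⟨U, hUdef⟩ : ∃ U, U = Submodule.span F ({u, u'} : Set (ι → F)) := ⟨_, rfl⟩
  have hU : ∀ x, (y : Matrix ι ι F) *ᵥ x - x ∈ U := fun x => by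
    rw [hUdef, Submodule.mem_span_pair]
    exact ⟨_, _, by rw [hyx]; abel⟩
  have hdim : Module.finrank F U ≤ 2 := by
    rw [hUdef]
    refine (finrank_span_le_card _).trans ?_
    rw [Set.toFinset_insert, Set.toFinset_singleton]
    exact Finset.card_le_two
  by_cases hπ : ∀ a, π a = a
  · left
    obtain ⟨a, ha⟩ : ∃ a, f (bv hf hD a) u ≠ 0 := by
      obtain ⟨a, ha⟩ := exists_coord hf hD (x := u) (fun h => by rw [h, herm_zero_left hf] at huu; exact zero_ne_one huu)
      exact ⟨a, fun h => ha (herm_swap_zero hf h)⟩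
    obtain ⟨h1, h2⟩ := hfu (bv hf hD a)
    rw [hc, hπ, hf.smul_left] at h1 h2
    have hcz : c a = z := mul_right_cancel₀ ha h1
    have h0 : f (bv hf hD a) u' = 0 := by
      rw [hcz] at h2
      have h3 : ((z : F) ^ 2 - 1) * f (bv hf hD a) u' = 0 := by
        linear_combination (z : F) * h2 + f (bv hf hD a) u' * hzz
      exact (mul_eq_zero.1 h3).resolve_left (sub_ne_zero.2 hz2)
    have h4 := hyx (bv hf hD a)
    rw [hc, hπ, hcz, h0, mul_zero, zero_smul, add_zero] at h4
    refine ⟨a, ?_⟩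
    have h5 : (((z : F) - 1) * f (bv hf hD a) u) • u = ((z : F) - 1) • bv hf hD a := by
      rw [sub_smul (z : F) 1 (bv hf hD a), one_smul, h4]
      abel
    have h6 := (D a).smul_mem ((((z : F) - 1) * f (bv hf hD a) u)⁻¹) ((D a).smul_mem ((z : F) - 1) (bv_mem hf hD a))
    rwa [← h5, smul_smul, inv_mul_cancel₀ (mul_ne_zero (sub_ne_zero.2 hz1) ha), one_smul] at h6
  push Not at hπ
  obtain ⟨a, ha⟩ := hπ
  obtain ⟨b, hb⟩ : ∃ b, b = π a := ⟨_, rfl⟩
  have hab : a ≠ b := fun e => ha (by rw [← hb, e])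
  have hca : (y : Matrix ι ι F) *ᵥ bv hf hD a = c a • bv hf hD b := by rw [hc, hb]
  -- a moved vector returning after `j` steps
  have hreturn : ∀ j : ℕ, 0 < j → j < 4 → ((y ^ j : GL ι F) : Matrix ι ι F) *ᵥ bv hf hD a ≠ bv hf hD a := by
    intro j hj0 hj4 hret
    have hpow : ∀ i : ℕ, f (((y ^ i : GL ι F) : Matrix ι ι F) *ᵥ bv hf hD a) u = (z : F) ^ i * f (bv hf hD a) u ∧
        f (((y ^ i : GL ι F) : Matrix ι ι F) *ᵥ bv hf hD a) u' = zi ^ i * f (bv hf hD a) u' := by
      intro i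
      induction i with
      | zero => simp
      | succ i ih =>
        rw [pow_succ' y, gl_mul_mulVec, (hfu _).1, (hfu _).2, ih.1, ih.2]
        constructor <;> ring
    obtain ⟨e1, e2⟩ := hpow j
    rw [hret] at e1 e2
    have hzj : (z : F) ^ j ≠ 1 := by
      rcases (by omega : j = 1 ∨ j = 2 ∨ j = 3) with rfl | rfl | rfl
      · rwa [pow_one]
      · exact hz2
      · exact hz3
    have A0 : f (bv hf hD a) u = 0 := by
      have : ((z : F) ^ j - 1) * f (bv hf hD a) u = 0 := by linear_combination -e1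
      exact (mul_eq_zero.1 this).resolve_left (sub_ne_zero.2 hzj)
    have hzij : zi ^ j ≠ 1 := fun h => hzj (by
      have := congrArg (· ^ j) hzz
      simpa only [mul_pow, h, mul_one, one_pow] using this)
    have A0' : f (bv hf hD a) u' = 0 := by
      have : (zi ^ j - 1) * f (bv hf hD a) u' = 0 := by linear_combination -e2
      exact (mul_eq_zero.1 this).resolve_left (sub_ne_zero.2 hzij)
    have h4 := hyx (bv hf hD a)
    rw [A0, A0', mul_zero, mul_zero, zero_smul, zero_smul, add_zero, add_zero, hca] at h4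
    have h5 := congrArg (fun v => f v (bv hf hD a)) h4
    simp only [hf.smul_left, bv_orth hf hD hab.symm, bv_norm hf hD a, mul_zero] at h5
    exact zero_ne_one h5
  obtain ⟨d, hd⟩ : ∃ d, d = π b := ⟨_, rfl⟩
  have hcb : (y : Matrix ι ι F) *ᵥ bv hf hD b = c b • bv hf hD d := by rw [hc, hd]
  by_cases hda : d = a
  · right
    subst hda
    refine ⟨d, b, hab, fun i hia hib => ?_⟩
    have hcc : c d * c b ≠ 1 := fun h => hreturn 2 (by omega) (by omega) (by
      rw [pow_two, gl_mul_mulVec, hca, mulVec_smul, hcb, smul_smul, h, one_smul])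
    let S : Submodule F (ι → F) := Submodule.span F {bv hf hD d, bv hf hD b}
    have hSU : S ≤ U := by
      have h1 := hU (bv hf hD d)
      have h2 := hU (bv hf hD b)
      rw [hca] at h1
      rw [hcb] at h2
      have hcd : c d * c b - 1 ≠ 0 := sub_ne_zero.2 hcc
      refine Submodule.span_le.2 ?_
      rintro _ (rfl | rfl)
      · have h3 := U.smul_mem (c d * c b - 1)⁻¹ (U.add_mem h1 (U.smul_mem (c d) h2))
        rw [show c d • bv hf hD b - bv hf hD d + c d • (c b • bv hf hD d - bv hf hD b) =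
          (c d * c b - 1) • bv hf hD d by module, smul_smul, inv_mul_cancel₀ hcd, one_smul] at h3
        exact h3
      · have h3 := U.smul_mem (c d * c b - 1)⁻¹ (U.add_mem h2 (U.smul_mem (c b) h1))
        rw [show c b • bv hf hD d - bv hf hD b + c b • (c d • bv hf hD b - bv hf hD d) =
          (c d * c b - 1) • bv hf hD b by module, smul_smul, inv_mul_cancel₀ hcd, one_smul] at h3
        exact h3
    have hS2 : Module.finrank F S = 2 := by
      show Module.finrank F (Submodule.span F ({bv hf hD d, bv hf hD b} : Set (ι → F))) = 2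
      rw [← Matrix.range_cons_cons_empty (bv hf hD d) (bv hf hD b), finrank_span_eq_card]
      · simp
      · rw [LinearIndependent.pair_iff]
        intro r s h
        have e1 := congrArg (fun v => f v (bv hf hD d)) h
        have e2 := congrArg (fun v => f v (bv hf hD b)) h
        simp only [hf.add_left, hf.smul_left, bv_norm hf hD, bv_orth hf hD hab, bv_orth hf hD hab.symm,
          herm_zero_left hf, mul_zero, mul_one, add_zero, zero_add] at e1 e2
        exact ⟨e1, e2⟩
    have hUS : U = S := (Submodule.eq_of_le_of_finrank_le hSU (by omega)).symm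
    have hz : ∀ v ∈ S, f v (bv hf hD i) = 0 := fun v hv => by
      obtain ⟨r, s, rfl⟩ := Submodule.mem_span_pair.1 hv
      rw [hf.add_left, hf.smul_left, hf.smul_left, bv_orth hf hD (Ne.symm hia), bv_orth hf hD (Ne.symm hib),
        mul_zero, mul_zero, add_zero]
    exact ⟨hz u (hUS ▸ hUdef ▸ Submodule.subset_span (by simp)),
      hz u' (hUS ▸ hUdef ▸ Submodule.subset_span (by simp))⟩
  -- longer cycles are impossible
  have hbd : b ≠ d := fun e => hab (π.injective (by rw [← hb, ← hd, ← e]))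
  have had : a ≠ d := Ne.symm hda
  obtain ⟨g, hg⟩ : ∃ g, g = π d := ⟨_, rfl⟩
  have hcd : (y : Matrix ι ι F) *ᵥ bv hf hD d = c d • bv hf hD g := by rw [hc, hg]
  exfalso
  refine false_of_three hf hD hU hdim (a₁ := a) (a₂ := b) (a₃ := d) fun r₁ r₂ r₃ h => ?_
  rw [hca, hcb, hcd] at h
  have ea := congrArg (fun v => f v (bv hf hD a)) h
  have eb := congrArg (fun v => f v (bv hf hD b)) h
  have ed := congrArg (fun v => f v (bv hf hD d)) h
  have hgb : g ≠ b := fun e => had (π.injective (by rw [← hb, ← hg, e]))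
  have hgd : g ≠ d := fun e => hbd (π.injective (by rw [← hd, ← hg, e]))
  simp only [hf.add_left, hf.smul_left, herm_sub_left hf, bv_norm hf hD, bv_orth hf hD hab, bv_orth hf hD hab.symm,
    bv_orth hf hD hbd, bv_orth hf hD hbd.symm, bv_orth hf hD had, bv_orth hf hD had.symm, bv_orth hf hD hgb,
    bv_orth hf hD hgd, herm_zero_left hf, mul_zero, mul_one, zero_sub, sub_zero, add_zero, zero_add] at ea eb ed
  rcases eq_or_ne g a with rfl | hga
  · have hne : c g * c b * c d ≠ 1 := fun h => hreturn 3 (by omega) (by omega) (by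
      rw [pow_succ, pow_two, gl_mul_mulVec, gl_mul_mulVec, hca, mulVec_smul, hcb, mulVec_smul, mulVec_smul, hcd,
        smul_smul, smul_smul, h, one_smul])
    rw [bv_norm hf hD, mul_one] at ea
    have h0 : r₁ * (c g * c b * c d - 1) = 0 := by linear_combination ea + (c d * c b) * eb + c d * ed
    obtain rfl := (mul_eq_zero.1 h0).resolve_right (sub_ne_zero.2 hne)
    exact ⟨rfl, by linear_combination -eb, by linear_combination -ed - c b * eb⟩
  · rw [bv_orth hf hD hga, mul_zero, mul_zero, add_zero] at ea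
    have h1 : r₁ = 0 := by linear_combination -ea
    exact ⟨h1, by linear_combination -eb + c a * h1, by linear_combination -ed - c b * eb + c b * c a * h1⟩

variable {M : Subgroup (GL ι F)} (hM : M ≤ isoU f) (hH : decompositionStabilizer D ⊓ (isoU f ⊓ specialLinear ι F) ≤ M)
include hM hH

omit hf hD hM hH in
/-- a non-stabilising element of `M` with a column on a line -/
def HasLineCol (hf : IsUnitaryForm σ f) (hD : IsNondegenerateMDecomposition f 1 D) (M : Subgroup (GL ι F)) : Prop :=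
  ∃ y ∈ M, y ∉ decompositionStabilizer D ∧ ∃ l, Coord D ((y : Matrix ι ι F) *ᵥ bv hf hD l)

/-- two zeros in a column give a conjugate fixing the line -/
theorem tor_step {g : GL ι F} (hg : g ∈ M) {l p q : Fin t} (hpq : p ≠ q)
    (hp : f ((g : Matrix ι ι F) *ᵥ bv hf hD l) (bv hf hD p) = 0)
    (hq : f ((g : Matrix ι ι F) *ᵥ bv hf hD l) (bv hf hD q) = 0) {z : Fˣ} (hz : z ∈ circ σ) (hz1 : (z : F) ≠ 1)
    (hz2 : (z : F) ^ 2 ≠ 1) (hz3 : (z : F) ^ 3 ≠ 1) :
    HasLineCol hf hD M ∨ Coord D (((g⁻¹ : GL ι F) : Matrix ι ι F) *ᵥ bv hf hD p) ∨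
      ∃ a b, a ≠ b ∧ ∀ i, i ≠ a → i ≠ b →
        f (((g⁻¹ : GL ι F) : Matrix ι ι F) *ᵥ bv hf hD p) (bv hf hD i) = 0 ∧
        f (((g⁻¹ : GL ι F) : Matrix ι ι F) *ᵥ bv hf hD q) (bv hf hD i) = 0 := by
  obtain ⟨r, hr, hrk, hrd, hrx⟩ := exists_tor_pair hf hD hpq hz
  have hrM : r ∈ M := mem_of_keeps hf hD hH hr hrk hrd
  obtain ⟨y, hy⟩ : ∃ y, y = g⁻¹ * r * g := ⟨_, rfl⟩
  have hyM : y ∈ M := hy ▸ M.mul_mem (M.mul_mem (M.inv_mem hg) hrM) hg
  have hgi : g⁻¹ ∈ isoU f := (isoU f).inv_mem (hM hg)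
  have hfg : ∀ x w, f ((g : Matrix ι ι F) *ᵥ x) w = f x (((g⁻¹ : GL ι F) : Matrix ι ι F) *ᵥ w) := fun x w => by
    conv_rhs => rw [← mem_isoU.1 (hM hg), gl_mulVec_inv]
  have hyx : ∀ x, (y : Matrix ι ι F) *ᵥ x = x +
      (((z : F) - 1) * f x (((g⁻¹ : GL ι F) : Matrix ι ι F) *ᵥ bv hf hD p)) •
        (((g⁻¹ : GL ι F) : Matrix ι ι F) *ᵥ bv hf hD p) +
      ((((z⁻¹ : Fˣ) : F) - 1) * f x (((g⁻¹ : GL ι F) : Matrix ι ι F) *ᵥ bv hf hD q)) •
        (((g⁻¹ : GL ι F) : Matrix ι ι F) *ᵥ bv hf hD q) := fun x => by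
    rw [hy, gl_mul_mulVec, gl_mul_mulVec, hrx, mulVec_add, mulVec_add, mulVec_smul, mulVec_smul, gl_inv_mulVec,
      hfg, hfg]
  have hyl : (y : Matrix ι ι F) *ᵥ bv hf hD l = bv hf hD l := by
    rw [hyx, ← hfg, ← hfg, hp, hq, mul_zero, mul_zero, zero_smul, zero_smul, add_zero, add_zero]
  by_cases hys : y ∈ decompositionStabilizer D
  · exact Or.inr (plane_or_coord hf hD (by rw [mem_isoU.1 hgi, bv_norm hf hD]) (by rw [mem_isoU.1 hgi, bv_norm hf hD])
      (by rw [mem_isoU.1 hgi, bv_orth hf hD hpq]) hz hz1 hz2 hz3 hys hyx)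
  · exact Or.inl ⟨y, hyM, hys, l, l, by rw [hyl]; exact bv_mem hf hD l⟩

theorem lineCol_of_coord {g : GL ι F} (hg : g ∈ M) (hgs : g ∉ decompositionStabilizer D) {p : Fin t}
    (h : Coord D (((g⁻¹ : GL ι F) : Matrix ι ι F) *ᵥ bv hf hD p)) : HasLineCol hf hD M :=
  ⟨g⁻¹, M.inv_mem hg, fun h' => hgs (inv_inv g ▸ (decompositionStabilizer D).inv_mem h'), p, h⟩

/-- two zeros in a column are enough -/
theorem lineCol_of_two (ht : 5 ≤ t) (h4 : 4 < Fintype.card F) {g : GL ι F} (hg : g ∈ M)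
    (hgs : g ∉ decompositionStabilizer D) {l p q : Fin t} (hpq : p ≠ q)
    (hp : f ((g : Matrix ι ι F) *ᵥ bv hf hD l) (bv hf hD p) = 0)
    (hq : f ((g : Matrix ι ι F) *ᵥ bv hf hD l) (bv hf hD q) = 0) : HasLineCol hf hD M := by
  classical
  obtain ⟨z, hz, hz1, hz2, hz3⟩ := exists_cubic hf h4
  rcases tor_step hf hD hM hH hg hpq hp hq hz hz1 hz2 hz3 with h | h | ⟨a, b, hab, hsupp⟩
  · exact h
  · exact lineCol_of_coord hf hD hM hH hg hgs h
  -- the inverse has a column with three zeros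
  have hgs' : g⁻¹ ∉ decompositionStabilizer D := fun h' => hgs (inv_inv g ▸ (decompositionStabilizer D).inv_mem h')
  obtain ⟨r, -, hr⟩ := Finset.exists_mem_notMem_of_card_lt_card (s := {a, b}) (t := (Finset.univ : Finset (Fin t)))
    (lt_of_le_of_lt Finset.card_le_two (by simp; omega))
  obtain ⟨s, -, hs⟩ := Finset.exists_mem_notMem_of_card_lt_card (s := {a, b, r}) (t := (Finset.univ : Finset (Fin t)))
    (lt_of_le_of_lt Finset.card_le_three (by simp; omega))
  obtain ⟨w, -, hw⟩ := Finset.exists_mem_notMem_of_card_lt_card (s := {a, b, r, s})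
    (t := (Finset.univ : Finset (Fin t))) (lt_of_le_of_lt Finset.card_le_four (by simp; omega))
  simp only [Finset.mem_insert, Finset.mem_singleton, not_or] at hr hs hw
  have hzero : ∀ i, i ≠ a → i ≠ b → f (((g⁻¹ : GL ι F) : Matrix ι ι F) *ᵥ bv hf hD p) (bv hf hD i) = 0 :=
    fun i h1 h2 => (hsupp i h1 h2).1
  have hpair : ∀ r s, r ≠ s → r ≠ a → r ≠ b → s ≠ a → s ≠ b → HasLineCol hf hD M ∨
      Coord D ((g : Matrix ι ι F) *ᵥ bv hf hD r) ∨ ∃ a b, a ≠ b ∧ ∀ i, i ≠ a → i ≠ b →
        f ((g : Matrix ι ι F) *ᵥ bv hf hD r) (bv hf hD i) = 0 ∧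
        f ((g : Matrix ι ι F) *ᵥ bv hf hD s) (bv hf hD i) = 0 := by
    intro r s hrs hra hrb hsa hsb
    simpa only [inv_inv] using tor_step hf hD hM hH (M.inv_mem hg) hrs (hzero r hra hrb) (hzero s hsa hsb) hz hz1 hz2 hz3
  have hcol : ∀ m, Coord D ((g : Matrix ι ι F) *ᵥ bv hf hD m) → HasLineCol hf hD M := fun m h =>
    ⟨g, hg, hgs, m, h⟩
  rcases hpair r s (Ne.symm hs.2.2) hr.1 hr.2 hs.1 hs.2.1 with h | h | ⟨a₁, b₁, h₁, h₁'⟩
  · exact h
  · exact hcol r h
  rcases hpair r w (Ne.symm hw.2.2.1) hr.1 hr.2 hw.1 hw.2.1 with h | h | ⟨a₂, b₂, h₂, h₂'⟩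
  · exact h
  · exact hcol r h
  by_cases hsame : (a₂ = a₁ ∨ a₂ = b₁) ∧ (b₂ = a₁ ∨ b₂ = b₁)
  · -- three orthogonal columns in a plane
    exfalso
    have hset : ∀ i, i ≠ a₁ → i ≠ b₁ → i ≠ a₂ ∧ i ≠ b₂ := fun i h1 h2 => by
      rcases hsame with ⟨e1 | e1, e2 | e2⟩ <;> rw [e1, e2] <;> exact ⟨by assumption, by assumption⟩
    let P : Submodule F (ι → F) := Submodule.span F {bv hf hD a₁, bv hf hD b₁}
    have hin : ∀ m, (m = r ∨ m = s ∨ m = w) → (g : Matrix ι ι F) *ᵥ bv hf hD m ∈ P := by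
      intro m hm
      have hz : ∀ i, i ≠ a₁ → i ≠ b₁ → f ((g : Matrix ι ι F) *ᵥ bv hf hD m) (bv hf hD i) = 0 := fun i h1 h2 => by
        rcases hm with rfl | rfl | rfl
        · exact (h₁' i h1 h2).1
        · exact (h₁' i h1 h2).2
        · exact (h₂' i (hset i h1 h2).1 (hset i h1 h2).2).2
      rw [← sum_line hf hD ((g : Matrix ι ι F) *ᵥ bv hf hD m)]
      refine Submodule.sum_mem _ fun i _ => ?_
      by_cases h1 : i = a₁
      · exact P.smul_mem _ (Submodule.subset_span (by simp [h1]))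
      by_cases h2 : i = b₁
      · exact P.smul_mem _ (Submodule.subset_span (by simp [h2]))
      rw [hz i h1 h2, zero_smul]
      exact P.zero_mem
    let v : Fin 3 → P := ![⟨_, hin r (Or.inl rfl)⟩, ⟨_, hin s (Or.inr (Or.inl rfl))⟩, ⟨_, hin w (Or.inr (Or.inr rfl))⟩]
    have hind : LinearIndependent F v := by
      rw [Fintype.linearIndependent_iff]
      intro x hx
      have h1 := congrArg Subtype.val hx
      simp only [Fin.sum_univ_three, v, Submodule.coe_add, SetLike.val_smul, Matrix.cons_val_zero,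
        Matrix.cons_val_one, Matrix.cons_val_two, Matrix.head_cons, Matrix.tail_cons, ZeroMemClass.coe_zero] at h1
      rw [← mulVec_smul, ← mulVec_smul, ← mulVec_smul, ← mulVec_add, ← mulVec_add, gl_mulVec_eq_zero] at h1
      have er := congrArg (fun v => f v (bv hf hD r)) h1
      have es := congrArg (fun v => f v (bv hf hD s)) h1
      have ew := congrArg (fun v => f v (bv hf hD w)) h1
      simp only [hf.add_left, hf.smul_left, bv_norm hf hD, bv_orth hf hD hs.2.2, bv_orth hf hD (Ne.symm hs.2.2),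
        bv_orth hf hD hw.2.2.1, bv_orth hf hD (Ne.symm hw.2.2.1), bv_orth hf hD hw.2.2.2,
        bv_orth hf hD (Ne.symm hw.2.2.2), herm_zero_left hf, mul_zero, mul_one, add_zero, zero_add] at er es ew
      intro i
      fin_cases i <;> assumption
    have h3 := hind.fintype_card_le_finrank
    have h2 : Module.finrank F P ≤ 2 := by
      refine (finrank_span_le_card _).trans ?_
      rw [Set.toFinset_insert, Set.toFinset_singleton]
      exact Finset.card_le_two
    simp at h3
    omega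
  · -- one common line
    refine hcol r (coord_of hf hD (m := if a₁ = a₂ ∨ a₁ = b₂ then a₁ else b₁) fun i hi => ?_)
    by_cases h1 : i ≠ a₁ ∧ i ≠ b₁
    · exact (h₁' i h1.1 h1.2).1
    by_cases h2 : i ≠ a₂ ∧ i ≠ b₂
    · exact (h₂' i h2.1 h2.2).1
    exfalso
    simp only [not_and_or, not_not] at h1 h2 hsame
    split_ifs at hi with hc
    · rcases h1 with e | e
      · exact hi e
      · subst e
        rcases hc with e' | e' <;> rcases h2 with e'' | e'' <;> subst_vars <;> simp_all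
    · push Not at hc
      rcases h1 with e | e
      · subst e
        rcases h2 with e'' | e''
        · exact hc.1 e''
        · exact hc.2 e''
      · exact hi e

end CfsgLib.Perm.Trans.Unit.Dec
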