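import Cfsg.Agent.Lib.Perm.Trans.UnitDecomp.Escape

/-!
# Leaving the stabiliser of a frame of nine lines over 64 elements

Nine norms in seven non-zero values: an equal pair takes the place of a four-term vanishing sum.
-/

set_option autoImplicit false
set_option linter.all false

namespace CfsgLib.Perm.Trans.Unit.Dec

open scoped Matrix
open Matrix Cfsg.Geo CfsgLib.Perm.Asch CfsgLib.Perm.Trans CfsgLib.Perm.Trans.Unit

variable {ι : Type} [Fintype ι] [DecidableEq ι] {F : Type*} [Field F] [Fintype F]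
variable {σ : F ≃+* F} {f : (ι → F) → (ι → F) → F} (hf : IsUnitaryForm σ f)
variable {D : Fin 9 → Submodule F (ι → F)} (hD : IsNondegenerateMDecomposition f 1 D)
variable {M : Subgroup (GL ι F)} (hM : M ≤ isoU f) (hH : decompositionStabilizer D ⊓ (isoU f ⊓ specialLinear ι F) ≤ M)
include hf hD hM hH

/-- sixty-four elements: a non-stabilising element gives a line column -/
theorem lineCol_eight (h2 : (2 : F) = 0) (h64 : Fintype.card F = 8 ^ 2) {g : GL ι F} (hg : g ∈ M)
    (hgs : g ∉ decompositionStabilizer D) : HasLineCol hf hD M := by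
  classical
  obtain ⟨q, hq, hFq, hfix, hcirc⟩ := exists_sizes hf
  obtain rfl : q = 8 := Nat.pow_left_injective two_ne_zero (hFq.symm.trans h64)
  have h4 : 4 < Fintype.card F := by rw [h64]; norm_num
  have hneg : (1 : F) = -1 := by linear_combination h2
  have hσ1 : σ (1 : F) = -1 := by rw [map_one]; exact hneg
  obtain ⟨a, b, hab, u, hu, hwide⟩ := exists_wide hf hD (by omega) (hM hg) hgs (Or.inl (by omega))
  obtain ⟨d, hd⟩ : ∃ d, d = bv hf hD a + (u : F) • bv hf hD b := ⟨_, rfl⟩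
  have hu' : (u : F) * σ u = 1 := hu
  have hdd : f d d = 0 := by
    rw [hd, hf.add_left, herm_add_right hf, herm_add_right hf, hf.smul_left, hf.smul_left, herm_smul_right hf,
      herm_smul_right hf, bv_norm hf hD, bv_norm hf hD, bv_orth hf hD hab, bv_orth hf hD hab.symm]
    linear_combination hu' + h2
  have htv : ∀ e (he : f e e = 0) x, (tv e ((1 : F) • hv hf e) (utv_orth hf he 1) : Matrix ι ι F) *ᵥ x =
      x + f x e • e := fun e he x => by rw [tv_mulVec, smul_dotProduct, hv_dot, one_smul]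
  obtain ⟨e, he⟩ : ∃ e, e = (g : Matrix ι ι F) *ᵥ d := ⟨_, rfl⟩
  have hee : f e e = 0 := by rw [he, mem_isoU.1 (hM hg), hdd]
  have hTd : tv d ((1 : F) • hv hf d) (utv_orth hf hdd 1) ∈ M := by
    refine hH ⟨stab_of_cols hf hD fun m => ?_, mem_isoU.2 (utv_isometry hf d hdd hσ1 _), tv_mem_SL _ _ _⟩
    by_cases hma : m = a
    · subst hma
      refine ⟨b, ?_⟩
      rw [htv d hdd, hd, herm_add_right hf, herm_smul_right hf, bv_norm hf hD, bv_orth hf hD hab, mul_zero, add_zero,
        one_smul, ← add_assoc, show bv hf hD m + bv hf hD m = (2 : F) • bv hf hD m from (two_smul F _).symm, h2,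
        zero_smul, zero_add]
      exact (D b).smul_mem _ (bv_mem hf hD b)
    by_cases hmb : m = b
    · subst hmb
      refine ⟨a, ?_⟩
      rw [htv d hdd, hd, herm_add_right hf, herm_smul_right hf, bv_norm hf hD, bv_orth hf hD hab.symm, zero_add,
        mul_one, show bv hf hD m + σ (u : F) • (bv hf hD a + (u : F) • bv hf hD m) =
          σ (u : F) • bv hf hD a + (1 + (u : F) * σ (u : F)) • bv hf hD m by module, hu',
        show (1 : F) + 1 = 0 by linear_combination h2, zero_smul, add_zero]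
      exact (D a).smul_mem _ (bv_mem hf hD a)
    refine ⟨m, ?_⟩
    rw [htv d hdd, hd, herm_add_right hf, herm_smul_right hf, bv_orth hf hD hma, bv_orth hf hD hmb, mul_zero,
      add_zero, zero_smul, add_zero]
    exact bv_mem hf hD m
  have hTe : tv e ((1 : F) • hv hf e) (utv_orth hf hee 1) ∈ M := by
    have h1 := M.mul_mem (M.mul_mem hg hTd) (M.inv_mem hg)
    rwa [show g * tv d ((1 : F) • hv hf d) (utv_orth hf hdd 1) * g⁻¹ = tv e ((1 : F) • hv hf e) (utv_orth hf hee 1) from
      gl_ext_vec fun x => by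
        rw [gl_mul_mulVec, gl_mul_mulVec, htv d hdd, htv e hee, mulVec_add, mulVec_smul, gl_mulVec_inv, he,
          adjoint_col hf hD hM (M.inv_mem hg) x d, inv_inv] ] at h1
  rw [show (g : Matrix ι ι F) *ᵥ bv hf hD a + (u : F) • ((g : Matrix ι ι F) *ᵥ bv hf hD b) = e by
    rw [he, hd, mulVec_add, mulVec_smul]] at hwide
  by_cases hfull : ∃ r, f e (bv hf hD r) = 0
  · obtain ⟨r, hr⟩ := hfull
    refine ⟨_, hTe, fun hst => ?_, r, r, ?_⟩
    · obtain ⟨i, hi⟩ := Finset.card_pos.1 (show 0 < (lsupp hf hD e).card by omega)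
      obtain ⟨π, hπ⟩ := stab_maps hst
      obtain ⟨i₁, hi₁, hi₁'⟩ := Finset.exists_mem_notMem_of_card_lt_card (s := {i, π i}) (t := lsupp hf hD e)
        (lt_of_le_of_lt Finset.card_le_two (by omega))
      simp only [Finset.mem_insert, Finset.mem_singleton, not_or] at hi₁'
      have h := coord_zero_off hf hD (hπ i _ (bv_mem hf hD i)) hi₁'.2
      rw [htv e hee, hf.add_left, hf.smul_left, bv_orth hf hD (Ne.symm hi₁'.1), zero_add, mul_eq_zero] at h
      rcases h with h | h
      · exact (mem_lsupp hf hD).1 hi (herm_swap_zero hf h)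
      · exact (mem_lsupp hf hD).1 hi₁ h
    · rw [htv e hee, herm_swap_zero hf hr, zero_smul, add_zero]
      exact bv_mem hf hD r
  push Not at hfull
  obtain ⟨N, hN⟩ : ∃ N : Fin 9 → F, N = fun i => f e (bv hf hD i) * σ (f e (bv hf hD i)) := ⟨_, rfl⟩
  have hN0 : ∀ i, N i ≠ 0 := fun i => by
    rw [hN]; exact mul_ne_zero (hfull i) (by simpa using hfull i)
  obtain ⟨s, hs1⟩ : ∃ s : Fin 9, N s ≠ 1 ∨ ∀ i, N i = 1 := by
    by_cases h : ∀ i, N i = 1
    · exact ⟨0, Or.inr h⟩
    · push Not at h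
      exact ⟨h.choose, Or.inl h.choose_spec⟩
  -- two equal norms beside `s`
  obtain ⟨za, hzas, zb, hzbs, hzab, hNab⟩ : ∃ za, za ≠ s ∧ ∃ zb, zb ≠ s ∧ za ≠ zb ∧ N za = N zb := by
    let φ : {i : Fin 9 // i ≠ s} → {x : {x : F // σ x = x} // (x : F) ≠ 0} := fun i =>
      ⟨⟨N i, by rw [hN]; simp only; rw [map_mul, hf.involutive, mul_comm]⟩, hN0 i⟩
    have hlt : Fintype.card {x : {x : F // σ x = x} // (x : F) ≠ 0} < Fintype.card {i : Fin 9 // i ≠ s} := by
      have h1 : Fintype.card {x : {x : F // σ x = x} // (x : F) ≠ 0} + 1 ≤ 8 := by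
        rw [← hfix, Nat.card_eq_fintype_card]
        exact Fintype.card_lt_of_injective_of_notMem _ Subtype.val_injective (b := ⟨0, map_zero σ⟩)
          (by rintro ⟨⟨x, hx⟩, h⟩; exact hx (congrArg Subtype.val h))
      have h2' : Fintype.card {i : Fin 9 // i ≠ s} = 9 - 1 := by
        rw [Fintype.card_subtype_compl, Fintype.card_fin, Fintype.card_subtype_eq]
      omega
    obtain ⟨i, j, hij, h⟩ := Fintype.exists_ne_map_eq_of_card_lt φ hlt
    exact ⟨i, i.2, j, j.2, fun e => hij (Subtype.ext e),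
      congrArg (fun x : {x : {x : F // σ x = x} // (x : F) ≠ 0} => (x.1 : F)) h⟩
  obtain ⟨r, -, hr⟩ := Finset.exists_mem_notMem_of_card_lt_card (s := {za, zb, s})
    (t := (Finset.univ : Finset (Fin 9))) (lt_of_le_of_lt Finset.card_le_three (by simp))
  obtain ⟨r', -, hr'⟩ := Finset.exists_mem_notMem_of_card_lt_card (s := {r, za, zb, s})
    (t := (Finset.univ : Finset (Fin 9))) (lt_of_le_of_lt Finset.card_le_four (by simp))
  simp only [Finset.mem_insert, Finset.mem_singleton, not_or] at hr hr'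
  obtain ⟨hra, hrb, hrs⟩ := hr
  obtain ⟨hr'r, hr'a, hr'b, hr's⟩ := hr'
  have hrr' : r ≠ r' := Ne.symm hr'r
  obtain ⟨μ, hμ, hμ1⟩ := exists_circ_notMem (σ := σ) (s := {1, (N r + N r' - 1) / (1 - N s)})
    (lt_of_le_of_lt Finset.card_le_two (by omega))
  simp only [Finset.mem_insert, Finset.mem_singleton, not_or] at hμ1
  obtain ⟨hμ1, hμT⟩ := hμ1
  -- two more indices for the determinant
  obtain ⟨Z, hZ⟩ : ∃ Z : Finset (Fin 9), Z = {za, zb} := ⟨_, rfl⟩
  have hZc : Z.card = 2 := by rw [hZ, Finset.card_pair hzab]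
  obtain ⟨R, hR⟩ : ∃ R, R = (({r, r', s} : Finset (Fin 9)) ∪ Z)ᶜ := ⟨_, rfl⟩
  have hdisj : Disjoint ({r, r', s} : Finset (Fin 9)) Z := by
    rw [hZ]
    simp [Finset.disjoint_left, hra, hrb, hr'a, hr'b, Ne.symm hzas, Ne.symm hzbs]
  have hRc : 3 ≤ R.card := by
    rw [hR, Finset.card_compl, Fintype.card_fin, Finset.card_union_of_disjoint hdisj, hZc,
      Finset.card_insert_of_notMem (by simp [hrr', hrs]), Finset.card_insert_of_notMem (by simp [hr's]),
      Finset.card_singleton]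
    omega
  have hsZ : ∑ i ∈ Z, N i = 0 := by
    rw [hZ, Finset.sum_pair hzab, hNab]
    linear_combination N zb * h2
  obtain ⟨T, hT⟩ : ∃ T, T = 1 + (μ : F) - (N r + N r' + (μ : F) * N s) := ⟨_, rfl⟩
  obtain ⟨eR, heR, hsR⟩ : ∃ e : Fin 9 → Fˣ, (∀ i, e i ∈ circ σ) ∧ ∑ i ∈ R, N i * (e i : F) = T := by
    have hT0 : T ≠ 0 := fun h => by
      rw [hT] at h
      rcases hs1 with hs | hs
      · refine hμT ?_
        rw [eq_div_iff (sub_ne_zero.2 (Ne.symm hs))]
        linear_combination h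
      · rw [hs, hs, hs] at h
        exact one_ne_zero (α := F) (by linear_combination -h)
    obtain ⟨e, he, hse⟩ := exists_zero_sum hf (Finset.insertNone R) (by rw [Finset.card_insertNone]; omega)
      (fun o => o.elim (-T) N) (fun o _ => by cases o <;> simp [hT0, hN0])
    rw [Finset.sum_insertNone] at hse
    simp only [Option.elim] at hse
    refine ⟨fun i => e (some i) * (e none)⁻¹, fun i => (circ σ).mul_mem (he _) ((circ σ).inv_mem (he _)), ?_⟩
    have hne : ((e none : Fˣ) : F) ≠ 0 := Units.ne_zero _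
    rw [Finset.sum_congr rfl (g := fun i => N i * (e (some i) : F) * ((e none : Fˣ) : F)⁻¹) (fun i _ => by
      rw [Units.val_mul, Units.val_inv_eq_inv_val]; ring), ← Finset.sum_mul, ← div_eq_mul_inv, div_eq_iff hne]
    linear_combination hse
  obtain ⟨P, hP⟩ : ∃ P, P = (∏ i ∈ R, eR i) * μ := ⟨_, rfl⟩
  have hPc : P ∈ circ σ := hP ▸ (circ σ).mul_mem ((circ σ).prod_mem fun i _ => heR i) hμ
  obtain ⟨ν, hν, hν2⟩ : ∃ ν ∈ circ σ, ν ^ 2 * P = 1 := by
    have hcop : Nat.Coprime (Nat.card (circ σ)) 2 := by rw [hcirc]; decide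
    refine ⟨(((powCoprime hcop).symm ⟨P⁻¹, (circ σ).inv_mem hPc⟩ : circ σ) : Fˣ), SetLike.coe_mem _, ?_⟩
    have h := congrArg Subtype.val ((powCoprime hcop).apply_symm_apply ⟨P⁻¹, (circ σ).inv_mem hPc⟩)
    rw [powCoprime_apply, SubgroupClass.coe_pow] at h
    rw [h]
    exact inv_mul_cancel P
  obtain ⟨E, hE⟩ : ∃ E : Fin 9 → Fˣ, E = fun i =>
      if i = r ∨ i = r' then 1 else if i = s then μ else if i ∈ Z then ν else eR i := ⟨_, rfl⟩
  have hEc : ∀ i, E i ∈ circ σ := fun i => by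
    rw [hE]
    dsimp only
    split_ifs
    · exact (circ σ).one_mem
    · exact hμ
    · exact hν
    · exact heR i
  have hEr : E r = 1 := by simp [hE]
  have hEr' : E r' = 1 := by simp [hE]
  have hEs : E s = μ := by simp [hE, Ne.symm hrs, Ne.symm hr's]
  have hEZ : ∀ i ∈ Z, E i = ν := fun i hi => by
    have := Finset.disjoint_right.1 hdisj hi
    simp only [Finset.mem_insert, Finset.mem_singleton, not_or] at this
    simp [hE, this.1, this.2.1, this.2.2, hi]
  have hER : ∀ i ∈ R, E i = eR i := fun i hi => by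
    rw [hR, Finset.mem_compl, Finset.mem_union, not_or] at hi
    simp only [Finset.mem_insert, Finset.mem_singleton, not_or] at hi
    simp [hE, hi.1.1, hi.1.2.1, hi.1.2.2, hi.2]
  obtain ⟨w, hw, hwk, hwd, hwb, hwc⟩ := exists_tor hf hD E hEc
  have hwM : w ∈ M := mem_of_keeps hf hD hH hw hwk (by
    rw [hwd, ← Units.coe_prod, ← Finset.prod_mul_prod_compl (({r, r', s} : Finset (Fin 9)) ∪ Z), ← hR,
      Finset.prod_union hdisj, Finset.prod_insert (by simp [hrr', hrs]), Finset.prod_insert (by simp [hr's]),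
      Finset.prod_singleton, hEr, hEr', hEs, one_mul, one_mul, Finset.prod_congr rfl hEZ, Finset.prod_congr rfl hER,
      Finset.prod_const, hZc, ← Units.val_one, ← hν2, hP]
    congr 1
    ac_rfl)
  obtain ⟨e', he'⟩ : ∃ e', e' = (w : Matrix ι ι F) *ᵥ e := ⟨_, rfl⟩
  have he'e' : f e' e' = 0 := by rw [he', mem_isoU.1 hw, hee]
  have hTe' : tv e' ((1 : F) • hv hf e') (utv_orth hf he'e' 1) ∈ M := by
    have h1 := M.mul_mem (M.mul_mem hwM hTe) (M.inv_mem hwM)
    rwa [show w * tv e ((1 : F) • hv hf e) (utv_orth hf hee 1) * w⁻¹ =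
      tv e' ((1 : F) • hv hf e') (utv_orth hf he'e' 1) from gl_ext_vec fun x => by
        rw [gl_mul_mulVec, gl_mul_mulVec, htv e hee, htv e' he'e', mulVec_add, mulVec_smul, gl_mulVec_inv, he',
          adjoint_col hf hD hM (M.inv_mem hwM) x e, inv_inv] ] at h1
  obtain ⟨c, hc⟩ : ∃ c, c = f e e' := ⟨_, rfl⟩
  have hcval : σ c = 1 + (μ : F) := by
    rw [hc, ← hf.herm, form_line hf hD e' e]
    rw [Finset.sum_congr rfl (g := fun i => N i * (E i : F)) (fun i _ => by rw [he', hwc, hN]; ring),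
      ← Finset.sum_add_sum_compl (({r, r', s} : Finset (Fin 9)) ∪ Z), ← hR, Finset.sum_union hdisj,
      Finset.sum_insert (by simp [hrr', hrs]), Finset.sum_insert (by simp [hr's]), Finset.sum_singleton, hEr, hEr',
      hEs, Units.val_one, Finset.sum_congr rfl (g := fun i => (ν : F) * N i) (fun i hi => by
        rw [hEZ i hi]; ring), ← Finset.mul_sum, hsZ, mul_zero,
      Finset.sum_congr rfl (g := fun i => N i * (eR i : F)) (fun i hi => by rw [hER i hi]), hsR, hT]
    ring
  obtain ⟨y, hy⟩ : ∃ y, y = tv e' ((1 : F) • hv hf e') (utv_orth hf he'e' 1) *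
      tv e ((1 : F) • hv hf e) (utv_orth hf hee 1) := ⟨_, rfl⟩
  have hyM : y ∈ M := hy ▸ M.mul_mem hTe' hTe
  have hyx : ∀ x, (y : Matrix ι ι F) *ᵥ x = x + f x e • e + (f x e' + f x e * c) • e' := fun x => by
    rw [hy, gl_mul_mulVec, htv e hee, htv e' he'e', hf.add_left, hf.smul_left, hc]
  have hcs : c = 1 + σ (μ : F) := by rw [← hf.involutive c, hcval, map_add, map_one]
  have hzero : ∀ i, E i = 1 → i ≠ s → f ((y : Matrix ι ι F) *ᵥ bv hf hD s) (bv hf hD i) = 0 := by
    intro i hi his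
    rw [hyx, hf.add_left, hf.add_left, hf.smul_left, hf.smul_left, bv_orth hf hD his.symm, hf.herm (bv hf hD s) e',
      hf.herm (bv hf hD s) e, he', hwc, hwc, hEs, hi, Units.val_one, one_mul, map_mul, hcs]
    linear_combination (σ (f e (bv hf hD s)) * f e (bv hf hD i) * (1 + σ (μ : F))) * h2
  refine lineCol_of_two hf hD hM hH (by omega) h4 hyM (fun hys => ?_) hrr' (hzero r hEr hrs) (hzero r' hEr' hr's)
  have hind : e' ∉ Submodule.span F {e} := fun hm => by
    obtain ⟨k', hk⟩ := Submodule.mem_span_singleton.1 hm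
    have e1 := congrArg (fun v => f v (bv hf hD r)) hk
    have e2 := congrArg (fun v => f v (bv hf hD s)) hk
    simp only [hf.smul_left, he', hwc, hEr, hEs, Units.val_one] at e1 e2
    rw [mul_right_cancel₀ (hfull r) e1] at e2
    exact hμ1 (mul_right_cancel₀ (hfull s) e2).symm
  have he0 : e ≠ 0 := fun h => hfull r (by rw [h, herm_zero_left hf])
  obtain ⟨x, -, hxe, hxe'⟩ := exists_values hf (isNondegenerateOn_top hf) (Submodule.mem_top : e ∈ ⊤)
    (Submodule.mem_top : e' ∈ ⊤) he0 hind 1 (-c)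
  obtain ⟨S, hS, hSz⟩ := mono_support hf hD hys (U := Submodule.span F {e, e'}) (fun x => by
      rw [hyx, Submodule.mem_span_pair]
      exact ⟨_, _, by abel⟩) (by
      refine (finrank_span_le_card _).trans ?_
      rw [Set.toFinset_insert, Set.toFinset_singleton]
      exact Finset.card_le_two)
  obtain ⟨o, -, ho⟩ := Finset.exists_mem_notMem_of_card_lt_card (s := S) (t := (Finset.univ : Finset (Fin 9)))
    (by simp; omega)
  have h := hSz x o ho
  rw [hyx, hxe, hxe', one_mul, neg_add_cancel, zero_smul, add_zero, one_smul, add_sub_cancel_left] at h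
  exact hfull o h

end CfsgLib.Perm.Trans.Unit.Dec
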