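import Cfsg.Agent.Lib.Perm.Trans.UnitDecomp.SixSmall

/-!
# Frames of nine lines over the fields with 25 and 289 elements
-/

set_option autoImplicit false
set_option linter.all false
set_option synthInstance.maxSize 4000
set_option synthInstance.maxHeartbeats 200000

namespace CfsgLib.Perm.Trans.Unit.Dec

open scoped Matrix
open Matrix Cfsg.Geo CfsgLib.Perm.Asch CfsgLib.Perm.Trans CfsgLib.Perm.Trans.Unit

variable {ι : Type} [Fintype ι] [DecidableEq ι] {F : Type*} [Field F] [Fintype F]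

/-- powers of a root of a quadratic with constant term one -/
theorem pow_mul_cheb {w : F} {τ : ℤ} (h : w ^ 2 = (τ : F) * w - 1) (k : ℕ) :
    w ^ k * w = (cheb τ (k + 1) : F) * w - (cheb τ k : F) := by
  induction k with
  | zero => simp [cheb]
  | succ k ih =>
    rw [show cheb τ (k + 1 + 1) = τ * cheb τ (k + 1) - cheb τ k from rfl]
    push_cast
    linear_combination w * ih + (cheb τ (k + 1) : F) * h

/-- weighted sums of powers vanish by two congruences -/
theorem sum_cheb_zero {q : ℕ} (hchar : CharP F q) {κ : Type} [Fintype κ] {w : F} {τ : ℤ} (h : w ^ 2 = (τ : F) * w - 1)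
    (hw : w ≠ 0) (c : κ → ℤ) (e : κ → ℕ) (h1 : (∑ k, c k * cheb τ (e k + 1)) % (q : ℤ) = 0)
    (h0 : (∑ k, c k * cheb τ (e k)) % (q : ℤ) = 0) : ∑ k, (c k : F) * w ^ e k = 0 := by
  have h1' := (CharP.intCast_eq_zero_iff F q _).2 (Int.dvd_of_emod_eq_zero h1)
  have h0' := (CharP.intCast_eq_zero_iff F q _).2 (Int.dvd_of_emod_eq_zero h0)
  push_cast at h1' h0'
  refine (mul_eq_zero.1 (?_ : (∑ k, (c k : F) * w ^ e k) * w = 0)).resolve_right hw
  rw [Finset.sum_mul, Finset.sum_congr rfl (g := fun k => (c k : F) * (cheb τ (e k + 1) : F) * w -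
    (c k : F) * (cheb τ (e k) : F)) (fun k _ => by rw [mul_assoc, pow_mul_cheb h]; ring),
    Finset.sum_sub_distrib, ← Finset.sum_mul, h1', h0', zero_mul, sub_zero]

theorem sum_fin_nine {α : Type*} [AddCommMonoid α] (a : Fin 9 → α) :
    ∑ k, a k = a 0 + a 1 + a 2 + a 3 + a 4 + a 5 + a 6 + a 7 + a 8 := by
  simp only [Fin.sum_univ_castSucc, Fin.sum_univ_zero, zero_add]
  rfl

/-- the sorted list of nine row norms over 25 elements -/
theorem multiset_nine_five : ∀ a b : Fin 4, a ≤ b → (a = b → a = 3) → ∀ c : Fin 4, b ≤ c → (b = c → b = 3) →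
    ∀ d : Fin 4, c ≤ d → (c = d → c = 3) → ∀ e : Fin 4, d ≤ e → (d = e → d = 3) →
    ∀ f : Fin 4, e ≤ f → (e = f → e = 3) → ∀ g : Fin 4, f ≤ g → (f = g → f = 3) →
    ∀ h : Fin 4, g ≤ h → (g = h → g = 3) → ∀ i : Fin 4, h ≤ i → (h = i → h = 3) →
      (![1, 2, 4, 3] a + ![1, 2, 4, 3] b + ![1, 2, 4, 3] c + ![1, 2, 4, 3] d + ![1, 2, 4, 3] e +
          ![1, 2, 4, 3] f + ![1, 2, 4, 3] g + ![1, 2, 4, 3] h + ![1, 2, 4, 3] i : ℕ) % 5 = 1 →
      (![a, b, c, d, e, f, g, h, i] = ![1, 3, 3, 3, 3, 3, 3, 3, 3] ∨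
        ![a, b, c, d, e, f, g, h, i] = ![0, 2, 3, 3, 3, 3, 3, 3, 3]) := by
  decide

/-- the sorted list of nine row norms over 289 elements -/
theorem multiset_nine_seventeen : ∀ a b : Fin 5, a ≤ b → (a = b → 3 ≤ a) → ∀ c : Fin 5, b ≤ c → (b = c → 3 ≤ b) →
    ∀ d : Fin 5, c ≤ d → (c = d → 3 ≤ c) → ∀ e : Fin 5, d ≤ e → (d = e → 3 ≤ d) →
    ∀ f : Fin 5, e ≤ f → (e = f → 3 ≤ e) → ∀ g : Fin 5, f ≤ g → (f = g → 3 ≤ f) →
    ∀ h : Fin 5, g ≤ h → (g = h → 3 ≤ g) → ∀ i : Fin 5, h ≤ i → (h = i → 3 ≤ h) →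
      (![1, 8, 13, 4, 15] a + ![1, 8, 13, 4, 15] b + ![1, 8, 13, 4, 15] c + ![1, 8, 13, 4, 15] d +
          ![1, 8, 13, 4, 15] e + ![1, 8, 13, 4, 15] f + ![1, 8, 13, 4, 15] g + ![1, 8, 13, 4, 15] h +
          ![1, 8, 13, 4, 15] i : ℕ) % 17 = 1 →
      (![a, b, c, d, e, f, g, h, i] = ![3, 3, 3, 3, 3, 3, 4, 4, 4] ∨
        ![a, b, c, d, e, f, g, h, i] = ![0, 2, 3, 3, 3, 4, 4, 4, 4] ∨
        ![a, b, c, d, e, f, g, h, i] = ![0, 1, 3, 4, 4, 4, 4, 4, 4]) := by
  decide

variable {σ : F ≃+* F} {f : (ι → F) → (ι → F) → F} (hf : IsUnitaryForm σ f)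
variable {D : Fin 9 → Submodule F (ι → F)} (hD : IsNondegenerateMDecomposition f 1 D)
variable {M : Subgroup (GL ι F)} (hM : M ≤ isoU f) (hH : decompositionStabilizer D ⊓ (isoU f ⊓ specialLinear ι F) ≤ M)
variable {g : GL ι F} (hg : g ∈ M) (hgs : g ∉ decompositionStabilizer D) (hnz : AllEntries hf hD M)
include hf hD hM hH hg hgs hnz

/-- a vanishing sum of powers separating two equal norms -/
theorem false_of_config {q n : ℕ} (hchar : CharP F q) {w : Fˣ} (hw : w ∈ circ σ) (τ : ℤ)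
    (hw2 : (w : F) ^ 2 = (τ : F) * (w : F) - 1) (hwn : (w : F) ^ n = 1) (π : Equiv.Perm (Fin 9)) (v : Fin 9 → ℕ)
    (hv : ∀ k, rnorm hf hD g 0 (π k) = (v k : F)) (e : Fin 9 → ℕ) (a b : Fin 9) (hab : a ≠ b) (hvab : v a = v b)
    (hne : (w : F) ^ e a ≠ (w : F) ^ e b) (hdvd : n ∣ ∑ k, e k)
    (h1 : (∑ k, (v k : ℤ) * cheb τ (e k + 1)) % (q : ℤ) = 0) (h0 : (∑ k, (v k : ℤ) * cheb τ (e k)) % (q : ℤ) = 0) :
    False := by
  classical
  refine false_of_swap hf hD hM hH (by norm_num) hg hgs hnz (l := 0) (i := π a) (j := π b)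
    (fun h => hab (π.injective h)) (by rw [hv, hv, hvab]) (e := fun x => w ^ e (π.symm x))
    (fun x => (circ σ).pow_mem hw _) ?_ ?_ ?_
  · rw [← Equiv.prod_comp π]
    simp only [Equiv.symm_apply_apply, Units.val_pow_eq_pow_val]
    rw [Finset.prod_pow_eq_pow_sum]
    obtain ⟨d, hd⟩ := hdvd
    rw [hd, pow_mul, hwn, one_pow]
  · rw [← Equiv.sum_comp π]
    simp only [Equiv.symm_apply_apply, Units.val_pow_eq_pow_val, hv]
    simpa using sum_cheb_zero hchar hw2 w.ne_zero (fun k => (v k : ℤ)) e h1 h0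
  · intro h
    simp only [Equiv.symm_apply_apply] at h
    exact hne (by rw [← Units.val_pow_eq_pow_val, h, Units.val_pow_eq_pow_val])

/-- nine lines over 25 elements -/
theorem false_nine_five (hS : Nat.card {x : F // σ x = x} = 5) (hF : Fintype.card F = 5 ^ 2) {u : Fˣ} (hu : u ∈ circ σ)
    (huo : orderOf u = 6) : False := by
  classical
  obtain ⟨hchar, hcast⟩ := fixed_eq_cast hf Nat.prime_five hF hS
  have h5 : (5 : F) = 0 := by simpa using CharP.cast_eq_zero F 5
  have h6 : (u : F) ^ 6 = 1 := by rw [← Units.val_pow_eq_pow_val, ← huo, pow_orderOf_eq_one, Units.val_one]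
  have hne : ∀ i, 0 < i → i < 6 → (u : F) ^ i ≠ 1 := fun i h0 h1 h => by
    have := Nat.le_of_dvd h0 (orderOf_dvd_of_pow_eq_one (x := u) (n := i) (Units.ext (by simpa using h)))
    omega
  have hu3 : (u : F) ^ 3 = -1 := by
    have : ((u : F) ^ 3 - 1) * ((u : F) ^ 3 + 1) = 0 := by linear_combination h6
    exact eq_neg_of_add_eq_zero_left
      ((mul_eq_zero.1 this).resolve_left (sub_ne_zero.2 (hne 3 (by norm_num) (by norm_num))))
  have hu2 : (u : F) ^ 2 = (u : F) - 1 := by
    have h1 : ((u : F) + 1) * ((u : F) ^ 2 - u + 1) = 0 := by linear_combination hu3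
    have h2 : (u : F) + 1 ≠ 0 := fun h => hne 2 (by norm_num) (by norm_num) (by linear_combination ((u : F) - 1) * h)
    linear_combination (mul_eq_zero.1 h1).resolve_left h2
  have hσu : σ (u : F) = 1 - u := by
    have hu' : (u : F) * σ u = 1 := hu
    linear_combination σ (u : F) * hu2 + (1 - (u : F)) * hu'
  have hval : ∀ k, ∃ c : Fin 4, rnorm hf hD g 0 k = ((![1, 2, 4, 3] c : ℕ) : F) := fun k => by
    obtain ⟨n, hn, hnx⟩ := hcast _ (rnorm_fix hf hD g 0 k)
    interval_cases n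
    · exact absurd (by simpa using hnx.symm) (rnorm_ne_zero hf hD hM hg hgs hnz 0 k)
    · exact ⟨0, hnx.symm⟩
    · exact ⟨1, hnx.symm⟩
    · exact ⟨3, hnx.symm⟩
    · exact ⟨2, hnx.symm⟩
  choose code hcode using hval
  have hrep : ∀ i j, i ≠ j → code i = code j → code i = 3 := by
    intro i j hij he
    by_contra h3
    have hN : rnorm hf hD g 0 i = rnorm hf hD g 0 j := by rw [hcode, hcode, he]
    obtain ⟨c, hcdef⟩ : ∃ c, c = code i := ⟨_, rfl⟩
    have hi := hcode i
    rw [← hcdef] at hi h3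
    fin_cases c
    · refine false_of_pair hf hD hM hH (by norm_num) hg hgs hnz hij hN (u := u) hu
        (fun h => hne 1 (by norm_num) (by norm_num) (by rw [pow_one, h])) ?_
      rw [hi, hσu]
      simp
      ring
    · refine false_of_pair hf hD hM hH (by norm_num) hg hgs hnz hij hN (u := u ^ 2) ((circ σ).pow_mem hu 2)
        (by rw [Units.val_pow_eq_pow_val]; exact hne 2 (by norm_num) (by norm_num)) ?_
      rw [hi, Units.val_pow_eq_pow_val, hu2, map_sub, hσu, map_one]
      simp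
      linear_combination -h5
    · refine false_of_pair hf hD hM hH (by norm_num) hg hgs hnz hij hN (u := u ^ 3) ((circ σ).pow_mem hu 3)
        (by rw [Units.val_pow_eq_pow_val]; exact hne 3 (by norm_num) (by norm_num)) ?_
      rw [hi, Units.val_pow_eq_pow_val, hu3, map_neg, map_one]
      simp
      linear_combination -3 * h5
    · exact h3 rfl
  obtain ⟨π, hπdef⟩ : ∃ π, π = Tuple.sort code := ⟨_, rfl⟩
  have hmono : Monotone (code ∘ π) := hπdef ▸ Tuple.monotone_sort code
  have hadj : ∀ i j : Fin 9, i ≠ j → code (π i) = code (π j) → code (π i) = 3 := fun i j h =>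
    hrep _ _ (fun e => h (π.injective e))
  obtain ⟨c, hc'⟩ : ∃ c : Fin 9 → Fin 4, ∀ k, code (π k) = c k := ⟨fun k => code (π k), fun k => rfl⟩
  have hv : ∀ k, rnorm hf hD g 0 (π k) = ((![1, 2, 4, 3] (c k) : ℕ) : F) := fun k => by rw [hcode, hc']
  have hsum : (∑ k, ![1, 2, 4, 3] (c k) : ℕ) % 5 = 1 := by
    have h := rnorm_sum hf hD hM hg (l := (0 : Fin 9))
    rw [← Equiv.sum_comp π, Finset.sum_congr rfl (fun k _ => hv k), ← Nat.cast_sum, ← Nat.cast_one (R := F)] at h
    exact (CharP.natCast_eq_natCast F 5).1 h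
  rw [sum_fin_nine] at hsum
  simp only [← hc'] at hsum
  have hform := multiset_nine_five _ _ (hmono (show (0 : Fin 9) ≤ 1 by decide)) (hadj 0 1 (by decide))
    _ (hmono (show (1 : Fin 9) ≤ 2 by decide)) (hadj 1 2 (by decide))
    _ (hmono (show (2 : Fin 9) ≤ 3 by decide)) (hadj 2 3 (by decide))
    _ (hmono (show (3 : Fin 9) ≤ 4 by decide)) (hadj 3 4 (by decide))
    _ (hmono (show (4 : Fin 9) ≤ 5 by decide)) (hadj 4 5 (by decide))
    _ (hmono (show (5 : Fin 9) ≤ 6 by decide)) (hadj 5 6 (by decide))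
    _ (hmono (show (6 : Fin 9) ≤ 7 by decide)) (hadj 6 7 (by decide))
    _ (hmono (show (7 : Fin 9) ≤ 8 by decide)) (hadj 7 8 (by decide)) hsum
  simp only [Function.comp_apply, hc'] at hform
  have hcf : c = ![c 0, c 1, c 2, c 3, c 4, c 5, c 6, c 7, c 8] := funext fun k => by fin_cases k <;> rfl
  have hu01 : (u : F) ^ 0 ≠ (u : F) ^ 1 := by
    rw [pow_zero]
    exact (hne 1 (by norm_num) (by norm_num)).symm
  rcases hform with h | h <;> rw [← hcf] at h <;> subst h <;>
    exact false_of_config hf hD hM hH hg hgs hnz hchar hu 1 (by rw [hu2]; push_cast; ring) h6 π _ hv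
      ![0, 0, 0, 0, 0, 1, 1, 5, 5] 4 5 (by decide) rfl hu01 (by decide) (by decide) (by decide)

/-- nine lines over 289 elements -/
theorem false_nine_seventeen (hS : Nat.card {x : F // σ x = x} = 17) (hF : Fintype.card F = 17 ^ 2) {u : Fˣ}
    (hu : u ∈ circ σ) (huo : orderOf u = 18) : False := by
  classical
  obtain ⟨hchar, hcast⟩ := fixed_eq_cast hf (by norm_num) hF hS
  have h17 : (17 : F) = 0 := by simpa using CharP.cast_eq_zero F 17
  have hint : ∀ z : ℤ, z % 17 = 0 → (z : F) = 0 := fun z h =>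
    (CharP.intCast_eq_zero_iff F 17 z).2 (by exact_mod_cast Int.dvd_of_emod_eq_zero h)
  have h2 : (2 : F) ≠ 0 := fun h => absurd ((CharP.cast_eq_zero_iff F 17 2).1 (by exact_mod_cast h)) (by decide)
  have hu9 : (u : F) ^ 9 = -1 := by
    have h18 : (u : F) ^ 18 = 1 := by rw [← Units.val_pow_eq_pow_val, ← huo, pow_orderOf_eq_one, Units.val_one]
    have : ((u : F) ^ 9 - 1) * ((u : F) ^ 9 + 1) = 0 := by linear_combination h18
    refine eq_neg_of_add_eq_zero_left ((mul_eq_zero.1 this).resolve_left (sub_ne_zero.2 fun h => ?_))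
    have := Nat.le_of_dvd (by norm_num) (orderOf_dvd_of_pow_eq_one (x := u) (n := 9) (Units.ext (by simpa using h)))
    omega
  have hu6 : (u : F) ^ 6 - (u : F) ^ 3 + 1 = 0 := by
    have : ((u : F) ^ 3 + 1) * ((u : F) ^ 6 - (u : F) ^ 3 + 1) = 0 := by linear_combination hu9
    refine (mul_eq_zero.1 this).resolve_left fun h => ?_
    have h1 : (u : F) ^ 6 = 1 := by linear_combination ((u : F) ^ 3 - 1) * h
    have := Nat.le_of_dvd (by norm_num) (orderOf_dvd_of_pow_eq_one (x := u) (n := 6) (Units.ext (by simpa using h1)))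
    omega
  -- a generator of trace four
  obtain ⟨w, hw, hw2, hw9⟩ : ∃ w ∈ circ σ, (w : F) ^ 2 = ((4 : ℤ) : F) * (w : F) - 1 ∧ (w : F) ^ 9 = -1 := by
    have hu' : (u : F) * σ u = 1 := hu
    obtain ⟨T, hT⟩ : ∃ T, T = (u : F) + σ u := ⟨_, rfl⟩
    have h0 : (u : F) ^ 3 * (T ^ 3 - 3 * T - 1) = 0 := by
      rw [hT]
      linear_combination hu6 +
        (((u : F) * σ u) ^ 2 + (u : F) * σ u + 1 + 3 * ((u : F) + σ u) * (u : F) ^ 3) * hu'
    have h1 := (mul_eq_zero.1 h0).resolve_left (pow_ne_zero 3 u.ne_zero)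
    have h3 : (T - 4) * ((T - 3) * (T - 10)) = 0 := by
      linear_combination h1 + (-T ^ 2 + 5 * T - 7) * h17
    have hmk : ∀ (τ : ℤ) (j : ℕ), T = (τ : F) → Odd j →
        (∑ k, ![1, -4, 1] k * cheb τ (![2 * j, j, 0] k + 1)) % 17 = 0 →
        (∑ k, ![1, -4, 1] k * cheb τ (![2 * j, j, 0] k)) % 17 = 0 →
        ∃ w ∈ circ σ, (w : F) ^ 2 = ((4 : ℤ) : F) * (w : F) - 1 ∧ (w : F) ^ 9 = -1 := by
      intro τ j hτ hj e1 e0
      refine ⟨u ^ j, (circ σ).pow_mem hu j, ?_, ?_⟩
      · have hq : (u : F) ^ 2 = (τ : F) * (u : F) - 1 := by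
          rw [← hτ, hT]
          linear_combination -hu'
        have := sum_cheb_zero hchar hq u.ne_zero ![1, -4, 1] ![2 * j, j, 0] e1 e0
        simp [Fin.sum_univ_three] at this
        rw [Units.val_pow_eq_pow_val, ← pow_mul, mul_comm j 2]
        push_cast
        linear_combination this
      · rw [Units.val_pow_eq_pow_val, ← pow_mul, mul_comm, pow_mul, hu9, hj.neg_one_pow]
    rcases mul_eq_zero.1 h3 with h | h
    · exact hmk 4 1 (by push_cast; linear_combination h) (by decide) (by decide) (by decide)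
    rcases mul_eq_zero.1 h with h | h
    · exact hmk 3 5 (by push_cast; linear_combination h) (by decide) (by decide) (by decide)
    · exact hmk 10 7 (by push_cast; linear_combination h) (by decide) (by decide) (by decide)
  have hw2' : (w : F) ^ 2 = 4 * (w : F) - 1 := by rw [hw2]; push_cast; rfl
  have hw' : (w : F) * σ w = 1 := hw
  have hσw : σ (w : F) = 4 - w := by linear_combination σ (w : F) * hw2' + (4 - (w : F)) * hw'
  have hw1 : (w : F) ≠ 1 := fun h => h2 (by rw [h, one_pow] at hw9; linear_combination hw9)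
  have hwm : (w : F) ≠ -1 := fun h => by
    rw [h] at hw2'
    exact absurd ((CharP.cast_eq_zero_iff F 17 6).1 (by push_cast; linear_combination hw2')) (by decide)
  have hw26 : (w : F) ^ 2 ≠ (w : F) ^ 6 := fun h => hwm (by
    have h4 : (w : F) ^ 4 = 1 := mul_left_cancel₀ (pow_ne_zero 2 w.ne_zero) (by linear_combination -h)
    linear_combination hw9 - (w : F) * ((w : F) ^ 4 + 1) * h4)
  have hw02 : (w : F) ^ 0 ≠ (w : F) ^ 2 := fun h => hwm (by
    rw [pow_zero] at h
    linear_combination hw9 + (w : F) * ((w : F) ^ 6 + (w : F) ^ 4 + (w : F) ^ 2 + 1) * h)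
  have hw01 : (w : F) ^ 0 ≠ (w : F) ^ 1 := by rw [pow_zero, pow_one]; exact hw1.symm
  have hval : ∀ k, ∃ c : Fin 5, rnorm hf hD g 0 k = ((![1, 8, 13, 4, 15] c : ℕ) : F) := fun k => by
    obtain ⟨n, hn, hnx⟩ := hcast _ (rnorm_fix hf hD g 0 k)
    obtain ⟨R, S, hR, hS', hRx, hSx, hz, hX⟩ :=
      exists_refl_data hf hD hM hH (by norm_num) hg hgs hnz hw (0 : Fin 9) k
    have hv : (((w ^ 9)⁻¹ : Fˣ) : F) = -1 := by
      rw [Units.val_inv_eq_inv_val, Units.val_pow_eq_pow_val, hw9, inv_neg, inv_one]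
    simp only [hv] at hRx hSx
    have hprod : f ((g : Matrix ι ι F) *ᵥ bv hf hD k) (bv hf hD 0) *
        f (bv hf hD 0) ((g : Matrix ι ι F) *ᵥ bv hf hD k) = (n : F) := by
      rw [hf.herm (bv hf hD 0), hnx]; rfl
    have key : ∀ (τ : ℤ) (m : ℕ), (τ - (4 * (n : ℤ) - 2)) % 17 = 0 → cheb τ (m + 1) % 17 = 0 →
        (cheb τ m - 1) % 17 = 0 → False := fun τ m h0 h1' h1'' => by
      refine false_of_neg_pair hf h2 (bv_norm hf hD 0) (by rw [mem_isoU.1 (hM hg), bv_norm hf hD]) hz hRx hSx hX τ ?_ m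
        (hint _ h1') ?_
      · have := hint _ h0
        push_cast at this
        rw [hprod]
        linear_combination this
      · have := hint _ h1''
        push_cast at this
        linear_combination this
    interval_cases n
    · exact absurd (by simpa using hnx.symm) (rnorm_ne_zero hf hD hM hg hgs hnz 0 k)
    · exact ⟨0, hnx.symm⟩
    · exact (key 6 3 (by decide) (by decide) (by decide)).elim
    · exact (key 10 8 (by decide) (by decide) (by decide)).elim
    · exact ⟨3, hnx.symm⟩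
    · exact (key 1 2 (by decide) (by decide) (by decide)).elim
    · exact (key 5 7 (by decide) (by decide) (by decide)).elim
    · exact (key 9 7 (by decide) (by decide) (by decide)).elim
    · exact ⟨1, hnx.symm⟩
    · exact (key 0 1 (by decide) (by decide) (by decide)).elim
    · exact (key 4 8 (by decide) (by decide) (by decide)).elim
    · exact (key 8 7 (by decide) (by decide) (by decide)).elim
    · exact (key 12 7 (by decide) (by decide) (by decide)).elim
    · exact ⟨2, hnx.symm⟩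
    · exact (key 3 8 (by decide) (by decide) (by decide)).elim
    · exact ⟨4, hnx.symm⟩
    · exact (key 11 3 (by decide) (by decide) (by decide)).elim
  choose code hcode using hval
  have hrep : ∀ i j, i ≠ j → code i = code j → 3 ≤ code i := by
    intro i j hij he
    by_contra h3
    have hN : rnorm hf hD g 0 i = rnorm hf hD g 0 j := by rw [hcode, hcode, he]
    obtain ⟨c, hcdef⟩ : ∃ c, c = code i := ⟨_, rfl⟩
    have hi := hcode i
    rw [← hcdef] at hi h3
    fin_cases c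
    · refine false_of_pair hf hD hM hH (by norm_num) hg hgs hnz hij hN (u := w ^ 3) ((circ σ).pow_mem hw 3)
        (by
          rw [Units.val_pow_eq_pow_val]
          exact fun h => h2 (by linear_combination hw9 - (((w : F) ^ 3) ^ 2 + (w : F) ^ 3 + 1) * h)) ?_
      rw [hi, Units.val_pow_eq_pow_val, map_pow, hσw]
      simp
      linear_combination 12 * hw2' + 3 * h17
    · refine false_of_pair hf hD hM hH (by norm_num) hg hgs hnz hij hN (u := w) hw hw1 ?_
      rw [hi, hσw]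
      simp
      linear_combination h17
    · refine false_of_pair hf hD hM hH (by norm_num) hg hgs hnz hij hN (u := w ^ 9) ((circ σ).pow_mem hw 9)
        (by rw [Units.val_pow_eq_pow_val, hw9]; exact fun e => h2 (by linear_combination -e)) ?_
      rw [hi, Units.val_pow_eq_pow_val, hw9, map_neg, map_one]
      simp
      linear_combination -3 * h17
    · exact h3 (by decide)
    · exact h3 (by decide)
  obtain ⟨π, hπdef⟩ : ∃ π, π = Tuple.sort code := ⟨_, rfl⟩
  have hmono : Monotone (code ∘ π) := hπdef ▸ Tuple.monotone_sort code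
  have hadj : ∀ i j : Fin 9, i ≠ j → code (π i) = code (π j) → 3 ≤ code (π i) := fun i j h =>
    hrep _ _ (fun e => h (π.injective e))
  obtain ⟨c, hc'⟩ : ∃ c : Fin 9 → Fin 5, ∀ k, code (π k) = c k := ⟨fun k => code (π k), fun k => rfl⟩
  have hv : ∀ k, rnorm hf hD g 0 (π k) = ((![1, 8, 13, 4, 15] (c k) : ℕ) : F) := fun k => by rw [hcode, hc']
  have hsum : (∑ k, ![1, 8, 13, 4, 15] (c k) : ℕ) % 17 = 1 := by
    have h := rnorm_sum hf hD hM hg (l := (0 : Fin 9))
    rw [← Equiv.sum_comp π, Finset.sum_congr rfl (fun k _ => hv k), ← Nat.cast_sum, ← Nat.cast_one (R := F)] at h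
    exact (CharP.natCast_eq_natCast F 17).1 h
  rw [sum_fin_nine] at hsum
  simp only [← hc'] at hsum
  have hform := multiset_nine_seventeen _ _ (hmono (show (0 : Fin 9) ≤ 1 by decide)) (hadj 0 1 (by decide))
    _ (hmono (show (1 : Fin 9) ≤ 2 by decide)) (hadj 1 2 (by decide))
    _ (hmono (show (2 : Fin 9) ≤ 3 by decide)) (hadj 2 3 (by decide))
    _ (hmono (show (3 : Fin 9) ≤ 4 by decide)) (hadj 3 4 (by decide))
    _ (hmono (show (4 : Fin 9) ≤ 5 by decide)) (hadj 4 5 (by decide))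
    _ (hmono (show (5 : Fin 9) ≤ 6 by decide)) (hadj 5 6 (by decide))
    _ (hmono (show (6 : Fin 9) ≤ 7 by decide)) (hadj 6 7 (by decide))
    _ (hmono (show (7 : Fin 9) ≤ 8 by decide)) (hadj 7 8 (by decide)) hsum
  simp only [Function.comp_apply, hc'] at hform
  have hcf : c = ![c 0, c 1, c 2, c 3, c 4, c 5, c 6, c 7, c 8] := funext fun k => by fin_cases k <;> rfl
  have hw18 : (w : F) ^ 18 = 1 := by linear_combination ((w : F) ^ 9 - 1) * hw9
  rcases hform with h | h | h <;> rw [← hcf] at h <;> subst h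
  · exact false_of_config hf hD hM hH hg hgs hnz hchar hw 4 hw2 hw18 π _ hv
      ![0, 0, 0, 0, 0, 1, 2, 6, 9] 4 5 (by decide) rfl hw01 (by decide) (by decide) (by decide)
  · exact false_of_config hf hD hM hH hg hgs hnz hchar hw 4 hw2 hw18 π _ hv
      ![0, 0, 0, 0, 0, 2, 6, 12, 16] 5 6 (by decide) rfl hw26 (by decide) (by decide) (by decide)
  · exact false_of_config hf hD hM hH hg hgs hnz hchar hw 4 hw2 hw18 π _ hv
      ![0, 0, 0, 0, 0, 2, 6, 12, 16] 3 5 (by decide) rfl hw02 (by decide) (by decide) (by decide)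

end CfsgLib.Perm.Trans.Unit.Dec
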