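import Cfsg.Agent.Lib.Perm.Trans.UnitMax

/-!
# Groups generated by two quasi-reflections

If every element of `⟨R, S⟩` that keeps the axis line of `R` fixes its orthogonal, then the elements outside the
determinant kernel are conjugates of powers of `R`, so `R` normalises a Sylow subgroup of the kernel up to conjugacy;
an element of the centre of that Sylow subgroup commutes with its conjugate under `R`, which forces `v ^ 2 = 1`.
-/

set_option autoImplicit false
set_option linter.all false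

namespace CfsgLib.Perm.Trans.Unit

open scoped Matrix
open Matrix Cfsg.Geo CfsgLib.Perm.Asch CfsgLib.Perm.Trans

variable {ι : Type} [Fintype ι] [DecidableEq ι] {F : Type*} [Field F] [Fintype F]
variable {σ : F ≃+* F} {f : (ι → F) → (ι → F) → F} (hf : IsUnitaryForm σ f)
include hf

/-- two quasi-reflections of order above two -/
theorem false_of_refl_pair {e z : ι → F} (hee : f e e = 1) (hzz : f z z = 1) (hz : z ∉ Submodule.span F {e})
    {v : F} (hv : v * σ v = 1) (hv2 : v ^ 2 ≠ 1) {R S : GL ι F} (hR : R ∈ isoU f) (hS : S ∈ isoU f)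
    (hRx : ∀ y, (R : Matrix ι ι F) *ᵥ y = y + ((v - 1) * f y e) • e)
    (hSx : ∀ y, (S : Matrix ι ι F) *ᵥ y = y + ((v - 1) * f y z) • z)
    (hX : ∀ x ∈ Subgroup.closure ({R, S} : Set (GL ι F)), ∀ c : F, (x : Matrix ι ι F) *ᵥ e = c • e →
      ∀ y, f y e = 0 → (x : Matrix ι ι F) *ᵥ y = y) : False := by
  classical
  obtain ⟨X, hXdef⟩ : ∃ X, X = Subgroup.closure ({R, S} : Set (GL ι F)) := ⟨_, rfl⟩
  rw [← hXdef] at hX
  have hiso : ∀ x ∈ X, x ∈ isoU f := by
    have : X ≤ isoU f := hXdef ▸ (Subgroup.closure_le _).2 (Set.insert_subset hR (Set.singleton_subset_iff.2 hS))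
    exact fun x hx => this hx
  have he0 : e ≠ 0 := fun h => by rw [h, herm_zero_left hf] at hee; exact zero_ne_one hee
  have hv0 : v ≠ 0 := left_ne_zero_of_mul_eq_one hv
  have hv1 : v ≠ 1 := fun h => hv2 (by rw [h, one_pow])
  -- determinants
  have hdetq : ∀ (d : ι → F) (ζ : F) (g : GL ι F), f d d = 1 → ζ * σ ζ = 1 →
      (∀ y, (g : Matrix ι ι F) *ᵥ y = y + ((ζ - 1) * f y d) • d) → (g : Matrix ι ι F).det = ζ := by
    intro d ζ g hdd hζ hgy
    obtain ⟨g', -, hd', hx'⟩ := exists_qref hf (d := d) (by rw [hdd]; exact one_ne_zero) hζ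
    rw [show g = g' from gl_ext_vec fun y => by rw [hgy, hx', hdd, div_one], hd']
  obtain ⟨vu, hvu⟩ : ∃ vu : Fˣ, (vu : F) = v := ⟨Units.mk0 v hv0, rfl⟩
  let φ : X →* Fˣ := Matrix.GeneralLinearGroup.det.comp X.subtype
  have hφ : ∀ x : X, ((φ x : Fˣ) : F) = ((x : GL ι F) : Matrix ι ι F).det := fun x => rfl
  have hRX : R ∈ X := hXdef ▸ Subgroup.subset_closure (Set.mem_insert _ _)
  have hSX : S ∈ X := hXdef ▸ Subgroup.subset_closure (Set.mem_insert_of_mem _ rfl)
  have hφR : φ ⟨R, hRX⟩ = vu := Units.ext (by rw [hφ, hvu]; exact hdetq e v R hee hv hRx)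
  have hrange : ∀ x : X, φ x ∈ Subgroup.zpowers vu := by
    have h1 : X ≤ (Subgroup.zpowers vu).comap Matrix.GeneralLinearGroup.det := hXdef ▸ (Subgroup.closure_le _).2 (by
      rw [Set.insert_subset_iff, Set.singleton_subset_iff]
      refine ⟨?_, ?_⟩
      · rw [SetLike.mem_coe, Subgroup.mem_comap, show Matrix.GeneralLinearGroup.det R = vu from hφR]
        exact Subgroup.mem_zpowers _
      · rw [SetLike.mem_coe, Subgroup.mem_comap,
          show Matrix.GeneralLinearGroup.det S = vu from Units.ext (by rw [hvu]; exact hdetq z v S hzz hv hSx)]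
        exact Subgroup.mem_zpowers _)
    exact fun x => h1 x.2
  -- the stabiliser of the line
  let A : Subgroup X :=
    { carrier := {x | ∃ c : F, ((x : GL ι F) : Matrix ι ι F) *ᵥ e = c • e}
      one_mem' := ⟨1, by simp⟩
      mul_mem' := by
        rintro a b ⟨c, hc⟩ ⟨c', hc'⟩
        exact ⟨c' * c, by rw [Subgroup.coe_mul, gl_mul_mulVec, hc', mulVec_smul, hc, smul_smul]⟩
      inv_mem' := by
        rintro a ⟨c, hc⟩
        refine ⟨c⁻¹, ?_⟩
        have hc0 : c ≠ 0 := fun h => he0 (gl_mulVec_eq_zero.1 (by rw [hc, h, zero_smul]))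
        have h1 := congrArg (fun y => (((a : GL ι F)⁻¹ : GL ι F) : Matrix ι ι F) *ᵥ y) hc
        simp only [gl_inv_mulVec, mulVec_smul] at h1
        rw [Subgroup.coe_inv]
        conv_rhs => rw [h1, smul_smul, inv_mul_cancel₀ hc0, one_smul] }
  have hA : ∀ x : A, ∀ y, ((((x : X) : GL ι F)) : Matrix ι ι F) *ᵥ y =
      y + ((((φ (x : X) : Fˣ) : F) - 1) * f y e) • e := by
    rintro ⟨x, c, hc⟩
    have hform : ∀ y, ((x : GL ι F) : Matrix ι ι F) *ᵥ y = y + ((c - 1) * f y e) • e := fun y => by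
      have h1 := hX _ x.2 c hc (y - f y e • e) (by rw [herm_sub_left hf, hf.smul_left, hee, mul_one, sub_self])
      rw [mulVec_sub, mulVec_smul, hc, sub_eq_iff_eq_add] at h1
      rw [h1]
      module
    have hcc : c * σ c = 1 := by
      have := mem_isoU.1 (hiso _ x.2) e e
      rwa [hc, hf.smul_left, herm_smul_right hf, hee, mul_one] at this
    intro y
    rw [hφ, hdetq e c _ hee hcc hform, hform]
  have hAinj : ∀ x y : A, φ (x : X) = φ (y : X) → x = y := fun x y h =>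
    Subtype.ext (Subtype.ext (gl_ext_vec fun w => by rw [hA, hA, h]))
  let RA : A := ⟨⟨R, hRX⟩, v, by rw [hRx, hee]; module⟩
  let ψ : A →* Fˣ := φ.comp A.subtype
  have hψrange : ψ.range = φ.range := by
    refine le_antisymm ?_ ?_
    · rintro _ ⟨x, rfl⟩; exact ⟨(x : X), rfl⟩
    · rintro _ ⟨x, rfl⟩
      obtain ⟨i, hi⟩ := Subgroup.mem_zpowers_iff.1 (hrange x)
      exact ⟨RA ^ i, by rw [map_zpow]; rw [show ψ RA = vu from hφR, hi]⟩
  obtain ⟨K, hK⟩ : ∃ K, K = φ.ker := ⟨_, rfl⟩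
  haveI : K.Normal := hK ▸ φ.normal_ker
  have hcardA : Nat.card A = Nat.card φ.range := by
    rw [← hψrange]
    exact Nat.card_congr (MonoidHom.ofInjective (f := ψ) hAinj).toEquiv
  have hindex : A.index = Nat.card K := by
    refine Nat.eq_of_mul_eq_mul_left (Nat.card_pos (α := A)) ?_
    rw [Subgroup.card_mul_index, ← Subgroup.card_mul_index K]
    rw [hK, Subgroup.index_ker, hcardA, mul_comm]
  -- the elements outside the kernel
  have hconj : ∀ x : X, φ x ≠ 1 → ∃ b : X, ∃ s : A, x = b * s * b⁻¹ := by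
    let Φ : (X ⧸ A) × {s : A // φ (s : X) ≠ 1} → {x : X // φ x ≠ 1} := fun p =>
      ⟨p.1.out * ((p.2 : A) : X) * p.1.out⁻¹, by rw [map_mul, map_mul, map_inv, mul_inv_cancel_comm]; exact p.2.2⟩
    have hinj : Function.Injective Φ := by
      rintro ⟨a, s⟩ ⟨a', s'⟩ h
      have h1 : a.out * ((s : A) : X) * a.out⁻¹ = a'.out * ((s' : A) : X) * a'.out⁻¹ := congrArg Subtype.val h
      have hdet : φ ((s : A) : X) = φ ((s' : A) : X) := by
        have := congrArg φ h1
        simpa [map_mul, map_inv, mul_inv_cancel_comm] using this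
      have hss : s = s' := Subtype.ext (hAinj _ _ hdet)
      subst hss
      obtain ⟨b, hb⟩ : ∃ b, b = a.out⁻¹ * a'.out := ⟨_, rfl⟩
      have hcomm : ((s : A) : X) * b = b * ((s : A) : X) := by
        rw [hb]
        calc ((s : A) : X) * (a.out⁻¹ * a'.out) = a.out⁻¹ * (a.out * ((s : A) : X) * a.out⁻¹) * a'.out := by group
          _ = a.out⁻¹ * (a'.out * ((s : A) : X) * a'.out⁻¹) * a'.out := by rw [h1]
          _ = a.out⁻¹ * a'.out * ((s : A) : X) := by group
      have hbA : b ∈ A := by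
        obtain ⟨y, hy⟩ : ∃ y, y = ((b : GL ι F) : Matrix ι ι F) *ᵥ e := ⟨_, rfl⟩
        have h2 := congrArg (fun w : X => ((w : GL ι F) : Matrix ι ι F) *ᵥ e) hcomm
        simp only [Subgroup.coe_mul, gl_mul_mulVec] at h2
        rw [hA s e, hA s, hee, mul_one, mulVec_add, mulVec_smul, ← hy, add_right_inj, mul_smul] at h2
        refine ⟨f y e, ?_⟩
        rw [← hy]
        have hc1 : ((φ ((s : A) : X) : Fˣ) : F) - 1 ≠ 0 := sub_ne_zero.2 fun h3 => s.2 (Units.ext h3)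
        exact ((smul_right_injective (ι → F) hc1) h2).symm
      have haa : a = a' := by
        rw [← QuotientGroup.out_eq' a, ← QuotientGroup.out_eq' a', QuotientGroup.eq]
        rw [hb] at hbA
        exact hbA
      subst haa
      rfl
    have hcardS : Nat.card {s : A // φ (s : X) ≠ 1} + 1 = Nat.card A := by
      have h1 : Nat.card {s : A // φ (s : X) = 1} = 1 :=
        Nat.card_eq_one_iff_unique.2 ⟨⟨fun p q => Subtype.ext (hAinj _ _ (p.2.trans q.2.symm))⟩, ⟨⟨1, map_one φ⟩⟩⟩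
      rw [← Nat.card_congr (Equiv.sumCompl fun s : A => φ (s : X) = 1), Nat.card_sum, h1, add_comm]
    have hcardX : Nat.card {x : X // φ x ≠ 1} + Nat.card K = Nat.card X := by
      rw [← Nat.card_congr (Equiv.sumCompl fun x : X => φ x = 1), Nat.card_sum, hK, add_comm]
      rfl
    have hbij : Function.Bijective Φ := (Nat.bijective_iff_injective_and_card Φ).2 ⟨hinj, by
      have h2 := Subgroup.card_mul_index A
      rw [Nat.card_prod, ← Subgroup.index, hindex]
      rw [hindex, ← hcardS, add_mul, one_mul, mul_comm] at h2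
      omega⟩
    intro x hx
    obtain ⟨p, hp⟩ := hbij.surjective ⟨x, hx⟩
    exact ⟨p.1.out, p.2, (congrArg Subtype.val hp).symm⟩
  -- the kernel is non-trivial
  have hKne : Nontrivial K := by
    obtain ⟨c, hc⟩ : ∃ c : X, c = ⟨R, hRX⟩ * ⟨S, hSX⟩ * (⟨R, hRX⟩ : X)⁻¹ * (⟨S, hSX⟩ : X)⁻¹ := ⟨_, rfl⟩
    have hcK : c ∈ K := by
      rw [hK, MonoidHom.mem_ker, hc, map_mul, map_mul, map_mul, map_inv, map_inv, mul_inv_cancel_comm, mul_inv_cancel]
    refine ⟨⟨c, hcK⟩, 1, fun h => ?_⟩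
    have h1 : c = 1 := congrArg Subtype.val h
    rw [hc, mul_inv_eq_one, mul_inv_eq_iff_eq_mul] at h1
    have h2 := congrArg (fun w : X => ((w : GL ι F) : Matrix ι ι F) *ᵥ e) h1
    simp only [Subgroup.coe_mul, gl_mul_mulVec] at h2
    rw [hRx e, hee, mul_one, show e + (v - 1) • e = v • e by module, mulVec_smul] at h2
    obtain ⟨y, hy⟩ : ∃ y, y = (S : Matrix ι ι F) *ᵥ e := ⟨_, rfl⟩
    rw [← hy, hRx] at h2
    have hy' : y = f y e • e := by
      refine (smul_right_injective (ι → F) (sub_ne_zero.2 hv1)) ?_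
      show (v - 1) • y = (v - 1) • f y e • e
      rw [smul_smul, sub_smul, one_smul, ← h2]
      abel
    have hfix := hX S hSX (f y e) (by rw [← hy]; exact hy')
    refine hz (Submodule.mem_span_singleton.2 ⟨f z e, ?_⟩)
    refine (sub_eq_zero.1 (eq_of_herm hf fun w => ?_)).symm
    obtain ⟨w', hw'⟩ : ∃ w', w' = w - f w e • e := ⟨_, rfl⟩
    have h3 := hfix w' (by rw [hw', herm_sub_left hf, hf.smul_left, hee, mul_one, sub_self])
    rw [hSx, add_eq_left, smul_eq_zero] at h3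
    rcases h3 with h3 | h3
    · have h4 := (mul_eq_zero.1 h3).resolve_left (sub_ne_zero.2 hv1)
      rw [hw', herm_sub_left hf, hf.smul_left] at h4
      rw [herm_sub_right hf, herm_smul_right hf, ← hf.herm, herm_zero_right hf]
      linear_combination h4
    · exact absurd (h3 ▸ Submodule.zero_mem _) hz
  -- a Sylow subgroup of the kernel
  obtain ⟨ℓ, hℓdef⟩ : ∃ ℓ, ℓ = (Nat.card K).minFac := ⟨_, rfl⟩
  have hK1 : 1 < Nat.card K := Finite.one_lt_card
  haveI : Fact ℓ.Prime := ⟨hℓdef ▸ Nat.minFac_prime (by omega)⟩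
  obtain ⟨P⟩ : Nonempty (Sylow ℓ K) := inferInstance
  haveI : Nontrivial (P : Subgroup K) :=
    (Subgroup.nontrivial_iff_ne_bot _).2 (P.ne_bot_of_dvd_card (hℓdef ▸ Nat.minFac_dvd _))
  obtain ⟨Q, hQ⟩ : ∃ Q, Q = (P : Subgroup K).map K.subtype := ⟨_, rfl⟩
  obtain ⟨n, hn, k₁, hk₁, hnk⟩ : ∃ n ∈ Subgroup.normalizer (Q : Set X), ∃ k₁ ∈ K, n * k₁ = ⟨R, hRX⟩ := by
    have h1 : (⟨R, hRX⟩ : X) ∈ Subgroup.normalizer (Q : Set X) ⊔ K := by
      rw [hQ, Sylow.normalizer_sup_eq_top P]; exact Subgroup.mem_top _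
    exact Subgroup.mem_sup_of_normal_right.1 h1
  have hφn : φ n = vu := by
    have := congrArg φ hnk
    rwa [map_mul, show φ k₁ = 1 from MonoidHom.mem_ker.1 (hK ▸ hk₁), mul_one, hφR] at this
  obtain ⟨b, s, hbs⟩ := hconj n (by
    rw [hφn]; exact fun h => hv1 (by rw [← hvu, h, Units.val_one]))
  have hs : s = RA := hAinj _ _ (by
    have := congrArg φ hbs
    rw [map_mul, map_mul, map_inv, mul_inv_cancel_comm, hφn] at this
    rw [← this]; exact hφR.symm)
  obtain ⟨k₀, hk₀, hk₀1⟩ : ∃ k₀ : (P : Subgroup K), k₀ ∈ Subgroup.center (P : Subgroup K) ∧ k₀ ≠ 1 := by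
    have h1 : Nontrivial (Subgroup.center (P : Subgroup K)) := P.isPGroup'.center_nontrivial
    obtain ⟨k₀, hk₀⟩ := exists_ne (1 : Subgroup.center (P : Subgroup K))
    exact ⟨k₀, k₀.2, fun h => hk₀ (Subtype.ext h)⟩
  obtain ⟨k', hk'def⟩ : ∃ k' : X, k' = ((k₀ : K) : X) := ⟨_, rfl⟩
  have hk'Q : k' ∈ Q := hQ ▸ ⟨(k₀ : K), k₀.2, hk'def.symm⟩
  have hcomm : k' * (n * k' * n⁻¹) = n * k' * n⁻¹ * k' := by
    have h1 := (Subgroup.mem_normalizer_iff.1 hn k').1 hk'Q
    rw [hQ] at h1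
    obtain ⟨p, hp, hpe⟩ := h1
    have h2 := congrArg (fun w : (P : Subgroup K) => ((w : K) : X)) (Subgroup.mem_center_iff.1 hk₀ ⟨p, hp⟩)
    simp only [Subgroup.coe_mul, ← hk'def] at h2
    rw [← show ((p : K) : X) = n * k' * n⁻¹ from hpe]
    exact h2.symm
  obtain ⟨k, hk⟩ : ∃ k, k = b⁻¹ * k' * b := ⟨_, rfl⟩
  have hcomm' : k * ((⟨R, hRX⟩ : X) * k * (⟨R, hRX⟩ : X)⁻¹) = (⟨R, hRX⟩ : X) * k * (⟨R, hRX⟩ : X)⁻¹ * k := by
    have hR' : (⟨R, hRX⟩ : X) = b⁻¹ * n * b := by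
      rw [hbs, hs]
      show ((RA : A) : X) = _
      group
    rw [hk, hR']
    have := congrArg (fun w => b⁻¹ * w * b) hcomm
    group at this ⊢
    exact this
  have hk1 : k ≠ 1 := fun h => hk₀1 (by
    have : k' = 1 := by
      have h2 : b⁻¹ * k' * b = b⁻¹ * 1 * b := by rw [← hk, h]; group
      exact mul_left_cancel (mul_right_cancel h2)
    rw [hk'def] at this
    exact Subtype.ext (Subtype.ext this))
  have hφk : φ k = 1 := by
    rw [hk, map_mul, map_mul, map_inv, mul_comm _ (φ k'), mul_assoc, inv_mul_cancel, mul_one]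
    exact MonoidHom.mem_ker.1 (hK ▸ hk'def ▸ (k₀ : K).2)
  obtain ⟨kg, hkg⟩ : ∃ kg : GL ι F, kg = (k : GL ι F) := ⟨_, rfl⟩
  have hkgi : kg ∈ isoU f := hkg ▸ hiso _ k.2
  have hnline : ∀ j : X, φ j = 1 → j ≠ 1 → ∀ c : F, ((j : GL ι F) : Matrix ι ι F) *ᵥ e ≠ c • e := fun j hj hj1 c hc =>
    hj1 (congrArg Subtype.val (hAinj ⟨j, c, hc⟩ 1 (by rw [OneMemClass.coe_one, map_one]; exact hj)))
  have hkk : ∀ j : GL ι F, j ∈ isoU f → ∀ a w, f ((j : Matrix ι ι F) *ᵥ a) w = f a (((j⁻¹ : GL ι F) : Matrix ι ι F) *ᵥ w) :=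
    fun j hj a w => by conv_rhs => rw [← mem_isoU.1 hj, gl_mulVec_inv]
  have hmoved : ∀ j : X, φ j = 1 → j ≠ 1 →
      ∃ x, f x e = 0 ∧ f (((j : GL ι F) : Matrix ι ι F) *ᵥ x) e ≠ 0 := by
    intro j hj hj1
    obtain ⟨w, hw⟩ : ∃ w, w = (((j⁻¹ : X) : GL ι F) : Matrix ι ι F) *ᵥ e := ⟨_, rfl⟩
    have hne : w - f w e • e ≠ 0 := fun h => hnline j⁻¹ (by rw [map_inv, hj, inv_one]) (inv_ne_one.2 hj1) (f w e)
      (by rw [← hw]; exact sub_eq_zero.1 h)
    obtain ⟨y, hy⟩ : ∃ y, f y (w - f w e • e) ≠ 0 := by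
      obtain ⟨y, hy⟩ := (hf.nondegenerate _ hne).2
      exact ⟨y, by first | exact hy | exact fun h0 => hy (herm_swap_zero hf h0)⟩
    refine ⟨y - f y e • e, by rw [herm_sub_left hf, hf.smul_left, hee, mul_one, sub_self], fun h => hy ?_⟩
    rw [hkk _ (hiso _ j.2), ← Subgroup.coe_inv, ← hw, herm_sub_left hf, hf.smul_left] at h
    rw [herm_sub_right hf, herm_smul_right hf, ← hf.herm]
    linear_combination h
  obtain ⟨x, hxe, hα⟩ := hmoved k hφk hk1
  obtain ⟨x', hx'e, hβ⟩ := hmoved k⁻¹ (by rw [map_inv, hφk, inv_one]) (inv_ne_one.2 hk1)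
  rw [Subgroup.coe_inv, ← hkg] at hβ
  rw [← hkg] at hα
  have hRi : ∀ y, ((R⁻¹ : GL ι F) : Matrix ι ι F) *ᵥ y = y + ((σ v - 1) * f y e) • e := fun y => by
    have h1 : (R : Matrix ι ι F) *ᵥ (y + ((σ v - 1) * f y e) • e) = y := by
      rw [hRx, hf.add_left, hf.smul_left, hee, mul_one]
      match_scalars <;> first | ring1 | linear_combination (f y e) * hv | linear_combination -(f y e) * hv
    conv_lhs => rw [← h1, gl_inv_mulVec]
  have hfix' : ∀ y, f y e = 0 → ((R⁻¹ : GL ι F) : Matrix ι ι F) *ᵥ y = y := fun y hy => by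
    rw [hRi, hy, mul_zero, zero_smul, add_zero]
  have h := congrArg (fun w : X => f (((w : GL ι F) : Matrix ι ι F) *ᵥ x) x') hcomm'
  simp only [Subgroup.coe_mul, Subgroup.coe_inv, ← hkg, gl_mul_mulVec, hfix' x hxe, hkk R hR, hfix' x' hx'e] at h
  rw [hkk kg hkgi, hkk kg hkgi, hRx, hRi, hf.add_left, hf.add_left, hf.smul_left, hf.smul_left, add_right_inj] at h
  have hne : f e (((kg⁻¹ : GL ι F) : Matrix ι ι F) *ᵥ x') ≠ 0 := fun h0 => hβ (herm_swap_zero hf h0)
  have h2 : (v - σ v) * (f ((kg : Matrix ι ι F) *ᵥ x) e * f e (((kg⁻¹ : GL ι F) : Matrix ι ι F) *ᵥ x')) = 0 := by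
    linear_combination h
  refine hv2 ?_
  have h3 := sub_eq_zero.1 ((mul_eq_zero.1 h2).resolve_right (mul_ne_zero hα hne))
  linear_combination v * h3 + hv

end CfsgLib.Perm.Trans.Unit
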