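import Cfsg.Agent.Lib.Perm.Trans.UnitDecomp.SixSmall

/-!
# Leaving the stabiliser of a frame of six lines
-/

set_option autoImplicit false
set_option linter.all false

namespace CfsgLib.Perm.Trans.Unit.Dec

open scoped Matrix
open Matrix Cfsg.Geo CfsgLib.Perm.Asch CfsgLib.Perm.Trans CfsgLib.Perm.Trans.Unit

variable {ι : Type} [Fintype ι] [DecidableEq ι] {F : Type*} [Field F] [Fintype F]
variable {σ : F ≃+* F} {f : (ι → F) → (ι → F) → F} (hf : IsUnitaryForm σ f)
variable {D : Fin 6 → Submodule F (ι → F)} (hD : IsNondegenerateMDecomposition f 1 D)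
variable {M : Subgroup (GL ι F)} (hM : M ≤ isoU f) (hH : decompositionStabilizer D ⊓ (isoU f ⊓ specialLinear ι F) ≤ M)
variable {g : GL ι F} (hg : g ∈ M) (hgs : g ∉ decompositionStabilizer D) (hnz : AllEntries hf hD M)
include hf hD hM hH hg hgs hnz

theorem false_three (hS : Nat.card {x : F // σ x = x} = 3) (hF : Fintype.card F = 3 ^ 2) {u : Fˣ} (hu : u ∈ circ σ)
    (huo : orderOf u = 4) : False := by
  obtain ⟨hchar, hcast⟩ := fixed_eq_cast hf Nat.prime_three hF hS
  have h3 : (3 : F) = 0 := by simpa using CharP.cast_eq_zero F 3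
  have hsq : (u : F) ^ 2 = -1 := by
    have h4 : (u : F) ^ 4 = 1 := by rw [← Units.val_pow_eq_pow_val, ← huo, pow_orderOf_eq_one, Units.val_one]
    have hne : (u : F) ^ 2 ≠ 1 := fun h => by
      have := Nat.le_of_dvd (by norm_num) (orderOf_dvd_of_pow_eq_one (x := u) (n := 2) (Units.ext (by simpa using h)))
      omega
    have : ((u : F) ^ 2 - 1) * ((u : F) ^ 2 + 1) = 0 := by linear_combination h4
    exact eq_neg_of_add_eq_zero_left ((mul_eq_zero.1 this).resolve_left (sub_ne_zero.2 hne))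
  have hval : ∀ k, rnorm hf hD g 0 k = 1 ∨ rnorm hf hD g 0 k = 2 := fun k => by
    obtain ⟨n, hn, hnx⟩ := hcast _ (rnorm_fix hf hD g 0 k)
    interval_cases n
    · exact absurd (by simpa using hnx.symm) (rnorm_ne_zero hf hD hM hg hgs hnz 0 k)
    · exact Or.inl (by simpa using hnx.symm)
    · exact Or.inr (by simpa using hnx.symm)
  obtain ⟨i, j, hij, hN⟩ : ∃ i j : Fin 6, i ≠ j ∧ rnorm hf hD g 0 i = rnorm hf hD g 0 j := by
    rcases hval 0 with a | a <;> rcases hval 1 with b | b <;> rcases hval 2 with c | c <;>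
      first
      | exact ⟨0, 1, by decide, a.trans b.symm⟩
      | exact ⟨0, 2, by decide, a.trans c.symm⟩
      | exact ⟨1, 2, by decide, b.trans c.symm⟩
  rcases hval i with hi | hi
  · refine false_of_pair hf hD hM hH (by norm_num) hg hgs hnz hij hN (u := u ^ 2) ((circ σ).pow_mem hu 2) ?_ ?_
    · rw [Units.val_pow_eq_pow_val, hsq]
      intro h
      exact one_ne_zero (α := F) (by linear_combination h + h3)
    · rw [Units.val_pow_eq_pow_val, hsq, map_neg, map_one, hi]
      linear_combination -h3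
  · refine false_of_pair hf hD hM hH (by norm_num) hg hgs hnz hij hN (u := u) hu ?_ ?_
    · intro h
      rw [h] at hsq
      exact one_ne_zero (α := F) (by linear_combination h3 - hsq)
    · have hu' : (u : F) * σ u = 1 := hu
      have hσu : σ (u : F) = -u := by linear_combination -(u : F) * hu' + σ (u : F) * hsq
      rw [hσu, hi]
      linear_combination -h3

theorem false_five (hS : Nat.card {x : F // σ x = x} = 5) (hF : Fintype.card F = 5 ^ 2) {u : Fˣ} (hu : u ∈ circ σ)
    (huo : orderOf u = 6) : False := by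
  classical
  obtain ⟨hchar, hcast⟩ := fixed_eq_cast hf Nat.prime_five hF hS
  have h5 : (5 : F) = 0 := by simpa using CharP.cast_eq_zero F 5
  have hc : ∀ n : ℕ, 0 < n → n < 5 → (n : F) ≠ 0 := fun n h0 h1 h =>
    absurd (Nat.le_of_dvd h0 ((CharP.cast_eq_zero_iff F 5 n).1 h)) (by omega)
  have h6 : (u : F) ^ 6 = 1 := by rw [← Units.val_pow_eq_pow_val, ← huo, pow_orderOf_eq_one, Units.val_one]
  have hne : ∀ i, 0 < i → i < 6 → (u : F) ^ i ≠ 1 := fun i h0 h1 h => by
    have := Nat.le_of_dvd h0 (orderOf_dvd_of_pow_eq_one (x := u) (n := i) (Units.ext (by simpa using h)))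
    omega
  have hu3 : (u : F) ^ 3 = -1 := by
    have : ((u : F) ^ 3 - 1) * ((u : F) ^ 3 + 1) = 0 := by linear_combination h6
    exact eq_neg_of_add_eq_zero_left
      ((mul_eq_zero.1 this).resolve_left (sub_ne_zero.2 (hne 3 (by norm_num) (by norm_num))))
  have hu2 : (u : F) ^ 2 = (u : F) - 1 := by
    have h1 : ((u : F) + 1) * ((u : F) ^ 2 - u + 1) = 0 := by linear_combination hu3
    have h2 : (u : F) + 1 ≠ 0 := fun h => hne 2 (by norm_num) (by norm_num) (by linear_combination ((u : F) - 1) * h)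
    linear_combination (mul_eq_zero.1 h1).resolve_left h2
  have hσu : σ (u : F) = 1 - u := by
    have hu' : (u : F) * σ u = 1 := hu
    linear_combination σ (u : F) * hu2 + (1 - (u : F)) * hu'
  have hval : ∀ k, ∃ c : Fin 4, rnorm hf hD g 0 k = ((![1, 2, 4, 3] c : ℕ) : F) := fun k => by
    obtain ⟨n, hn, hnx⟩ := hcast _ (rnorm_fix hf hD g 0 k)
    interval_cases n
    · exact absurd (by simpa using hnx.symm) (rnorm_ne_zero hf hD hM hg hgs hnz 0 k)
    · exact ⟨0, hnx.symm⟩
    · exact ⟨1, hnx.symm⟩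
    · exact ⟨3, hnx.symm⟩
    · exact ⟨2, hnx.symm⟩
  choose code hcode using hval
  have hrep : ∀ i j, i ≠ j → code i = code j → code i = 3 := by
    intro i j hij he
    by_contra h3
    have hN : rnorm hf hD g 0 i = rnorm hf hD g 0 j := by rw [hcode, hcode, he]
    obtain ⟨c, hcdef⟩ : ∃ c, c = code i := ⟨_, rfl⟩
    have hi := hcode i
    rw [← hcdef] at hi h3
    fin_cases c
    · refine false_of_pair hf hD hM hH (by norm_num) hg hgs hnz hij hN (u := u) hu
        (fun h => hne 1 (by norm_num) (by norm_num) (by rw [pow_one, h])) ?_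
      rw [hi, hσu]
      simp
      ring
    · refine false_of_pair hf hD hM hH (by norm_num) hg hgs hnz hij hN (u := u ^ 2) ((circ σ).pow_mem hu 2)
        (by rw [Units.val_pow_eq_pow_val]; exact hne 2 (by norm_num) (by norm_num)) ?_
      rw [hi, Units.val_pow_eq_pow_val, hu2, map_sub, hσu, map_one]
      simp
      linear_combination -h5
    · refine false_of_pair hf hD hM hH (by norm_num) hg hgs hnz hij hN (u := u ^ 3) ((circ σ).pow_mem hu 3)
        (by rw [Units.val_pow_eq_pow_val]; exact hne 3 (by norm_num) (by norm_num)) ?_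
      rw [hi, Units.val_pow_eq_pow_val, hu3, map_neg, map_one]
      simp
      linear_combination -3 * h5
    · exact h3 rfl
  obtain ⟨π, hπdef⟩ : ∃ π, π = Tuple.sort code := ⟨_, rfl⟩
  have hmono : Monotone (code ∘ π) := hπdef ▸ Tuple.monotone_sort code
  have hadj : ∀ i j : Fin 6, i ≠ j → code (π i) = code (π j) → code (π i) = 3 := fun i j h =>
    hrep _ _ (fun e => h (π.injective e))
  have hsum : (![1, 2, 4, 3] (code (π 0)) + ![1, 2, 4, 3] (code (π 1)) + ![1, 2, 4, 3] (code (π 2)) +
      ![1, 2, 4, 3] (code (π 3)) + ![1, 2, 4, 3] (code (π 4)) + ![1, 2, 4, 3] (code (π 5)) : ℕ) % 5 = 1 := by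
    have h := rnorm_sum hf hD hM hg (l := (0 : Fin 6))
    rw [← Equiv.sum_comp π, Fin.sum_univ_six, hcode, hcode, hcode, hcode, hcode, hcode] at h
    simp only [← Nat.cast_add] at h
    rw [← Nat.cast_one (R := F)] at h
    exact (CharP.natCast_eq_natCast F 5).1 h
  have hform := multiset_five _ _ (hmono (show (0 : Fin 6) ≤ 1 by decide)) (hadj 0 1 (by decide))
    _ (hmono (show (1 : Fin 6) ≤ 2 by decide)) (hadj 1 2 (by decide))
    _ (hmono (show (2 : Fin 6) ≤ 3 by decide)) (hadj 2 3 (by decide))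
    _ (hmono (show (3 : Fin 6) ≤ 4 by decide)) (hadj 3 4 (by decide))
    _ (hmono (show (4 : Fin 6) ≤ 5 by decide)) (hadj 4 5 (by decide)) hsum
  obtain ⟨c, hc'⟩ : ∃ c : Fin 6 → Fin 4, ∀ k, code (π k) = c k := ⟨fun k => code (π k), fun k => rfl⟩
  have key : ∀ (w : Fin 6 → ℕ) (a b : Fin 6), a ≠ b → c a = c b → (u : F) ^ w a ≠ (u : F) ^ w b → 6 ∣ ∑ k, w k →
      ∑ k, ((![1, 2, 4, 3] (c k) : ℕ) : F) * (u : F) ^ w k = 0 → False := by
    intro w a b hab hcab hw hdvd hsum0
    refine false_of_swap hf hD hM hH (by norm_num) hg hgs hnz (l := 0) (i := π a) (j := π b)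
      (fun h => hab (π.injective h)) (by rw [hcode, hcode, hc', hc', hcab]) (e := fun x => u ^ w (π.symm x))
      (fun x => (circ σ).pow_mem hu _) ?_ ?_ ?_
    · rw [← Equiv.prod_comp π]
      simp only [Equiv.symm_apply_apply, Units.val_pow_eq_pow_val]
      rw [Finset.prod_pow_eq_pow_sum]
      obtain ⟨d, hd⟩ := hdvd
      rw [hd, pow_mul, h6, one_pow]
    · rw [← Equiv.sum_comp π]
      simpa only [Equiv.symm_apply_apply, Units.val_pow_eq_pow_val, hcode, hc'] using hsum0
    · intro h
      simp only [Equiv.symm_apply_apply] at h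
      exact hw (by rw [← Units.val_pow_eq_pow_val, h, Units.val_pow_eq_pow_val])
  simp only [Function.comp_apply, hc'] at hform
  have hcf : c = ![c 0, c 1, c 2, c 3, c 4, c 5] := funext fun k => by fin_cases k <;> rfl
  rcases hform with h | h <;> rw [← hcf] at h
  · refine key ![0, 0, 1, 1, 5, 5] 1 2 (by decide) (by rw [h]; rfl) ?_ (by decide) ?_
    · show (u : F) ^ 0 ≠ (u : F) ^ 1
      rw [pow_zero]
      exact (hne 1 (by norm_num) (by norm_num)).symm
    · rw [h, Fin.sum_univ_six]
      simp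
      linear_combination 6 * ((u : F) ^ 3) * hu2 + (6 * ((u : F) - 1)) * hu3 + 2 * h5
  · refine key ![0, 0, 1, 1, 1, 3] 3 5 (by decide) (by rw [h]; rfl) ?_ (by decide) ?_
    · show (u : F) ^ 1 ≠ (u : F) ^ 3
      rw [hu3, pow_one]
      exact fun h' => hne 2 (by norm_num) (by norm_num) (by rw [h']; ring)
    · rw [h, Fin.sum_univ_six]
      simp
      linear_combination 3 * hu3 + 2 * (u : F) * h5

theorem false_eleven (hS : Nat.card {x : F // σ x = x} = 11) (hF : Fintype.card F = 11 ^ 2) {u : Fˣ}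
    (hu : u ∈ circ σ) (huo : orderOf u = 12) : False := by
  classical
  obtain ⟨hchar, hcast⟩ := fixed_eq_cast hf (by norm_num) hF hS
  have h11 : (11 : F) = 0 := by simpa using CharP.cast_eq_zero F 11
  have hint : ∀ z : ℤ, z % 11 = 0 → (z : F) = 0 := fun z h =>
    (CharP.intCast_eq_zero_iff F 11 z).2 (by exact_mod_cast Int.dvd_of_emod_eq_zero h)
  have h2 : (2 : F) ≠ 0 := fun h => absurd ((CharP.cast_eq_zero_iff F 11 2).1 (by exact_mod_cast h)) (by decide)
  have hu6 : (u : F) ^ 6 = -1 := by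
    have h12 : (u : F) ^ 12 = 1 := by rw [← Units.val_pow_eq_pow_val, ← huo, pow_orderOf_eq_one, Units.val_one]
    have : ((u : F) ^ 6 - 1) * ((u : F) ^ 6 + 1) = 0 := by linear_combination h12
    refine eq_neg_of_add_eq_zero_left ((mul_eq_zero.1 this).resolve_left (sub_ne_zero.2 fun h => ?_))
    have := Nat.le_of_dvd (by norm_num) (orderOf_dvd_of_pow_eq_one (x := u) (n := 6) (Units.ext (by simpa using h)))
    omega
  have hu2 : (u : F) ^ 2 ≠ -1 := fun h => by
    have := Nat.le_of_dvd (by norm_num) (orderOf_dvd_of_pow_eq_one (x := u) (n := 4) (Units.ext (by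
      rw [Units.val_pow_eq_pow_val, Units.val_one, show (4 : ℕ) = 2 * 2 from rfl, pow_mul, h]; ring)))
    omega
  have hu4 : (u : F) ^ 4 - (u : F) ^ 2 + 1 = 0 := by
    have : ((u : F) ^ 2 + 1) * ((u : F) ^ 4 - (u : F) ^ 2 + 1) = 0 := by linear_combination hu6
    exact (mul_eq_zero.1 this).resolve_left fun h => hu2 (eq_neg_of_add_eq_zero_left h)
  -- a generator of trace six
  obtain ⟨w, hw, hw2, hw6⟩ : ∃ w ∈ circ σ, (w : F) ^ 2 = 6 * (w : F) - 1 ∧ (w : F) ^ 6 = -1 := by
    have hu' : (u : F) * σ u = 1 := hu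
    have hsq : ((u : F) + σ u) ^ 2 = 5 ^ 2 := by
      have h0 : (u : F) ^ 2 * (((u : F) + σ u) ^ 2 - 3) = 0 := by
        linear_combination hu4 + ((u : F) * σ u + 1 + 2 * (u : F) ^ 2) * hu'
      have := (mul_eq_zero.1 h0).resolve_left (pow_ne_zero 2 u.ne_zero)
      linear_combination this - 2 * h11
    rcases sq_eq_sq_iff_eq_or_eq_neg.1 hsq with h | h
    · refine ⟨(-1) * u, (circ σ).mul_mem (mem_circ.2 (by simp)) hu, ?_, ?_⟩
      · push_cast
        linear_combination (u : F) * h - hu' + (u : F) * h11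
      · push_cast
        linear_combination hu6
    · refine ⟨u, hu, ?_, hu6⟩
      linear_combination (u : F) * h - hu' - (u : F) * h11
  have hw' : (w : F) * σ w = 1 := hw
  have hσw : σ (w : F) = 6 - w := by linear_combination σ (w : F) * hw2 + (6 - (w : F)) * hw'
  have hval : ∀ k, ∃ c : Fin 4, rnorm hf hD g 0 k = ((![1, 3, 4, 5] c : ℕ) : F) := fun k => by
    obtain ⟨n, hn, hnx⟩ := hcast _ (rnorm_fix hf hD g 0 k)
    obtain ⟨R, S, hR, hS', hRx, hSx, hz, hX⟩ :=
      exists_refl_data hf hD hM hH (by norm_num) hg hgs hnz hw (0 : Fin 6) k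
    have hv : (((w ^ 6)⁻¹ : Fˣ) : F) = -1 := by
      rw [Units.val_inv_eq_inv_val, Units.val_pow_eq_pow_val, hw6, inv_neg, inv_one]
    simp only [hv] at hRx hSx
    have hprod : f ((g : Matrix ι ι F) *ᵥ bv hf hD k) (bv hf hD 0) *
        f (bv hf hD 0) ((g : Matrix ι ι F) *ᵥ bv hf hD k) = (n : F) := by
      rw [hf.herm (bv hf hD 0), hnx]; rfl
    have key : ∀ (τ : ℤ) (m : ℕ), (τ - (4 * (n : ℤ) - 2)) % 11 = 0 → cheb τ (m + 1) % 11 = 0 →
        (cheb τ m - 1) % 11 = 0 → False := fun τ m h0 h1' h1'' => by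
      refine false_of_neg_pair hf h2 (bv_norm hf hD 0) (by rw [mem_isoU.1 (hM hg), bv_norm hf hD]) hz hRx hSx hX τ ?_ m
        (hint _ h1') ?_
      · have := hint _ h0
        push_cast at this
        rw [hprod]
        linear_combination this
      · have := hint _ h1''
        push_cast at this
        linear_combination this
    interval_cases n
    · exact absurd (by simpa using hnx.symm) (rnorm_ne_zero hf hD hM hg hgs hnz 0 k)
    · exact ⟨0, hnx.symm⟩
    · exact (key 6 5 (by decide) (by decide) (by decide)).elim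
    · exact ⟨1, hnx.symm⟩
    · exact ⟨2, hnx.symm⟩
    · exact ⟨3, hnx.symm⟩
    · exact (key 0 1 (by decide) (by decide) (by decide)).elim
    · exact (key 4 4 (by decide) (by decide) (by decide)).elim
    · exact (key 8 4 (by decide) (by decide) (by decide)).elim
    · exact (key 1 2 (by decide) (by decide) (by decide)).elim
    · exact (key 5 5 (by decide) (by decide) (by decide)).elim
  choose code hcode using hval
  have hnw : ∀ i, 0 < i → i < 6 → (w : F) ^ i ≠ 1 := fun i h0 h1 h => by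
    have h6 : (w : F) ^ (i * 6) = 1 := by rw [pow_mul, h, one_pow]
    rw [mul_comm, pow_mul, hw6] at h6
    rcases (by omega : i = 1 ∨ i = 2 ∨ i = 3 ∨ i = 4 ∨ i = 5) with rfl | rfl | rfl | rfl | rfl
    · exact h2 (by linear_combination -h6)
    · exact h2 (by linear_combination hw6 - (((w : F) ^ 2) ^ 2 + (w : F) ^ 2 + 1) * h)
    · exact h2 (by linear_combination -h6)
    · have h' : (w : F) ^ 2 = -1 := by linear_combination (-(w : F) ^ 2) * h + hw6
      have h0' : (6 : F) * (w : F) = 0 := by linear_combination h' - hw2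
      have h6ne : (6 : F) ≠ 0 := fun e => absurd ((CharP.cast_eq_zero_iff F 11 6).1 (by exact_mod_cast e)) (by decide)
      exact w.ne_zero ((mul_eq_zero.1 h0').resolve_left h6ne)
    · exact h2 (by linear_combination -h6)
  have hrep : ∀ i j, i ≠ j → code i = code j → code i = 3 := by
    intro i j hij he
    by_contra h3
    have hN : rnorm hf hD g 0 i = rnorm hf hD g 0 j := by rw [hcode, hcode, he]
    obtain ⟨c, hcdef⟩ : ∃ c, c = code i := ⟨_, rfl⟩
    have hi := hcode i
    rw [← hcdef] at hi h3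
    fin_cases c
    · refine false_of_pair hf hD hM hH (by norm_num) hg hgs hnz hij hN (u := w ^ 2) ((circ σ).pow_mem hw 2)
        (by rw [Units.val_pow_eq_pow_val]; exact hnw 2 (by norm_num) (by norm_num)) ?_
      rw [hi, Units.val_pow_eq_pow_val, map_pow, hσw]
      simp
      linear_combination 2 * hw2 + 3 * h11
    · refine false_of_pair hf hD hM hH (by norm_num) hg hgs hnz hij hN (u := w ^ 6) ((circ σ).pow_mem hw 6)
        (by rw [Units.val_pow_eq_pow_val, hw6]; exact fun e => h2 (by linear_combination -e)) ?_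
      rw [hi, Units.val_pow_eq_pow_val, hw6, map_neg, map_one]
      simp
      linear_combination -h11
    · refine false_of_pair hf hD hM hH (by norm_num) hg hgs hnz hij hN (u := w ^ 4) ((circ σ).pow_mem hw 4)
        (by rw [Units.val_pow_eq_pow_val]; exact hnw 4 (by norm_num) (by norm_num)) ?_
      have e4 : (w : F) ^ 4 = 6 * (w : F) - 2 := by
        linear_combination ((w : F) ^ 2 + 6 * (w : F) + 35) * hw2 + (18 * (w : F) - 3) * h11
      rw [hi, Units.val_pow_eq_pow_val, e4, map_sub, map_mul, hσw, map_ofNat, map_ofNat]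
      simp
      linear_combination 11 * h11
    · exact h3 rfl
  obtain ⟨π, hπdef⟩ : ∃ π, π = Tuple.sort code := ⟨_, rfl⟩
  have hmono : Monotone (code ∘ π) := hπdef ▸ Tuple.monotone_sort code
  have hadj : ∀ i j : Fin 6, i ≠ j → code (π i) = code (π j) → code (π i) = 3 := fun i j h =>
    hrep _ _ (fun e => h (π.injective e))
  have hsum : (![1, 3, 4, 5] (code (π 0)) + ![1, 3, 4, 5] (code (π 1)) + ![1, 3, 4, 5] (code (π 2)) +
      ![1, 3, 4, 5] (code (π 3)) + ![1, 3, 4, 5] (code (π 4)) + ![1, 3, 4, 5] (code (π 5)) : ℕ) % 11 = 1 := by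
    have h := rnorm_sum hf hD hM hg (l := (0 : Fin 6))
    rw [← Equiv.sum_comp π, Fin.sum_univ_six, hcode, hcode, hcode, hcode, hcode, hcode] at h
    simp only [← Nat.cast_add] at h
    rw [← Nat.cast_one (R := F)] at h
    exact (CharP.natCast_eq_natCast F 11).1 h
  have hform := multiset_eleven _ _ (hmono (show (0 : Fin 6) ≤ 1 by decide)) (hadj 0 1 (by decide))
    _ (hmono (show (1 : Fin 6) ≤ 2 by decide)) (hadj 1 2 (by decide))
    _ (hmono (show (2 : Fin 6) ≤ 3 by decide)) (hadj 2 3 (by decide))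
    _ (hmono (show (3 : Fin 6) ≤ 4 by decide)) (hadj 3 4 (by decide))
    _ (hmono (show (4 : Fin 6) ≤ 5 by decide)) (hadj 4 5 (by decide)) hsum
  have hc' : ∀ k, code (π k) = ![0, 1, 2, 3, 3, 3] k := fun k => by
    rw [← hform]; fin_cases k <;> rfl
  obtain ⟨e, he⟩ : ∃ e : Fin 6 → Fˣ, e = fun x => w ^ (![0, 0, 5, 0, 3, 4] (π.symm x) : ℕ) := ⟨_, rfl⟩
  refine false_of_swap hf hD hM hH (by norm_num) hg hgs hnz (l := 0) (i := π 3) (j := π 4)
    (fun h => absurd (π.injective h) (by decide)) (by rw [hcode, hcode, hc', hc']; rfl) (e := e)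
    (fun x => by rw [he]; exact (circ σ).pow_mem hw _) ?_ ?_ ?_
  · rw [he, ← Equiv.prod_comp π]
    simp only [Equiv.symm_apply_apply, Units.val_pow_eq_pow_val]
    rw [Finset.prod_pow_eq_pow_sum, Fin.sum_univ_six]
    show (w : F) ^ 12 = 1
    linear_combination ((w : F) ^ 6 - 1) * hw6
  · rw [he, ← Equiv.sum_comp π]
    simp only [Equiv.symm_apply_apply, Units.val_pow_eq_pow_val, hcode, hc']
    rw [Fin.sum_univ_six]
    simp
    have e3 : (w : F) ^ 3 = 2 * (w : F) + 5 := by linear_combination ((w : F) + 6) * hw2 + (3 * (w : F) - 1) * h11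
    have e4 : (w : F) ^ 4 = 6 * (w : F) - 2 := by
      linear_combination ((w : F) ^ 2 + 6 * (w : F) + 35) * hw2 + (18 * (w : F) - 3) * h11
    have e5 : (w : F) ^ 5 = (w : F) + 5 := by linear_combination (w : F) * e4 + 6 * hw2 + (3 * (w : F) - 1) * h11
    linear_combination 4 * e5 + 5 * e3 + 5 * e4 + 4 * ((w : F) + 1) * h11
  · rw [he]
    simp only [Equiv.symm_apply_apply]
    intro h
    have h' := congrArg Units.val h
    simp at h'
    exact hnw 3 (by norm_num) (by norm_num) h'.symm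

end CfsgLib.Perm.Trans.Unit.Dec
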