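import Cfsg.Agent.Lib.Perm.Trans.UnitDecomp.Six
import Cfsg.Agent.Lib.Perm.Trans.UnitDecomp.Max

/-!
# Stabilisers of frames of six lines are maximal above the field of four elements
-/

set_option autoImplicit false
set_option linter.all false

namespace CfsgLib.Perm.Trans.Unit.Dec

open scoped Matrix
open Matrix Cfsg.Geo CfsgLib.Perm.Asch CfsgLib.Perm.Trans CfsgLib.Perm.Trans.Unit

variable {ι : Type} [Fintype ι] [DecidableEq ι] {F : Type*} [Field F] [Fintype F]
variable {σ : F ≃+* F} {f : (ι → F) → (ι → F) → F} (hf : IsUnitaryForm σ f)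
variable {D : Fin 6 → Submodule F (ι → F)} (hD : IsNondegenerateMDecomposition f 1 D)
include hf hD

/-- a group above the stabiliser of six lines has a line column -/
theorem lineCol_six {M : Subgroup (GL ι F)} (hM : M ≤ isoU f)
    (hH : decompositionStabilizer D ⊓ (isoU f ⊓ specialLinear ι F) ≤ M) (h4 : 4 < Fintype.card F) {g : GL ι F}
    (hg : g ∈ M) (hgs : g ∉ decompositionStabilizer D) : HasLineCol hf hD M := by
  classical
  by_contra hno
  obtain ⟨q, hq, hF, hS, hcirc⟩ := exists_sizes hf
  have hq3 : 3 ≤ q := by nlinarith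
  obtain ⟨u, hu, huo⟩ := exists_circ_generator hf
  rw [hcirc] at huo
  have hnz : AllEntries hf hD M := by
    intro x hx hxs l p hp
    refine hno ?_
    by_cases h2 : (2 : F) = 0
    · refine lineCol_of_zero_scalar hf hD hM hH le_rfl h4 hx hxs hp hu fun h => ?_
      have h1 : q + 1 ∣ 6 := huo ▸ orderOf_dvd_of_pow_eq_one (Units.ext (by simpa using h))
      have h3 := Nat.le_of_dvd (by norm_num) h1
      have hchar : ringChar F = 2 := by
        haveI := ringChar.charP F
        have h5 : ringChar F ∣ 2 := (CharP.cast_eq_zero_iff F (ringChar F) 2).1 (by exact_mod_cast h2)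
        exact ((Nat.dvd_prime Nat.prime_two).1 h5).resolve_left (CharP.ringChar_ne_one)
      have heven := FiniteField.even_card_iff_char_two.1 hchar
      rw [hF] at heven
      have : q ≤ 5 := by omega
      interval_cases q <;> first | omega | norm_num at h1
    · exact lineCol_of_zero hf hD hM hH le_rfl h2 h4 hx hxs hp
  by_cases hbig : (u : F) ^ 12 = 1
  · have h1 : q + 1 ∣ 12 := huo ▸ orderOf_dvd_of_pow_eq_one (Units.ext (by simpa using hbig))
    have : q ≤ 11 := by have := Nat.le_of_dvd (by norm_num) h1; omega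
    interval_cases q <;> norm_num at h1
    · exact false_three hf hD hM hH hg hgs hnz hS hF hu huo
    · exact false_five hf hD hM hH hg hgs hnz hS hF hu huo
    · exact false_eleven hf hD hM hH hg hgs hnz hS hF hu huo
  · obtain ⟨R, S, hR, hSi, hRx, hSx, hz, hX⟩ :=
      exists_refl_data hf hD hM hH (by norm_num) hg hgs hnz hu (0 : Fin 6) 0
    refine false_of_refl_pair hf (bv_norm hf hD 0) (by rw [mem_isoU.1 (hM hg), bv_norm hf hD]) hz
      ((circ σ).inv_mem ((circ σ).pow_mem hu 6)) (fun h => hbig ?_) hR hSi hRx hSx hX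
    rw [Units.val_inv_eq_inv_val, Units.val_pow_eq_pow_val, inv_pow, inv_eq_one, ← pow_mul] at h
    exact h

/-- stabilisers of six orthogonal lines are maximal above the field of four elements -/
theorem decomposition_maximal_six (h4 : 4 < Fintype.card F) :
    IsMaximalIn (isoU f ⊓ specialLinear ι F) (decompositionStabilizer D ⊓ (isoU f ⊓ specialLinear ι F)) := by
  have hn : Fintype.card ι = 6 := (card_lines hD hf).symm
  refine isMaximalIn_of_centres hf (by omega) (not_le_stab hf hD (by omega)) fun M hHM hM hne => ?_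
  have hMiso : M ≤ isoU f := hM.trans inf_le_left
  obtain ⟨g, hg, hgs⟩ := SetLike.not_le_iff_exists.1 hne
  obtain ⟨i, j, hij, hgood⟩ :=
    exists_pairGood_of_lineCol hf hD hMiso hHM (by norm_num) h4 (lineCol_six hf hD hMiso hHM h4 hg hgs)
  exact all_centres hf hD hMiso hHM (by norm_num) (Or.inl (by norm_num)) (pairGood_all hf hD hMiso hHM hij hgood)
    (fun _ h => absurd h (by omega))

end CfsgLib.Perm.Trans.Unit.Dec
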