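import Cfsg.Agent.Lib.Perm.Trans.UnitDecomp.SixTools

/-!
# Six lines over the fields with 9, 25 and 121 elements
-/

set_option autoImplicit false
set_option linter.all false
set_option synthInstance.maxSize 4000
set_option synthInstance.maxHeartbeats 200000

namespace CfsgLib.Perm.Trans.Unit.Dec

open scoped Matrix
open Matrix Cfsg.Geo CfsgLib.Perm.Asch CfsgLib.Perm.Trans CfsgLib.Perm.Trans.Unit

variable {ι : Type} [Fintype ι] [DecidableEq ι] {F : Type*} [Field F] [Fintype F]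
variable {σ : F ≃+* F} {f : (ι → F) → (ι → F) → F} (hf : IsUnitaryForm σ f)
include hf

/-- the fixed field of a prime order is made of integers -/
theorem fixed_eq_cast {q : ℕ} (hq : q.Prime) (hF : Fintype.card F = q ^ 2) (hS : Nat.card {x : F // σ x = x} = q) :
    CharP F q ∧ ∀ x : F, σ x = x → ∃ n : ℕ, n < q ∧ (n : F) = x := by
  classical
  obtain ⟨p, hchar⟩ := CharP.exists F
  obtain ⟨n, hp, hn⟩ := FiniteField.card F p
  obtain rfl : p = q := by
    have h1 : p ∣ q ^ 2 := hF ▸ hn ▸ dvd_pow_self p n.pos.ne'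
    exact (Nat.prime_dvd_prime_iff_eq hp hq).1 (hp.dvd_of_dvd_pow h1)
  refine ⟨hchar, fun x hx => ?_⟩
  let ψ : Fin p → {x : F // σ x = x} := fun k => ⟨((k : ℕ) : F), map_natCast σ _⟩
  have hinj : Function.Injective ψ := fun a b h => by
    have h1 := (CharP.natCast_eq_natCast F p).1 (congrArg Subtype.val h)
    exact Fin.ext (Nat.ModEq.eq_of_lt_of_lt h1 a.isLt b.isLt)
  have hbij : Function.Bijective ψ :=
    (Nat.bijective_iff_injective_and_card ψ).2 ⟨hinj, by rw [hS, Nat.card_eq_fintype_card, Fintype.card_fin]⟩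
  obtain ⟨k, hk⟩ := hbij.surjective ⟨x, hx⟩
  exact ⟨k, k.isLt, congrArg Subtype.val hk⟩

omit hf in
/-- the Chebyshev numbers -/
def cheb (τ : ℤ) : ℕ → ℤ
  | 0 => 0
  | 1 => 1
  | n + 2 => τ * cheb τ (n + 1) - cheb τ n

/-- two reflections whose product has a power equal to minus one -/
theorem false_of_neg_pair (h2 : (2 : F) ≠ 0) {e z : ι → F} (hee : f e e = 1) (hzz : f z z = 1)
    (hz : z ∉ Submodule.span F {e}) {R S : GL ι F}
    (hRx : ∀ y, (R : Matrix ι ι F) *ᵥ y = y + (((-1 : F) - 1) * f y e) • e)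
    (hSx : ∀ y, (S : Matrix ι ι F) *ᵥ y = y + (((-1 : F) - 1) * f y z) • z)
    (hX : ∀ x ∈ Subgroup.closure ({R, S} : Set (GL ι F)), ∀ c : F, (x : Matrix ι ι F) *ᵥ e = c • e →
      ∀ y, f y e = 0 → (x : Matrix ι ι F) *ᵥ y = y)
    (τ : ℤ) (hτ : (τ : F) = 4 * (f z e * f e z) - 2) (n : ℕ) (h0 : (cheb τ (n + 1) : F) = 0)
    (h1 : (cheb τ n : F) = 1) : False := by
  obtain ⟨k, hk⟩ : ∃ k, k = R * S := ⟨_, rfl⟩
  have hkX : k ∈ Subgroup.closure ({R, S} : Set (GL ι F)) :=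
    hk ▸ mul_mem (Subgroup.subset_closure (Set.mem_insert _ _))
      (Subgroup.subset_closure (Set.mem_insert_of_mem _ rfl))
  have hke : (k : Matrix ι ι F) *ᵥ e = (4 * (f z e * f e z) - 1) • e + (-2 * f e z) • z := by
    rw [hk, gl_mul_mulVec, hSx, hRx, hf.add_left, hf.smul_left, hee]
    match_scalars <;> ring
  have hkz : (k : Matrix ι ι F) *ᵥ z = (2 * f z e) • e + (-1 : F) • z := by
    rw [hk, gl_mul_mulVec, hSx, hRx, hf.add_left, hf.smul_left, hzz]
    match_scalars <;> ring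
  have hsq : ∀ y, (y = e ∨ y = z) →
      (k : Matrix ι ι F) *ᵥ ((k : Matrix ι ι F) *ᵥ y) = (τ : F) • ((k : Matrix ι ι F) *ᵥ y) - y := by
    rintro y (rfl | rfl)
    · simp only [hke, hkz, mulVec_add, mulVec_smul, hτ]
      match_scalars <;> ring
    · simp only [hke, hkz, mulVec_add, mulVec_smul, hτ]
      match_scalars <;> ring
  have hpow : ∀ y, (y = e ∨ y = z) → ∀ m : ℕ, ((k ^ (m + 1) : GL ι F) : Matrix ι ι F) *ᵥ y =
      (cheb τ (m + 1) : F) • ((k : Matrix ι ι F) *ᵥ y) - (cheb τ m : F) • y := by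
    intro y hy m
    induction m with
    | zero => rw [pow_one]; simp [cheb]
    | succ m ih =>
      rw [pow_succ' k, gl_mul_mulVec, ih, mulVec_sub, mulVec_smul, mulVec_smul, hsq y hy,
        show cheb τ (m + 1 + 1) = τ * cheb τ (m + 1) - cheb τ m from rfl]
      push_cast
      module
  have hne : ∀ y, (y = e ∨ y = z) → ((k ^ (n + 1) : GL ι F) : Matrix ι ι F) *ᵥ y = -y := fun y hy => by
    rw [hpow y hy, h0, h1, zero_smul, one_smul, zero_sub]
  obtain ⟨y, hy⟩ : ∃ y, y = z - f z e • e := ⟨_, rfl⟩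
  have h3 := hX _ (pow_mem hkX (n + 1)) (-1) (by rw [hne e (Or.inl rfl), neg_one_smul]) y
    (by rw [hy, herm_sub_left hf, hf.smul_left, hee, mul_one, sub_self])
  rw [hy, mulVec_sub, mulVec_smul, hne e (Or.inl rfl), hne z (Or.inr rfl)] at h3
  have h4 : (2 : F) • (z - f z e • e) = 0 := by
    have := congrArg (fun w => (z - f z e • e) - w) h3
    simp only [sub_self] at this
    rw [← this]
    module
  exact hz (Submodule.mem_span_singleton.2 ⟨f z e, (sub_eq_zero.1 ((smul_eq_zero.1 h4).resolve_left h2)).symm⟩)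

omit hf in
/-- the sorted list of row norms over 25 elements -/
theorem multiset_five : ∀ a b : Fin 4, a ≤ b → (a = b → a = 3) → ∀ c : Fin 4, b ≤ c → (b = c → b = 3) →
    ∀ d : Fin 4, c ≤ d → (c = d → c = 3) → ∀ e : Fin 4, d ≤ e → (d = e → d = 3) →
    ∀ f : Fin 4, e ≤ f → (e = f → e = 3) →
      (![1, 2, 4, 3] a + ![1, 2, 4, 3] b + ![1, 2, 4, 3] c + ![1, 2, 4, 3] d + ![1, 2, 4, 3] e +
          ![1, 2, 4, 3] f : ℕ) % 5 = 1 →
      (![a, b, c, d, e, f] = ![0, 3, 3, 3, 3, 3] ∨ ![a, b, c, d, e, f] = ![0, 1, 2, 3, 3, 3]) := by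
  decide

omit hf in
/-- the sorted list of row norms over 121 elements -/
theorem multiset_eleven : ∀ a b : Fin 4, a ≤ b → (a = b → a = 3) → ∀ c : Fin 4, b ≤ c → (b = c → b = 3) →
    ∀ d : Fin 4, c ≤ d → (c = d → c = 3) → ∀ e : Fin 4, d ≤ e → (d = e → d = 3) →
    ∀ f : Fin 4, e ≤ f → (e = f → e = 3) →
      (![1, 3, 4, 5] a + ![1, 3, 4, 5] b + ![1, 3, 4, 5] c + ![1, 3, 4, 5] d + ![1, 3, 4, 5] e +
          ![1, 3, 4, 5] f : ℕ) % 11 = 1 →
      ![a, b, c, d, e, f] = ![0, 1, 2, 3, 3, 3] := by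
  decide

end CfsgLib.Perm.Trans.Unit.Dec
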