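import Cfsg.Agent.Lib.Perm.Trans.UnitDecomp.Escape
import Cfsg.Agent.Lib.Perm.Trans.UnitDecomp.Reflect

/-!
# Tools for orthonormal frames with few lines

Above a frame stabiliser in which every non-stabilising element has all entries non-zero: diagonal elements with a
vanishing weighted sum conjugate into the stabiliser, and pairs of quasi-reflections only keep an axis trivially.
-/

set_option autoImplicit false
set_option linter.all false

namespace CfsgLib.Perm.Trans.Unit.Dec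

open scoped Matrix
open Matrix Cfsg.Geo CfsgLib.Perm.Asch CfsgLib.Perm.Trans CfsgLib.Perm.Trans.Unit

variable {ι : Type} [Fintype ι] [DecidableEq ι] {F : Type*} [Field F] [Fintype F]
variable {σ : F ≃+* F} {f : (ι → F) → (ι → F) → F} (hf : IsUnitaryForm σ f)
variable {t : ℕ} {D : Fin t → Submodule F (ι → F)} (hD : IsNondegenerateMDecomposition f 1 D)
include hf hD

/-- every element of `M` outside the stabiliser has only non-zero entries -/
def AllEntries (M : Subgroup (GL ι F)) : Prop :=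
  ∀ x ∈ M, x ∉ decompositionStabilizer D → ∀ l p, f ((x : Matrix ι ι F) *ᵥ bv hf hD l) (bv hf hD p) ≠ 0

/-- the norms of the entries of a row -/
noncomputable def rnorm (g : GL ι F) (l k : Fin t) : F :=
  f ((g : Matrix ι ι F) *ᵥ bv hf hD k) (bv hf hD l) * σ (f ((g : Matrix ι ι F) *ᵥ bv hf hD k) (bv hf hD l))

theorem rnorm_fix (g : GL ι F) (l k : Fin t) : σ (rnorm hf hD g l k) = rnorm hf hD g l k := by
  rw [rnorm, map_mul, hf.involutive, mul_comm]

variable {M : Subgroup (GL ι F)} (hM : M ≤ isoU f) (hH : decompositionStabilizer D ⊓ (isoU f ⊓ specialLinear ι F) ≤ M)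
include hM hH

omit hH in
theorem rnorm_sum {g : GL ι F} (hg : g ∈ M) (l : Fin t) : ∑ k, rnorm hf hD g l k = 1 := by
  have h : f (((g⁻¹ : GL ι F) : Matrix ι ι F) *ᵥ bv hf hD l) (((g⁻¹ : GL ι F) : Matrix ι ι F) *ᵥ bv hf hD l) = 1 := by
    rw [mem_isoU.1 ((isoU f).inv_mem (hM hg)), bv_norm hf hD]
  rw [form_line hf hD] at h
  rw [← h]
  refine Finset.sum_congr rfl fun k _ => ?_
  rw [rnorm, adjoint_col hf hD hM hg, ← hf.herm, mul_comm, hf.herm (bv hf hD k)]

omit hH in
theorem rnorm_ne_zero {g : GL ι F} (hg : g ∈ M) (hgs : g ∉ decompositionStabilizer D) (hnz : AllEntries hf hD M)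
    (l k : Fin t) : rnorm hf hD g l k ≠ 0 := by
  have := hnz g hg hgs k l
  exact mul_ne_zero this (by simpa using this)

/-- a vanishing weighted sum gives a stabilising conjugate -/
theorem stab_of_sum {g : GL ι F} (hg : g ∈ M) (hnz : AllEntries hf hD M) (l : Fin t)
    {e : Fin t → Fˣ} (he : ∀ i, e i ∈ circ σ) (hprod : ∏ i, (e i : F) = 1)
    (hsum : ∑ k, rnorm hf hD g l k * (e k : F) = 0) :
    ∃ r, g * r * g⁻¹ ∈ decompositionStabilizer D ∧
      ∀ x, (r : Matrix ι ι F) *ᵥ bv hf hD x = (e x : F) • bv hf hD x := by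
  classical
  obtain ⟨r, hr, hrk, hrd, hrb, -⟩ := exists_tor hf hD e he
  refine ⟨r, ?_, hrb⟩
  by_contra hns
  have hxM : g * r * g⁻¹ ∈ M :=
    M.mul_mem (M.mul_mem hg (mem_of_keeps hf hD hH hr hrk (hrd.trans hprod))) (M.inv_mem hg)
  refine hnz _ hxM hns l l ?_
  rw [gl_mul_mulVec, gl_mul_mulVec]
  have h1 := sum_line hf hD (((g⁻¹ : GL ι F) : Matrix ι ι F) *ᵥ bv hf hD l)
  rw [← h1, Matrix.mulVec_sum, Matrix.mulVec_sum]
  have key : ∀ s : Finset (Fin t), f (∑ i ∈ s, (g : Matrix ι ι F) *ᵥ ((r : Matrix ι ι F) *ᵥ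
      (f (((g⁻¹ : GL ι F) : Matrix ι ι F) *ᵥ bv hf hD l) (bv hf hD i) • bv hf hD i))) (bv hf hD l) =
      ∑ i ∈ s, rnorm hf hD g l i * (e i : F) := by
    intro s
    induction s using Finset.induction_on with
    | empty => simp [herm_zero_left hf]
    | @insert j s hj ih =>
      rw [Finset.sum_insert hj, Finset.sum_insert hj, hf.add_left, ih, mulVec_smul, hrb, smul_smul, mulVec_smul,
        hf.smul_left, rnorm]
      congr 1
      conv_rhs => arg 1; arg 2; rw [adjoint_col hf hD hM hg, ← hf.herm]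
      ring
  rw [key, hsum]

/-- two equal norms with a suitable trace -/
theorem false_of_pair (ht : 5 ≤ t) {g : GL ι F} (hg : g ∈ M) (hgs : g ∉ decompositionStabilizer D)
    (hnz : AllEntries hf hD M) {l i j : Fin t} (hij : i ≠ j) (hN : rnorm hf hD g l i = rnorm hf hD g l j)
    {u : Fˣ} (hu : u ∈ circ σ) (hu1 : (u : F) ≠ 1)
    (heq : 1 + ((u : F) + σ (u : F) - 2) * rnorm hf hD g l i = 0) : False := by
  classical
  obtain ⟨e, he⟩ : ∃ e : Fin t → Fˣ, e = Function.update (Function.update (fun _ => 1) i u) j u⁻¹ := ⟨_, rfl⟩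
  have hej : e j = u⁻¹ := by rw [he, Function.update_self]
  have hei : e i = u := by rw [he, Function.update_of_ne hij, Function.update_self]
  have heo : ∀ x, x ≠ i → x ≠ j → e x = 1 := fun x h1 h2 => by
    rw [he, Function.update_of_ne h2, Function.update_of_ne h1]
  have hec : ∀ x, e x ∈ circ σ := fun x => by
    rcases eq_or_ne x i with rfl | h1
    · rwa [hei]
    rcases eq_or_ne x j with rfl | h2
    · rw [hej]; exact (circ σ).inv_mem hu
    rw [heo x h1 h2]; exact (circ σ).one_mem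
  obtain ⟨r, hr, hrb⟩ := stab_of_sum hf hD hM hH hg hnz l hec (by
    rw [← Units.coe_prod, Finset.prod_eq_mul i j hij (fun x _ h => heo x h.1 h.2) (by simp) (by simp), hei, hej,
      mul_inv_cancel, Units.val_one]) (by
    rw [Finset.sum_congr rfl (g := fun k => rnorm hf hD g l k + rnorm hf hD g l k * ((e k : F) - 1))
      (fun k _ => by ring), Finset.sum_add_distrib, rnorm_sum hf hD hM hg,
      Finset.sum_eq_add i j hij (fun x _ h => by rw [heo x h.1 h.2, Units.val_one, sub_self, mul_zero]) (by simp) (by simp),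
      hei, hej, ← hN, ← circ_sigma hu]
    linear_combination heq)
  exact false_of_two_entry hf hD hM hH ht hg (hnz g hg hgs) (r := r) (c := fun x => (e x : F)) (i := i) (j := j) hrb
    (fun x h1 h2 => by rw [heo x h1 h2, Units.val_one]) (by rw [hei]; exact hu1) hr

/-- two equal norms with different scalars in a vanishing sum -/
theorem false_of_swap (ht : 5 ≤ t) {g : GL ι F} (hg : g ∈ M) (hgs : g ∉ decompositionStabilizer D)
    (hnz : AllEntries hf hD M) {l i j : Fin t} (hij : i ≠ j) (hN : rnorm hf hD g l i = rnorm hf hD g l j)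
    {e : Fin t → Fˣ} (he : ∀ x, e x ∈ circ σ) (hprod : ∏ x, (e x : F) = 1)
    (hsum : ∑ k, rnorm hf hD g l k * (e k : F) = 0) (hne : e i ≠ e j) : False := by
  classical
  obtain ⟨r₀, hr₀, hb₀⟩ := stab_of_sum hf hD hM hH hg hnz l he hprod hsum
  obtain ⟨r₁, hr₁, hb₁⟩ := stab_of_sum hf hD hM hH hg hnz l (e := fun x => e (Equiv.swap i j x)) (fun x => he _)
    (by rw [Equiv.prod_comp (Equiv.swap i j) fun x => (e x : F)]; exact hprod) (by
    rw [← hsum, ← Equiv.sum_comp (Equiv.swap i j) fun k => rnorm hf hD g l k * (e k : F)]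
    refine Finset.sum_congr rfl fun k _ => ?_
    congr 1
    rcases eq_or_ne k i with rfl | h1
    · rw [Equiv.swap_apply_left, hN]
    rcases eq_or_ne k j with rfl | h2
    · rw [Equiv.swap_apply_right, hN]
    rw [Equiv.swap_apply_of_ne_of_ne h1 h2])
  refine false_of_two_entry hf hD hM hH ht hg (hnz g hg hgs) (r := r₁ * r₀⁻¹)
    (c := fun x => (e (Equiv.swap i j x) : F) * (e x : F)⁻¹) (i := i) (j := j) (fun x => ?_) (fun x h1 h2 => ?_) ?_ ?_
  · have h0 := congrArg (fun v => ((r₀⁻¹ : GL ι F) : Matrix ι ι F) *ᵥ v) (hb₀ x)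
    simp only [gl_inv_mulVec, mulVec_smul] at h0
    rw [gl_mul_mulVec]
    conv_lhs => rw [← one_smul F (((r₀⁻¹ : GL ι F) : Matrix ι ι F) *ᵥ bv hf hD x),
      ← inv_mul_cancel₀ (e x).ne_zero, mul_smul, ← h0, mulVec_smul, hb₁, smul_smul, mul_comm]
  · rw [Equiv.swap_apply_of_ne_of_ne h1 h2, mul_inv_cancel₀ (e x).ne_zero]
  · rw [Equiv.swap_apply_left]
    intro h
    exact hne (Units.ext ((mul_inv_eq_one₀ (e i).ne_zero).1 h).symm)
  · have := (decompositionStabilizer D).mul_mem hr₁ ((decompositionStabilizer D).inv_mem hr₀)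
    rwa [show g * r₁ * g⁻¹ * (g * r₀ * g⁻¹)⁻¹ = g * (r₁ * r₀⁻¹) * g⁻¹ by group] at this

/-- two quasi-reflections, on a frame line and at a moved unit vector -/
theorem exists_refl_data (ht : 4 ≤ t) {g : GL ι F} (hg : g ∈ M) (hgs : g ∉ decompositionStabilizer D)
    (hnz : AllEntries hf hD M) {u : Fˣ} (hu : u ∈ circ σ) (l k : Fin t) :
    ∃ R S : GL ι F, R ∈ isoU f ∧ S ∈ isoU f ∧
      (∀ y, (R : Matrix ι ι F) *ᵥ y = y + (((((u ^ t)⁻¹ : Fˣ) : F) - 1) * f y (bv hf hD l)) • bv hf hD l) ∧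
      (∀ y, (S : Matrix ι ι F) *ᵥ y = y + (((((u ^ t)⁻¹ : Fˣ) : F) - 1) * f y ((g : Matrix ι ι F) *ᵥ bv hf hD k)) •
        ((g : Matrix ι ι F) *ᵥ bv hf hD k)) ∧
      (g : Matrix ι ι F) *ᵥ bv hf hD k ∉ Submodule.span F {bv hf hD l} ∧
      ∀ x ∈ Subgroup.closure ({R, S} : Set (GL ι F)), ∀ c : F, (x : Matrix ι ι F) *ᵥ bv hf hD l = c • bv hf hD l →
        ∀ y, f y (bv hf hD l) = 0 → (x : Matrix ι ι F) *ᵥ y = y := by
  classical
  obtain ⟨v, hv⟩ : ∃ v, v = (u ^ t)⁻¹ := ⟨_, rfl⟩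
  have hvc : v ∈ circ σ := hv ▸ (circ σ).inv_mem ((circ σ).pow_mem hu t)
  rw [← hv]
  -- `M` with the scalars
  let M' : Subgroup (GL ι F) :=
    { carrier := {x | ∃ s ∈ circ σ, ∃ y ∈ M, ∀ w, (x : Matrix ι ι F) *ᵥ w = (s : F) • ((y : Matrix ι ι F) *ᵥ w)}
      one_mem' := ⟨1, (circ σ).one_mem, 1, M.one_mem, fun w => by simp⟩
      mul_mem' := by
        rintro a b ⟨s, hs, y, hy, ha⟩ ⟨s', hs', y', hy', hb⟩
        exact ⟨s * s', (circ σ).mul_mem hs hs', y * y', M.mul_mem hy hy', fun w => by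
          rw [gl_mul_mulVec, ha, hb, mulVec_smul, smul_smul, gl_mul_mulVec, Units.val_mul]⟩
      inv_mem' := by
        rintro a ⟨s, hs, y, hy, ha⟩
        refine ⟨s⁻¹, (circ σ).inv_mem hs, y⁻¹, M.inv_mem hy, fun w => ?_⟩
        have h1 : (a : Matrix ι ι F) *ᵥ (((s⁻¹ : Fˣ) : F) • (((y⁻¹ : GL ι F) : Matrix ι ι F) *ᵥ w)) = w := by
          rw [ha, mulVec_smul, gl_mulVec_inv, smul_smul, Units.mul_inv, one_smul]
        conv_lhs => rw [← h1, gl_inv_mulVec] }
  have hnz' : ∀ x ∈ M', x ∉ decompositionStabilizer D →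
      ∀ a b, f ((x : Matrix ι ι F) *ᵥ bv hf hD a) (bv hf hD b) ≠ 0 := by
    rintro x ⟨s, hs, y, hy, hx⟩ hxs a b
    rw [hx, hf.smul_left]
    refine mul_ne_zero s.ne_zero (hnz y hy (fun hys => hxs (stab_of_cols hf hD fun c => ?_)) a b)
    obtain ⟨π, hπ⟩ := stab_maps hys
    exact ⟨π c, by rw [hx]; exact (D _).smul_mem _ (hπ c _ (bv_mem hf hD c))⟩
  have hqref : ∀ p : Fin t, ∃ R ∈ M', R ∈ isoU f ∧
      ∀ y, (R : Matrix ι ι F) *ᵥ y = y + (((v : F) - 1) * f y (bv hf hD p)) • bv hf hD p := by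
    intro p
    obtain ⟨R, hR, -, hRx⟩ := exists_qref hf (d := bv hf hD p) (by rw [bv_norm hf hD]; exact one_ne_zero)
      (ζ := (v : F)) hvc
    have hRx' : ∀ y, (R : Matrix ι ι F) *ᵥ y = y + (((v : F) - 1) * f y (bv hf hD p)) • bv hf hD p := fun y => by
      rw [hRx, bv_norm hf hD, div_one]
    refine ⟨R, ?_, hR, hRx'⟩
    let e : Fin t → Fˣ := Function.update (fun _ => u) p (u * v)
    have he : ∀ i, e i ∈ circ σ := fun i => by
      simp only [e, Function.update_apply]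
      split_ifs
      · exact (circ σ).mul_mem hu hvc
      · exact hu
    obtain ⟨w, hw, hwk, hwd, -, hwc⟩ := exists_tor hf hD e he
    refine ⟨u⁻¹, (circ σ).inv_mem hu, w, mem_of_keeps hf hD hH hw hwk ?_, fun y => ext_line hf hD fun i => ?_⟩
    · rw [hwd, ← Units.coe_prod, Finset.prod_update_of_mem (Finset.mem_univ p), Finset.prod_const,
        Finset.card_sdiff, Finset.inter_univ, Finset.card_singleton, Finset.card_univ, Fintype.card_fin, hv,
        show u * (u ^ t)⁻¹ * u ^ (t - 1) = (u ^ t)⁻¹ * (u ^ (t - 1) * u) by ac_rfl, ← pow_succ,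
        Nat.sub_add_cancel (by omega), inv_mul_cancel, Units.val_one]
    · rw [hRx', hf.smul_left, hwc, hf.add_left, hf.smul_left]
      rcases eq_or_ne i p with rfl | hi
      · simp only [e, Function.update_self, bv_norm hf hD, Units.val_mul, Units.val_inv_eq_inv_val]
        field_simp [u.ne_zero]
        ring
      · simp only [e, Function.update_of_ne hi, bv_orth hf hD hi.symm, Units.val_inv_eq_inv_val]
        field_simp [u.ne_zero]
        ring
  obtain ⟨R, hRM, hR, hRx⟩ := hqref l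
  obtain ⟨R', hR'M, hR', hR'x⟩ := hqref k
  obtain ⟨z, hz⟩ : ∃ z, z = (g : Matrix ι ι F) *ᵥ bv hf hD k := ⟨_, rfl⟩
  rw [← hz]
  have hgM' : g ∈ M' := ⟨1, (circ σ).one_mem, g, hg, fun w => by simp⟩
  obtain ⟨S, hS⟩ : ∃ S, S = g * R' * g⁻¹ := ⟨_, rfl⟩
  have hSM : S ∈ M' := hS ▸ M'.mul_mem (M'.mul_mem hgM' hR'M) (M'.inv_mem hgM')
  have hSx : ∀ y, (S : Matrix ι ι F) *ᵥ y = y + (((v : F) - 1) * f y z) • z := fun y => by
    rw [hS, gl_mul_mulVec, gl_mul_mulVec, hR'x, mulVec_add, mulVec_smul, gl_mulVec_inv, ← hz,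
      adjoint_col hf hD hM (M.inv_mem hg), inv_inv, ← hz]
  have hother : ∀ i : Fin t, ∃ m, m ≠ i := fun i => by
    obtain ⟨m, -, hm⟩ := Finset.exists_mem_ne (s := (Finset.univ : Finset (Fin t))) (by simp; omega) i
    exact ⟨m, hm⟩
  refine ⟨R, S, hR, hS ▸ (isoU f).mul_mem ((isoU f).mul_mem (hM hg) hR') ((isoU f).inv_mem (hM hg)), hRx, hSx,
    fun hmem => ?_, fun x hx c hxc y hy => ?_⟩
  · obtain ⟨a, ha⟩ := Submodule.mem_span_singleton.1 hmem
    obtain ⟨m, hm⟩ := hother l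
    refine hnz g hg hgs k m ?_
    rw [← hz, ← ha, hf.smul_left, bv_orth hf hD hm.symm, mul_zero]
  have hxM : x ∈ M' :=
    (Subgroup.closure_le _).2 (Set.insert_subset hRM (Set.singleton_subset_iff.2 hSM)) hx
  have hxs : x ∈ decompositionStabilizer D := by
    by_contra h
    obtain ⟨m, hm⟩ := hother l
    exact hnz' x hxM h l m (by rw [hxc, hf.smul_left, bv_orth hf hD hm.symm, mul_zero])
  obtain ⟨W, hW⟩ : ∃ W, W = Submodule.span F ({bv hf hD l, z} : Set (ι → F)) := ⟨_, rfl⟩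
  have hxW : ∀ w, (x : Matrix ι ι F) *ᵥ w - w ∈ W := by
    clear hxc hxs hxM
    induction hx using Subgroup.closure_induction with
    | mem a ha =>
      intro w
      rcases ha with rfl | ha
      · rw [hRx, add_sub_cancel_left]
        exact W.smul_mem _ (hW ▸ Submodule.subset_span (by simp))
      · rw [Set.mem_singleton_iff.1 ha, hSx, add_sub_cancel_left]
        exact W.smul_mem _ (hW ▸ Submodule.subset_span (by simp))
    | one => intro w; simp
    | mul a b _ _ iha ihb =>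
      intro w
      rw [gl_mul_mulVec]
      simpa using W.add_mem (iha ((b : Matrix ι ι F) *ᵥ w)) (ihb w)
    | inv a _ iha =>
      intro w
      have := W.neg_mem (iha (((a⁻¹ : GL ι F) : Matrix ι ι F) *ᵥ w))
      rwa [gl_mulVec_inv, neg_sub] at this
  obtain ⟨π, d, hd⟩ := stab_cols hD hf hxs
  have hπl : π l = l := by
    by_contra hne
    have h1 := congrArg (fun w => f w (bv hf hD (π l))) ((hd l).symm.trans hxc)
    simp only [hf.smul_left, bv_norm hf hD, bv_orth hf hD (Ne.symm hne), mul_zero, mul_one] at h1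
    have h2 := hd l
    rw [h1, zero_smul, gl_mulVec_eq_zero] at h2
    exact bv_ne_zero hf hD l h2
  have hfix : ∀ j, j ≠ l → (x : Matrix ι ι F) *ᵥ bv hf hD j = bv hf hD j := by
    intro j hj
    obtain ⟨α, β, hαβ⟩ := Submodule.mem_span_pair.1 (hW ▸ hxW (bv hf hD j))
    rw [hd] at hαβ
    have hπj : π j ≠ l := fun e => hj (π.injective (e.trans hπl.symm))
    obtain ⟨m, -, hm⟩ := Finset.exists_mem_notMem_of_card_lt_card (s := {j, π j, l})
      (t := (Finset.univ : Finset (Fin t))) (lt_of_le_of_lt Finset.card_le_three (by simp; omega))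
    simp only [Finset.mem_insert, Finset.mem_singleton, not_or] at hm
    have em := congrArg (fun w => f w (bv hf hD m)) hαβ
    have el := congrArg (fun w => f w (bv hf hD l)) hαβ
    simp only [hf.add_left, hf.smul_left, herm_sub_left hf, bv_norm hf hD, bv_orth hf hD hπj, bv_orth hf hD hj,
      bv_orth hf hD (Ne.symm hm.1), bv_orth hf hD (Ne.symm hm.2.1), bv_orth hf hD (Ne.symm hm.2.2), mul_zero, mul_one,
      sub_zero, zero_add] at em el
    obtain rfl := (mul_eq_zero.1 em).resolve_right (hz ▸ hnz g hg hgs k m)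
    rw [zero_mul, add_zero] at el
    rw [el, zero_smul, zero_smul, add_zero] at hαβ
    rw [hd]
    exact sub_eq_zero.1 hαβ.symm
  rw [mulVec_line hf hD x y]
  conv_rhs => rw [← sum_line hf hD y]
  refine Finset.sum_congr rfl fun i _ => ?_
  rcases eq_or_ne i l with rfl | hi
  · rw [hy, zero_smul, zero_smul]
  · rw [hfix i hi]

end CfsgLib.Perm.Trans.Unit.Dec
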